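import Mathlib.Data.Complex.Basic
import Mathlib.Algebra.Order.BigOperators.Group.Finset
import Mathlib.Data.Fintype.Card
import Mathlib.Data.Nat.Prime.Basic
import Mathlib.Tactic.Linarith
import Mathlib.Tactic.LinearCombination
import Mathlib.Tactic.IntervalCases
import Mathlib.Tactic.Ring
import Mathlib.Algebra.BigOperators.Ring.Finset

/-!
Orthogonal integer columns of square sum nine, congruent modulo three along each row.
-/

namespace Cfsg.Agent.Block.ExtraThree

open Finset

variable {ι : Type*} [DecidableEq ι] {m : ℕ}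

/-- The entry `-2` at the special rows and `1` elsewhere. -/
def nval (srow : Fin m → ι) (r : ι) (k : Fin m) : ℤ := if r = srow k then -2 else 1

/-- Six rows, one special row for each column. -/
structure Frame (S : Finset ι) (o : ι) (d : ι → Fin m → ℤ) (srow : Fin m → ι) (τ : ι → ℤ) :
    Prop where
  card : S.card = 6
  mem : ∀ k, srow k ∈ S
  inj : Function.Injective srow
  ne_o : ∀ k, srow k ≠ o
  sign : ∀ r, τ r = 1 ∨ τ r = -1
  val : ∀ r ∈ S, ∀ k, d r k = τ r * nval srow r k

theorem rows_small {S : Finset ι} {o : ι} (ho : o ∈ S) {d : ι → Fin m → ℤ} (hdo : ∀ k, d o k = 1)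
    (hgram : ∀ j k, ∑ r ∈ S, d r j * d r k = if j = k then 9 else 0) {r : ι} (hr : r ∈ S)
    (k : Fin m) : -2 ≤ d r k ∧ d r k ≤ 2 := by
  have h := hgram k k
  rw [if_pos rfl] at h
  by_cases hro : r = o
  · rw [hro, hdo]; omega
  · have h2 : d r k * d r k + d o k * d o k ≤ 9 := by
      rw [← h, ← Finset.sum_pair (f := fun r => d r k * d r k) hro]
      refine Finset.sum_le_sum_of_subset_of_nonneg (fun x hx => ?_) fun x _ _ => mul_self_nonneg _
      rcases Finset.mem_insert.1 hx with rfl | hx
      · exact hr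
      · rwa [Finset.mem_singleton.1 hx]
    rw [hdo] at h2
    constructor <;> nlinarith

/-- The shape of the columns. -/
theorem rows {S : Finset ι} {o : ι} (ho : o ∈ S) {d : ι → Fin m → ℤ} [NeZero m]
    (hdo : ∀ k, d o k = 1) (hcong : ∀ r ∈ S, ∀ j k, (3 : ℤ) ∣ d r j - d r k)
    (hgram : ∀ j k, ∑ r ∈ S, d r j * d r k = if j = k then 9 else 0)
    (hne : ∀ r ∈ S, d r 0 ≠ 0)
    (hpar : m = 1 → ∃ w : ι → ℤ, w o = 1 ∧ ∑ r ∈ S, d r 0 * w r = 0) :
    (m = 1 ∧ ∀ r ∈ S, ∀ k, d r k = 1 ∨ d r k = -1) ∨ ∃ srow τ, Frame S o d srow τ := by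
  classical
  have hcases : ∀ r ∈ S, ∀ k, d r k = 1 ∨ d r k = -1 ∨ d r k = 2 ∨ d r k = -2 := by
    intro r hr k
    obtain ⟨a, b⟩ := rows_small ho hdo hgram hr k
    obtain ⟨a0, b0⟩ := rows_small ho hdo hgram hr (0 : Fin m)
    have h0 := hne r hr
    have hc := hcong r hr k 0
    omega
  let Q : Fin m → Finset ι := fun k => S.filter fun r => d r k = 2 ∨ d r k = -2
  have hQS : ∀ k, Q k ⊆ S := fun k => Finset.filter_subset _ _
  have hoQ : ∀ k, o ∉ Q k := fun k h => by
    have := (Finset.mem_filter.1 h).2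
    rw [hdo] at this
    omega
  have hcount : ∀ k, (S.card : ℤ) + 3 * ((Q k).card : ℤ) = 9 := by
    intro k
    have h := hgram k k
    rw [if_pos rfl] at h
    rw [← h, Finset.sum_congr rfl fun r hr => show d r k * d r k =
      1 + 3 * (if d r k = 2 ∨ d r k = -2 then 1 else 0) by
        rcases hcases r hr k with e | e | e | e <;> rw [e] <;> norm_num,
      Finset.sum_add_distrib, ← Finset.mul_sum, Finset.sum_boole, Finset.sum_const, nsmul_eq_mul,
      mul_one]
  obtain ⟨q, hq⟩ : ∃ q, q = (Q 0).card := ⟨_, rfl⟩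
  have hqk : ∀ k, (Q k).card = q := fun k => by
    have := hcount k
    have := hcount 0
    omega
  have hqS : q + 1 ≤ S.card := by
    have := Finset.card_le_card (Finset.insert_subset ho (hQS 0))
    rw [Finset.card_insert_of_notMem (hoQ 0)] at this
    omega
  have hS : (S.card : ℤ) + 3 * q = 9 := hq ▸ hcount 0
  have hprod : ∀ r ∈ S, ∀ j k, d r j * d r k =
      (if r ∈ Q j then -2 else 1) * (if r ∈ Q k then -2 else 1) := by
    intro r hr j k
    have hc := hcong r hr j k
    simp only [Q, Finset.mem_filter, hr, true_and]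
    rcases hcases r hr j with e | e | e | e <;> rcases hcases r hr k with e' | e' | e' | e' <;>
      rw [e, e'] at hc ⊢ <;> first
        | omega
        | norm_num
  rcases (by omega : q = 0 ∨ q = 1 ∨ q = 2) with rfl | rfl | rfl
  · refine .inl ⟨?_, fun r hr k => ?_⟩
    · have hm : 0 < m := Nat.pos_of_ne_zero (NeZero.ne m)
      by_contra hm1
      have hne' : (0 : Fin m) ≠ ⟨1, by omega⟩ := fun e => by simpa using congrArg Fin.val e
      have h := hgram 0 ⟨1, by omega⟩
      rw [if_neg hne', Finset.sum_congr rfl fun r hr => by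
        rw [hprod r hr, if_neg (by simp [Finset.card_eq_zero.1 (hqk 0)]),
          if_neg (by simp [Finset.card_eq_zero.1 (hqk ⟨1, by omega⟩)])], Finset.sum_const,
        nsmul_eq_mul] at h
      have : (S.card : ℤ) = 0 := by simpa using h
      omega
    · have hk := Finset.card_eq_zero.1 (hqk k)
      have hn : r ∉ Q k := by simp [hk]
      simp only [Q, Finset.mem_filter, hr, true_and] at hn
      rcases hcases r hr k with e | e | e | e
      · exact .inl e
      · exact .inr e
      · exact absurd (.inl e) hn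
      · exact absurd (.inr e) hn
  · choose srow hsrow using fun k => Finset.card_eq_one.1 (hqk k)
    have hmem : ∀ k r, r ∈ Q k ↔ r = srow k := fun k r => by rw [hsrow k, Finset.mem_singleton]
    have hsS : ∀ k, srow k ∈ S := fun k => hQS k ((hmem k _).2 rfl)
    refine .inr ⟨srow, fun r => if d r 0 % 3 = 1 then 1 else -1, ⟨by omega, hsS, ?_,
      fun k e => hoQ k ((hmem k o).2 e.symm), fun r => ?_, fun r hr k => ?_⟩⟩
    · intro j k hjk
      by_contra hne'
      have h := hgram j k
      rw [if_neg hne', Finset.sum_congr rfl fun r hr => show d r j * d r k =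
        1 + 3 * (if r = srow j then 1 else 0) by
          rw [hprod r hr]
          simp only [hmem, ← hjk]
          split_ifs <;> norm_num,
        Finset.sum_add_distrib, ← Finset.mul_sum, Finset.sum_ite_eq', if_pos (hsS j),
        Finset.sum_const, nsmul_eq_mul, mul_one] at h
      have : 0 < S.card := Finset.card_pos.2 ⟨o, ho⟩
      omega
    · show (if d r 0 % 3 = 1 then (1 : ℤ) else -1) = 1 ∨ (if d r 0 % 3 = 1 then (1 : ℤ) else -1) = -1
      split_ifs <;> simp
    · have hc := hcong r hr k 0
      have hh := hmem k r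
      simp only [Q, Finset.mem_filter, hr, true_and] at hh
      show d r k = (if d r 0 % 3 = 1 then (1 : ℤ) else -1) * nval srow r k
      rw [nval]
      by_cases hs' : r = srow k
      · have h2 := hh.2 hs'
        rw [if_pos hs']
        split_ifs <;> omega
      · have h2 := mt hh.1 hs'
        rw [if_neg hs']
        have h3 := hcases r hr k
        split_ifs <;> omega
  · exfalso
    have hS3 : S.card = 3 := by omega
    have hQe : ∀ k, Q k = S.erase o := fun k => by
      refine Finset.eq_of_subset_of_card_le (fun r hr => Finset.mem_erase.2 ⟨fun e => hoQ k (e ▸ hr),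
        hQS k hr⟩) ?_
      rw [Finset.card_erase_of_mem ho, hqk k, hS3]
    by_cases hm1 : m = 1
    · obtain ⟨w, hwo, hw⟩ := hpar hm1
      rw [← Finset.add_sum_erase S _ ho, hdo, hwo, ← hQe 0] at hw
      have h2 : (2 : ℤ) ∣ ∑ r ∈ Q 0, d r 0 * w r := Finset.dvd_sum fun r hr => by
        rcases (Finset.mem_filter.1 hr).2 with e | e <;> rw [e]
        · exact dvd_mul_right _ _
        · exact (dvd_neg.2 dvd_rfl).mul_right _
      omega
    · have hm : 0 < m := Nat.pos_of_ne_zero (NeZero.ne m)
      have hne' : (0 : Fin m) ≠ ⟨1, by omega⟩ := fun e => by simpa using congrArg Fin.val e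
      have h := hgram 0 ⟨1, by omega⟩
      rw [if_neg hne', ← Finset.add_sum_erase S _ ho, hdo, hdo, Finset.sum_congr rfl fun r hr => by
        rw [hprod r (Finset.mem_of_mem_erase hr), if_pos (hQe 0 ▸ hr), if_pos (hQe _ ▸ hr)],
        Finset.sum_const, Finset.card_erase_of_mem ho, hS3] at h
      norm_num at h

namespace Frame

variable {S : Finset ι} {o : ι} {d : ι → Fin m → ℤ} {srow : Fin m → ι} {τ : ι → ℤ}
  (F : Frame S o d srow τ)
include F

theorem tau_sq (r : ι) : τ r * τ r = 1 := by
  rcases F.sign r with e | e <;> rw [e] <;> norm_num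

/-- The rows with all entries normalised to one. -/
def plain (_F : Frame S o d srow τ) : Finset ι := S \ Finset.univ.image srow

theorem mem_plain {r : ι} : r ∈ F.plain ↔ r ∈ S ∧ ∀ k, r ≠ srow k := by
  simp [plain, eq_comm]

theorem card_plain : F.plain.card = 6 - m := by
  rw [plain, Finset.card_sdiff_of_subset (fun r hr => by
    obtain ⟨k, -, rfl⟩ := Finset.mem_image.1 hr
    exact F.mem k), F.card, Finset.card_image_of_injective _ F.inj, Finset.card_univ,
    Fintype.card_fin]

theorem o_plain (ho : o ∈ S) : o ∈ F.plain := F.mem_plain.2 ⟨ho, fun k => (F.ne_o k).symm⟩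

theorem tau_o (ho : o ∈ S) (hdo : ∀ k, d o k = 1) [NeZero m] : τ o = 1 := by
  have h := F.val o ho 0
  rw [hdo, nval, if_neg (F.ne_o 0).symm, mul_one] at h
  exact h.symm

/-- The coefficient vector of a plain row against the special row of the first column. -/
def evec [NeZero m] (_F : Frame S o d srow τ) (i : ι) (r : ι) : ℤ :=
  (if r = i then τ i else 0) - (if r = srow 0 then τ (srow 0) else 0)

theorem sum_evec [NeZero m] {i : ι} (hi : i ∈ F.plain) (x : ι → ℂ) :
    ∑ r ∈ S, (F.evec i r : ℂ) * x r = (τ i : ℂ) * x i - (τ (srow 0) : ℂ) * x (srow 0) := by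
  simp only [evec, Int.cast_sub, sub_mul, Finset.sum_sub_distrib]
  congr 1
  · rw [Finset.sum_eq_single i (fun r _ hr => by simp [hr])
      (fun h => absurd (F.mem_plain.1 hi).1 h), if_pos rfl]
  · rw [Finset.sum_eq_single (srow 0) (fun r _ hr => by simp [hr])
      (fun h => absurd (F.mem 0) h), if_pos rfl]

theorem evec_col [NeZero m] {i : ι} (hi : i ∈ F.plain) (k : Fin m) :
    τ i * d i k - τ (srow 0) * d (srow 0) k = if k = 0 then 3 else 0 := by
  rw [F.val i (F.mem_plain.1 hi).1, F.val _ (F.mem 0), ← mul_assoc, ← mul_assoc, F.tau_sq, F.tau_sq,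
    one_mul, one_mul, nval, nval, if_neg ((F.mem_plain.1 hi).2 k)]
  by_cases hk : k = 0
  · rw [hk, if_pos rfl, if_pos rfl]; norm_num
  · rw [if_neg fun e => hk (F.inj e).symm, if_neg hk]; norm_num

/-- A vector orthogonal to the columns and to all the coefficient vectors vanishes. -/
theorem complete [NeZero m] {x : ι → ℂ} (hcol : ∀ k, ∑ r ∈ S, (d r k : ℂ) * x r = 0)
    (he : ∀ i ∈ F.plain, (τ i : ℂ) * x i - (τ (srow 0) : ℂ) * x (srow 0) = 0) :
    ∀ r ∈ S, x r = 0 := by
  obtain ⟨c, hc⟩ : ∃ c, c = (τ (srow 0) : ℂ) * x (srow 0) := ⟨_, rfl⟩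
  obtain ⟨y, hy⟩ : ∃ y : ι → ℂ, ∀ r, y r = (τ r : ℂ) * x r := ⟨_, fun _ => rfl⟩
  have hk : ∀ k, (∑ r ∈ S, y r) = 3 * y (srow k) := by
    intro k
    have h := hcol k
    rw [Finset.sum_congr rfl fun r hr => show (d r k : ℂ) * x r =
      y r - 3 * (if r = srow k then y r else 0) by
        rw [F.val r hr k, hy, nval]
        split_ifs <;> push_cast <;> ring,
      Finset.sum_sub_distrib, ← Finset.mul_sum, Finset.sum_ite_eq', if_pos (F.mem k),
      sub_eq_zero] at h
    exact h
  have hall : ∀ r ∈ S, y r = c := by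
    intro r hr
    by_cases hp : r ∈ F.plain
    · rw [hy, hc]
      exact sub_eq_zero.1 (he r hp)
    · simp only [mem_plain, hr, true_and, not_forall, not_not] at hp
      obtain ⟨k, rfl⟩ := hp
      have h1 := hk k
      rw [hk 0, hy (srow 0), ← hc] at h1
      exact (mul_left_cancel₀ (by norm_num) h1).symm
  have h0 := hk 0
  rw [Finset.sum_congr rfl hall, Finset.sum_const, F.card, hy (srow 0), ← hc, nsmul_eq_mul] at h0
  have hc0 : c = 0 := by
    push_cast at h0
    linear_combination (1 / 3 : ℂ) * h0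
  intro r hr
  have h := hall r hr
  rw [hy, hc0] at h
  rcases mul_eq_zero.1 h with e | e
  · rcases F.sign r with e' | e' <;> simp [e'] at e
  · exact e

end Frame

end Cfsg.Agent.Block.ExtraThree
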