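import Cfsg.Agent.Lib.Block.ExtraThree.Sections
import Cfsg.Agent.Lib.Block.ExtraThree.Rows
import Cfsg.Agent.Lib.Char.NilpotentData
import Cfsg.Agent.Lib.Char.DecompBrauer

/-!
The principal block with the central element of order three central in the group: its members
trivial at `z` form six rows, and every other eigenvalue class has the same span on regular elements.
-/

open scoped ComplexConjugate

namespace Cfsg.Agent.Block.ExtraThree

open Cfsg Cfsg.Agent.Block Cfsg.Agent.Char Cfsg.Agent.Char.SecInner Cfsg.Agent.Char.Spec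
  Cfsg.Agent.Char.BP Cfsg.Agent.Char.Star

set_option linter.unusedSectionVars false
set_option linter.style.haveILetI false

universe u

variable {G : Type u} [Group G] [Fintype G] {M : Ideal AlgInt} [hp3 : Fact (Nat.Prime 3)]

theorem cube_root {w : ℂ} (hw : w ^ 3 = 1) :
    conj w = w ^ 2 ∧ w * conj w = 1 ∧ (w = 1 ∨ w ^ 2 + w + 1 = 0) := by
  have hn : ‖w‖ = 1 := Complex.norm_eq_one_of_pow_eq_one hw (by norm_num)
  have hne : w ≠ 0 := fun e => by rw [e, norm_zero] at hn; exact zero_ne_one hn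
  have h1 : w * conj w = 1 := by rw [Complex.mul_conj', hn]; norm_num
  refine ⟨mul_left_cancel₀ hne (by rw [h1]; linear_combination -hw), h1, ?_⟩
  have : (w - 1) * (w ^ 2 + w + 1) = 0 := by linear_combination hw
  rcases mul_eq_zero.1 this with e | e
  · exact .inl (sub_eq_zero.1 e)
  · exact .inr e

theorem primitive_cube {ζ : ℂ} (h : ζ ^ 2 + ζ + 1 = 0) :
    ζ ^ 3 = 1 ∧ ζ ≠ 1 ∧ conj ζ = ζ ^ 2 ∧ conj ζ ≠ 1 ∧ ζ ≠ conj ζ := by
  have h3 : ζ ^ 3 = 1 := by linear_combination (ζ - 1) * h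
  have h1 : ζ ≠ 1 := fun e => by rw [e] at h; norm_num at h
  obtain ⟨hc, hm, -⟩ := cube_root h3
  refine ⟨h3, h1, hc, fun e => h1 (by rwa [e, mul_one] at hm), fun e => h1 ?_⟩
  rw [hc] at e
  calc ζ = ζ ^ 2 := e
    _ = ζ ^ 3 := by rw [pow_succ ζ 2]; nth_rw 2 [← e]; ring
    _ = 1 := h3

theorem exists_primitive_cube : ∃ ζ : ℂ, ζ ^ 2 + ζ + 1 = 0 := by
  obtain ⟨ζ, hζ⟩ : ∃ ζ : ℂ, IsPrimitiveRoot ζ 3 := ⟨_, Complex.isPrimitiveRoot_exp 3 (by norm_num)⟩
  refine ⟨ζ, (cube_root hζ.pow_eq_one).2.2.resolve_left fun e => ?_⟩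
  exact hζ.ne_one (by norm_num) e

theorem T1_sub_left (f g h : G → ℂ) :
    T 3 1 (fun y => f y - g y) h = T 3 1 f h - T 3 1 g h := by
  simp only [T_one_eq, sub_mul, Finset.sum_sub_distrib, mul_sub]

theorem T1_sum_left {κ : Type*} (s : Finset κ) (a : κ → ℂ) (F : κ → G → ℂ) (h : G → ℂ) :
    T 3 1 (fun y => ∑ i ∈ s, a i * F i y) h = ∑ i ∈ s, a i * T 3 1 (F i) h := by
  simp only [T_one_eq, Finset.sum_mul, Finset.mul_sum]
  rw [Finset.sum_comm]
  exact Finset.sum_congr rfl fun i _ => Finset.sum_congr rfl fun y _ => by ring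

theorem T1_sum_right {κ : Type*} (s : Finset κ) (a : κ → ℂ) (F : κ → G → ℂ) (h : G → ℂ) :
    T 3 1 h (fun y => ∑ i ∈ s, a i * F i y) = ∑ i ∈ s, conj (a i) * T 3 1 h (F i) := by
  rw [T_conj, T1_sum_left, map_sum]
  exact Finset.sum_congr rfl fun i _ => by rw [map_mul, ← T_conj]

theorem eq_zero_of_T1_self {f : G → ℂ} (hf : T 3 1 f f = 0) {y : G} (hy : ¬ 3 ∣ orderOf y) :
    f y = 0 := by
  rw [T_one_eq, mul_eq_zero] at hf
  rcases hf with h | h
  · simp [Nat.card_pos.ne'] at h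
  · have h2 : ∑ g ∈ Finset.univ.filter (fun g : G => ¬ 3 ∣ orderOf g), Complex.normSq (f g) = 0 := by
      have h' := congrArg Complex.re h
      simpa [Complex.mul_conj] using h'
    exact Complex.normSq_eq_zero.1 ((Finset.sum_eq_zero_iff_of_nonneg
      fun g _ => Complex.normSq_nonneg (f g)).1 h2 y (Finset.mem_filter.2 ⟨Finset.mem_univ _, hy⟩))

theorem sum_cent_central {x : G} (hx : x ∈ Subgroup.center G)
    [Fintype (Subgroup.centralizer ({x} : Set G))] (F : G → ℂ) :
    (Nat.card (Subgroup.centralizer ({x} : Set G)) : ℂ)⁻¹ *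
        ∑ c ∈ Finset.univ.filter (fun c : Subgroup.centralizer ({x} : Set G) => ¬ 3 ∣ orderOf c),
          F (c : G) =
      (Nat.card G : ℂ)⁻¹ * ∑ g ∈ Finset.univ.filter (fun g : G => ¬ 3 ∣ orderOf g), F g := by
  classical
  have htop := centralizer_eq_top (G := G) hx
  have hmem : ∀ g : G, g ∈ Subgroup.centralizer ({x} : Set G) := fun g => by
    rw [htop]; exact Subgroup.mem_top g
  rw [Nat.card_congr (Equiv.subtypeUnivEquiv hmem)]
  congr 1
  refine Finset.sum_nbij' (fun c => (c : G)) (fun g => ⟨g, hmem g⟩) (fun c hc => ?_) (fun g hg => ?_)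
    (fun c _ => rfl) (fun g _ => rfl) fun c _ => rfl
  · simpa [Subgroup.orderOf_coe] using hc
  · simpa [Subgroup.orderOf_mk] using hg

/-- The eigenvalue classes of the principal block at a central element. -/
noncomputable def cls (M : Ideal AlgInt) (z : G) (c : ℂ) : Finset (IrrCharacter G) := by
  classical
  exact (bset M G).filter fun ξ => centralChar (ξ : G → ℂ) z = c

theorem mem_cls {z : G} {c : ℂ} {ξ : IrrCharacter G} :
    ξ ∈ cls M z c ↔ ξ ∈ principalBlock M G ∧ centralChar (ξ : G → ℂ) z = c := by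
  classical
  simp [cls, mem_bset]

/-- The data of the centralizer used for the isometry. -/
structure Local {m l : ℕ} [NeZero m] (M : Ideal AlgInt) (z : G) (u : Fin m → G) (ζ : ℂ)
    (a g : Fin l → G → ℂ) (i₀ : Fin l) : Prop where
  gen : ∀ i, IsGeneralizedCharacter G (a i)
  regular : ∀ i y, ¬ 3 ∣ orderOf y → a i y = 0
  outside : ∀ i (ξ : IrrCharacter G), ξ ∉ principalBlock M G → classInner (a i) (ξ : G → ℂ) = 0
  val_z : ∀ i y, ¬ 3 ∣ orderOf y → a i (z * y) = (ζ - 1) * g i y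
  val_zinv : ∀ i y, ¬ 3 ∣ orderOf y → a i (z⁻¹ * y) = (conj ζ - 1) * g i y
  val_u : ∀ i k, ∀ c : Subgroup.centralizer ({u k} : Set G), ¬ 3 ∣ orderOf c →
    a i (u k * (c : G)) = if k = 0 then -3 else 0
  g_class : ∀ i, IsClassFunction G (g i)
  gram : ∀ i j, T 3 1 (g i) (g j) = if i = j then (1 / 3 : ℂ) else 0
  g_orth : ∀ i (f : G → ℂ), (∀ ξ ∈ principalBlock M G, T 3 1 f (ξ : G → ℂ) = 0) → T 3 1 f (g i) = 0
  triv : ∀ i, classInner (a i) (trivialIrr G : G → ℂ) = if i = i₀ then -1 else 0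
  complete : ∀ f : G → ℂ, (∀ i, T 3 1 f (g i) = 0) →
    ∀ ξ ∈ principalBlock M G, T 3 1 f (ξ : G → ℂ) = 0

/-- A power map onto the regular parts. -/
theorem exists_regPow :
    ∃ k : ℕ, (∀ y : G, ¬ 3 ∣ orderOf y → y ^ k = y) ∧
      (∀ x : G, (∃ j, orderOf x = 3 ^ j) → x ^ k = 1) ∧
      ∀ θ : G → ℂ, IsCharacter G θ → IsGeneralizedCharacter G (fun g => θ (g ^ k)) := by
  classical
  set N := Nat.card G with hN
  set a := N.factorization 3 with ha
  set n := N / 3 ^ a with hn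
  have hNn : N = 3 ^ a * n := (Nat.ordProj_mul_ordCompl_eq_self _ 3).symm
  have hcop : (3 ^ a).Coprime n :=
    (Nat.prime_three.coprime_iff_not_dvd.2 (Nat.not_dvd_ordCompl Nat.prime_three
      Nat.card_pos.ne')).pow_left _
  obtain ⟨k, hk1, hk2⟩ := Nat.chineseRemainder hcop.symm 1 0
  have hreg : ∀ y : G, orderOf y ∣ n → y ^ k = y := fun y hy => by
    conv_rhs => rw [← pow_one y]
    exact pow_eq_pow_iff_modEq.2 (hk1.of_dvd hy)
  have hpp : ∀ x : G, orderOf x ∣ 3 ^ a → x ^ k = 1 := fun x hx => by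
    rw [← pow_zero x]
    exact pow_eq_pow_iff_modEq.2 (hk2.of_dvd hx)
  refine ⟨k, fun y hy => hreg y ?_, fun x hx => hpp x ?_, fun θ hθ => ?_⟩
  · have h1 : orderOf y ∣ 3 ^ a * n := hNn ▸ orderOf_dvd_natCard y
    exact ((Nat.prime_three.coprime_iff_not_dvd.2 hy).pow_left a).symm.dvd_of_dvd_mul_left h1
  · obtain ⟨j, hj⟩ := hx
    rw [hj]
    exact pow_dvd_pow 3 ((Nat.prime_three.pow_dvd_iff_le_factorization Nat.card_pos.ne').1
      (hj ▸ orderOf_dvd_natCard x))
  · refine Brauer.isGenChar_of_elementary (fun g t => ?_) fun E hE => ?_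
    · rw [conj_pow]
      exact IsChar.classFun hθ (g ^ k) t
    · obtain ⟨q, hq, hqE⟩ := hE
      haveI := Brauer.isNilpotent_of_elementary hq hqE
      obtain ⟨φ, hφ⟩ := Decomp.exists_regular_hom (p := 3) E (k := k) hreg hpp
      have he : (fun g : E => θ ((g : G) ^ k)) = fun g => θ (φ g) := funext fun g => by rw [hφ]
      rw [he]
      exact IsGenChar.comp φ (IsGenChar.of_isCharacter hθ)

namespace Setup

variable {m : ℕ} {P : Sylow 3 G} {z : G} {u : Fin m → G} (hs : Setup P z u)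
  (hz : z ∈ Subgroup.center G)
include hs hz

theorem wz_cube (ξ : IrrCharacter G) : centralChar (ξ : G → ℂ) z ^ 3 = 1 := by
  obtain ⟨w, hw⟩ : ∃ w, w = centralChar (ξ : G → ℂ) z := ⟨_, rfl⟩
  have h3 : z * (z * (z * 1)) = 1 := by
    rw [mul_one, ← mul_assoc, ← pow_three', ← hs.zord, pow_orderOf_eq_one]
  have h := congrArg (ξ : G → ℂ) h3
  rw [centralChar_of_center hz, centralChar_of_center hz, centralChar_of_center hz, ← hw] at h
  rw [← hw]
  refine mul_right_cancel₀ (irr_one_ne_zero ξ) ?_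
  linear_combination h

theorem zinv_mul (ξ : IrrCharacter G) (y : G) :
    (ξ : G → ℂ) (z⁻¹ * y) = conj (centralChar (ξ : G → ℂ) z) * (ξ : G → ℂ) y := by
  have h2 : z⁻¹ = z * z := by
    rw [inv_eq_iff_mul_eq_one, ← pow_three, ← hs.zord, pow_orderOf_eq_one]
  rw [h2, mul_assoc, centralChar_of_center hz, centralChar_of_center hz,
    (cube_root (hs.wz_cube hz ξ)).1]
  ring

theorem T_z (ξ η : IrrCharacter G) :
    T 3 z (ξ : G → ℂ) (η : G → ℂ) = centralChar (ξ : G → ℂ) z * conj (centralChar (η : G → ℂ) z) *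
      T 3 1 (ξ : G → ℂ) (η : G → ℂ) := by
  classical
  cases nonempty_fintype (Subgroup.centralizer ({z} : Set G))
  rw [T_eq_cent hs.z_pow (irr_classFun ξ) (irr_classFun η), sum_cent_central hz
    (fun g => (ξ : G → ℂ) (z * g) * conj ((η : G → ℂ) (z * g))), T_one_eq, Finset.mul_sum,
    Finset.mul_sum, Finset.mul_sum]
  refine Finset.sum_congr rfl fun y _ => ?_
  rw [centralChar_of_center hz, centralChar_of_center hz, map_mul]
  ring

theorem T_zinv (ξ η : IrrCharacter G) :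
    T 3 z⁻¹ (ξ : G → ℂ) (η : G → ℂ) = conj (centralChar (ξ : G → ℂ) z) *
      centralChar (η : G → ℂ) z * T 3 1 (ξ : G → ℂ) (η : G → ℂ) := by
  classical
  cases nonempty_fintype (Subgroup.centralizer ({z⁻¹} : Set G))
  rw [T_eq_cent hs.zinv_pow (irr_classFun ξ) (irr_classFun η), sum_cent_central (inv_mem hz)
    (fun g => (ξ : G → ℂ) (z⁻¹ * g) * conj ((η : G → ℂ) (z⁻¹ * g))), T_one_eq, Finset.mul_sum,
    Finset.mul_sum, Finset.mul_sum]
  refine Finset.sum_congr rfl fun y _ => ?_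
  rw [hs.zinv_mul hz, hs.zinv_mul hz, map_mul, Complex.conj_conj]
  ring

/-- A member of the block with nontrivial eigenvalue vanishes at the non-central elements. -/
theorem u_zero {ξ : IrrCharacter G} (hξ : centralChar (ξ : G → ℂ) z ≠ 1) (k : Fin m) :
    (ξ : G → ℂ) (u k) = 0 := by
  obtain ⟨g, -, hg⟩ := hs.shift k
  have h : (ξ : G → ℂ) (z * u k) = (ξ : G → ℂ) (u k) := by
    rw [← Subgroup.mem_center_iff.1 hz (u k), ← hg]
    exact irr_classFun ξ (u k) g
  rw [centralChar_of_center hz] at h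
  by_contra h0
  exact hξ (mul_right_cancel₀ h0 (by rw [one_mul]; exact h))

/-- Every eigenvalue class carries the orthogonal projection onto the regular parts. -/
theorem T1_expand (hM : IsPModular 3 M) {c : ℂ} (hc : c ^ 3 = 1) {χ ψ : IrrCharacter G}
    (hχ : χ ∈ principalBlock M G) :
    3 * ∑ η ∈ cls M z c, T 3 1 (χ : G → ℂ) (η : G → ℂ) * T 3 1 (η : G → ℂ) (ψ : G → ℂ) =
      T 3 1 (χ : G → ℂ) (ψ : G → ℂ) := by
  classical
  have hB := isPBlock_principalBlock (M := M) (G := G)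
  have hb : bset M G = Finset.univ.filter (· ∈ principalBlock M G) := by ext; simp [bset]
  obtain ⟨w, hw⟩ : ∃ w, w = centralChar (ψ : G → ℂ) z := ⟨_, rfl⟩
  obtain ⟨hwc, hwm, -⟩ := cube_root (hw ▸ hs.wz_cube hz ψ : w ^ 3 = 1)
  obtain ⟨hcc, hcm, -⟩ := cube_root hc
  set S : IrrCharacter G → ℂ := fun η =>
    T 3 1 (χ : G → ℂ) (η : G → ℂ) * T 3 1 (η : G → ℂ) (ψ : G → ℂ) with hS
  have e1 : ∑ η ∈ bset M G, S η = T 3 1 (χ : G → ℂ) (ψ : G → ℂ) := by
    have := T_mul hM hB hχ (ψ : G → ℂ) (1 : G) 1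
    rw [if_pos (IsConj.refl _)] at this
    rw [hb]; exact this
  have e2 : ∑ η ∈ bset M G, conj c * centralChar (η : G → ℂ) z * S η = 0 := by
    have := T_mul hM hB hχ (ψ : G → ℂ) (1 : G) z
    rw [if_neg (hs.not_conj_one hs.z_ne_one), ← hb] at this
    calc _ = conj c * w * ∑ η ∈ bset M G,
          T 3 1 (χ : G → ℂ) (η : G → ℂ) * T 3 z (η : G → ℂ) (ψ : G → ℂ) := by
          rw [Finset.mul_sum]
          refine Finset.sum_congr rfl fun η _ => ?_
          rw [hs.T_z hz, ← hw, hS]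
          linear_combination (-(conj c * centralChar (η : G → ℂ) z * T 3 1 (χ : G → ℂ) (η : G → ℂ) *
            T 3 1 (η : G → ℂ) (ψ : G → ℂ))) * hwm
      _ = 0 := by rw [this, mul_zero]
  have e3 : ∑ η ∈ bset M G, c * conj (centralChar (η : G → ℂ) z) * S η = 0 := by
    have := T_mul hM hB hχ (ψ : G → ℂ) (1 : G) z⁻¹
    rw [if_neg (hs.not_conj_one (inv_ne_one.2 hs.z_ne_one)), ← hb] at this
    calc _ = c * conj w * ∑ η ∈ bset M G,
          T 3 1 (χ : G → ℂ) (η : G → ℂ) * T 3 z⁻¹ (η : G → ℂ) (ψ : G → ℂ) := by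
          rw [Finset.mul_sum]
          refine Finset.sum_congr rfl fun η _ => ?_
          rw [hs.T_zinv hz, ← hw, hS]
          linear_combination (-(c * conj (centralChar (η : G → ℂ) z) * T 3 1 (χ : G → ℂ) (η : G → ℂ) *
            T 3 1 (η : G → ℂ) (ψ : G → ℂ))) * hwm
      _ = 0 := by rw [this, mul_zero]
  rw [← e1, cls, Finset.sum_filter, Finset.mul_sum]
  calc _ = ∑ η ∈ bset M G, (S η + conj c * centralChar (η : G → ℂ) z * S η +
        c * conj (centralChar (η : G → ℂ) z) * S η) := by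
        refine Finset.sum_congr rfl fun η _ => ?_
        obtain ⟨hvc, hvm, -⟩ := cube_root (hs.wz_cube hz η)
        split_ifs with he
        · rw [he, hS]
          linear_combination (-2 * T 3 1 (χ : G → ℂ) (η : G → ℂ) * T 3 1 (η : G → ℂ) (ψ : G → ℂ)) * hcm
        · set s := conj c * centralChar (η : G → ℂ) z with hsdef
          have hs3 : s ^ 3 = 1 := by
            rw [hsdef, mul_pow, hs.wz_cube hz η, mul_one, ← map_pow, hc, map_one]
          obtain ⟨hsc, -, hs1⟩ := cube_root hs3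
          have hs2 : s ^ 2 + s + 1 = 0 := hs1.resolve_left fun e => he (by
            have e' : centralChar (η : G → ℂ) z * (c * conj c) = c * 1 := by
              rw [← e, hsdef]; ring
            rwa [hcm, mul_one, mul_one] at e')
          rw [show c * conj (centralChar (η : G → ℂ) z) = conj s by
            rw [hsdef, map_mul, Complex.conj_conj], hsc, mul_zero]
          linear_combination (-(S η)) * hs2
    _ = _ := by rw [Finset.sum_add_distrib, Finset.sum_add_distrib, e2, e3, add_zero, add_zero]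

/-- A member of the block on regular elements through any eigenvalue class. -/
theorem reg_expand (hM : IsPModular 3 M) {c : ℂ} (hc : c ^ 3 = 1) {χ : IrrCharacter G}
    (hχ : χ ∈ principalBlock M G) {y : G} (hy : ¬ 3 ∣ orderOf y) :
    (χ : G → ℂ) y = ∑ η ∈ cls M z c, 3 * T 3 1 (χ : G → ℂ) (η : G → ℂ) * (η : G → ℂ) y := by
  set a : IrrCharacter G → ℂ := fun η => 3 * T 3 1 (χ : G → ℂ) (η : G → ℂ) with ha
  set D : G → ℂ := fun y => (χ : G → ℂ) y - ∑ η ∈ cls M z c, a η * (η : G → ℂ) y with hD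
  have horth : ∀ ψ : IrrCharacter G, T 3 1 D (ψ : G → ℂ) = 0 := fun ψ => by
    rw [hD, T1_sub_left, T1_sum_left, sub_eq_zero]
    conv_lhs => rw [← hs.T1_expand hz hM hc hχ]
    rw [Finset.mul_sum]
    exact Finset.sum_congr rfl fun η _ => by rw [ha]; ring
  have h0 : T 3 1 D D = 0 := by
    conv_lhs => arg 4; rw [hD]
    rw [T_conj, T1_sub_left, T1_sum_left, T_conj, horth, map_zero, Finset.sum_eq_zero fun η _ => by
      rw [T_conj, horth, map_zero, mul_zero], sub_zero, map_zero]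
  exact sub_eq_zero.1 (eq_zero_of_T1_self h0 hy)

/-- The traces of the eigenvalue classes agree. -/
theorem trace_cls (hM : IsPModular 3 M) {c c' : ℂ} (hc : c ^ 3 = 1) (hc' : c' ^ 3 = 1) :
    ∑ ξ ∈ cls M z c, T 3 1 (ξ : G → ℂ) (ξ : G → ℂ) =
      ∑ ξ ∈ cls M z c', T 3 1 (ξ : G → ℂ) (ξ : G → ℂ) := by
  have key : ∀ a b : ℂ, b ^ 3 = 1 → ∑ ξ ∈ cls M z a, T 3 1 (ξ : G → ℂ) (ξ : G → ℂ) =
      3 * ∑ ξ ∈ cls M z a, ∑ η ∈ cls M z b,
        T 3 1 (ξ : G → ℂ) (η : G → ℂ) * T 3 1 (η : G → ℂ) (ξ : G → ℂ) := fun a b hb => by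
    rw [Finset.mul_sum]
    exact Finset.sum_congr rfl fun ξ hξ => (hs.T1_expand hz hM hb (mem_cls.1 hξ).1).symm
  rw [key c c' hc', key c' c hc, Finset.sum_comm]
  congr 1
  exact Finset.sum_congr rfl fun η _ => Finset.sum_congr rfl fun ξ _ => mul_comm _ _

theorem sum_bset_cls {ζ : ℂ} (hζ : ζ ^ 2 + ζ + 1 = 0) {A : Type*} [AddCommMonoid A]
    (F : IrrCharacter G → A) :
    ∑ ξ ∈ bset M G, F ξ =
      ∑ ξ ∈ cls M z 1, F ξ + ∑ ξ ∈ cls M z ζ, F ξ + ∑ ξ ∈ cls M z (conj ζ), F ξ := by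
  classical
  obtain ⟨h3, h1, hc, hc1, hne⟩ := primitive_cube hζ
  simp only [cls, Finset.sum_filter]
  rw [← Finset.sum_add_distrib, ← Finset.sum_add_distrib]
  refine Finset.sum_congr rfl fun ξ _ => ?_
  obtain ⟨w, hw⟩ : ∃ w, w = centralChar (ξ : G → ℂ) z := ⟨_, rfl⟩
  have hw3 : w ^ 3 = 1 := hw ▸ hs.wz_cube hz ξ
  rw [← hw]
  have : w = 1 ∨ w = ζ ∨ w = conj ζ := by
    rcases (cube_root hw3).2.2 with e | e
    · exact .inl e
    · have : (w - ζ) * (w - conj ζ) = 0 := by
        rw [hc]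
        linear_combination e + (-w) * hζ + h3
      rcases mul_eq_zero.1 this with e' | e'
      · exact .inr (.inl (sub_eq_zero.1 e'))
      · exact .inr (.inr (sub_eq_zero.1 e'))
  rcases this with rfl | rfl | rfl
  · simp [Ne.symm h1, Ne.symm hc1]
  · simp [h1, hne]
  · simp [hc1, hne.symm]

theorem T1_faithful (hM : IsPModular 3 M) {ξ : IrrCharacter G} (hξ : ξ ∈ principalBlock M G)
    (h1 : centralChar (ξ : G → ℂ) z ≠ 1) : T 3 1 (ξ : G → ℂ) (ξ : G → ℂ) = 1 / 3 := by
  have h := hs.classInner_sections (ξ : G → ℂ) (ξ : G → ℂ)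
  rw [classInner_self_irr ξ.2, Finset.sum_eq_zero fun k _ => by
    rw [hs.T_u_irr hM hξ hξ k, hs.u_zero hz h1 k, zero_mul, zero_div], hs.T_z hz, hs.T_zinv hz] at h
  have hm := (cube_root (hs.wz_cube hz ξ)).2.1
  linear_combination (-1 / 3 : ℂ) * h + (-2 / 3 * T 3 1 (ξ : G → ℂ) (ξ : G → ℂ)) * hm

theorem T1_trivial_class (hM : IsPModular 3 M) {ξ η : IrrCharacter G} (hξ : ξ ∈ cls M z 1)
    (hη : η ∈ cls M z 1) :
    classInner (ξ : G → ℂ) (η : G → ℂ) = 3 * T 3 1 (ξ : G → ℂ) (η : G → ℂ) +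
      ∑ k, (ξ : G → ℂ) (u k) * conj ((η : G → ℂ) (u k)) / 9 := by
  obtain ⟨hξb, hξ1⟩ := mem_cls.1 hξ
  obtain ⟨hηb, hη1⟩ := mem_cls.1 hη
  rw [hs.classInner_sections, hs.T_z hz, hs.T_zinv hz, hξ1, hη1, map_one,
    Finset.sum_congr rfl fun k _ => hs.T_u_irr hM hξb hηb k]
  ring

theorem trivial_cls (hM : IsPModular 3 M) : trivialIrr G ∈ cls M z 1 := by
  refine mem_cls.2 ⟨trivial_mem_principalBlock hM, ?_⟩
  have h := centralChar_of_center (η := trivialIrr G) hz 1
  simpa [trivialIrr] using h.symm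

/-- The six rows and the common trace. -/
theorem central_frame [NeZero m] (hM : IsPModular 3 M) (hf : Flip z u) (hm3 : ¬ 3 ∣ m) :
    ∃ d : IrrCharacter G → Fin m → ℤ, (∀ (ξ : IrrCharacter G) k, (ξ : G → ℂ) (u k) = d ξ k) ∧
      (∀ ψ : IrrCharacter G, ψ ∈ principalBlock M G → centralChar (ψ : G → ℂ) z ≠ 1 →
        ∃ v : IrrCharacter G → ℤ, ∃ c : Fin m → ℤ, ∀ r ∈ cls M z 1,
          3 * T 3 1 (ψ : G → ℂ) (r : G → ℂ) = (v r : ℂ) - ∑ k, (c k : ℂ) * (d r k : ℂ) / 3) ∧
      ∃ srow τ, Frame (cls M z 1) (trivialIrr G) d srow τ := by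
  classical
  choose d hd hdc using fun ξ : IrrCharacter G => fun k : Fin m => hs.exists_int hf ξ k
  have hreal : ∀ (ξ : IrrCharacter G) k, conj ((ξ : G → ℂ) (u k)) = (d ξ k : ℂ) := fun ξ k => by
    rw [hd ξ k, map_intCast]
  have ho := hs.trivial_cls hz hM
  have hdo : ∀ k, d (trivialIrr G) k = 1 := fun k => by
    have h : (1 : ℂ) = (d (trivialIrr G) k : ℂ) := hd (trivialIrr G) k
    exact_mod_cast h.symm
  have hcong : ∀ r ∈ cls M z 1, ∀ j k, (3 : ℤ) ∣ d r j - d r k := fun r _ j k => by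
    have h1 := dvd_sub (hdc r j) (hdc r k)
    simpa using h1
  have hsum : ∀ F : IrrCharacter G → ℂ, (∀ ξ ∈ bset M G, centralChar (ξ : G → ℂ) z ≠ 1 → F ξ = 0) →
      ∑ ξ ∈ bset M G, F ξ = ∑ ξ ∈ cls M z 1, F ξ := fun F hF => by
    symm
    refine Finset.sum_subset (fun ξ hξ => mem_bset.2 (mem_cls.1 hξ).1) fun ξ hξ hn => hF ξ hξ ?_
    exact fun e => hn (mem_cls.2 ⟨mem_bset.1 hξ, e⟩)
  have hgram : ∀ j k, ∑ r ∈ cls M z 1, d r j * d r k = if j = k then 9 else 0 := by
    intro j k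
    have h := hs.column hM j k
    rw [hsum _ fun ξ _ h1 => by rw [hs.u_zero hz h1, zero_mul]] at h
    simp only [hreal] at h
    simp only [hd] at h
    have h' : (((∑ r ∈ cls M z 1, d r j * d r k : ℤ)) : ℂ) = ((if j = k then 9 else 0 : ℤ) : ℂ) := by
      push_cast
      exact h
    exact_mod_cast h'
  have hne : ∀ r ∈ cls M z 1, d r 0 ≠ 0 := by
    intro r hr h0
    have hall : ∀ k, d r k = 0 := fun k => by
      obtain ⟨a, b⟩ := rows_small ho hdo hgram hr k
      have := hcong r hr k 0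
      omega
    by_cases hro : r = trivialIrr G
    · rw [hro, hdo] at h0; exact one_ne_zero h0
    · have h := hs.T1_trivial_class hz hM hr ho
      rw [classInner_irr_ne r.2 (trivialIrr G).2 fun e => hro (Subtype.ext e),
        Finset.sum_eq_zero fun k _ => by rw [hd r k, hall, Int.cast_zero, zero_mul, zero_div],
        add_zero] at h
      exact (mem_iff_T_one hM r).1 (mem_cls.1 hr).1 ((mul_eq_zero.1 h.symm).resolve_left (by norm_num))
  have hcolreg : ∀ (k : Fin m) (y : G), ¬ 3 ∣ orderOf y →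
      ∑ r ∈ cls M z 1, (d r k : ℂ) * (r : G → ℂ) y = 0 := by
    intro k y hy
    have h := hs.column_reg hM k hy
    rw [hsum _ fun ξ _ h1 => by rw [hs.u_zero hz h1, map_zero, mul_zero]] at h
    rw [← h]
    exact Finset.sum_congr rfl fun r _ => by rw [hreal, mul_comm]
  -- integrality against a faithful member
  have hfaith : ∀ ψ ∈ principalBlock M G, centralChar (ψ : G → ℂ) z ≠ 1 →
      ∃ v : IrrCharacter G → ℤ, ∃ c : Fin m → ℤ,
        (∀ r ∈ cls M z 1, 3 * T 3 1 (ψ : G → ℂ) (r : G → ℂ) =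
          (v r : ℂ) - ∑ k, (c k : ℂ) * (d r k : ℂ) / 3) ∧
        ∑ r ∈ cls M z 1, v r * v r = 1 + ∑ k, c k * c k ∧
        ∀ k, ∑ r ∈ cls M z 1, v r * d r k = 3 * c k := by
    intro ψ hψ hψ1
    obtain ⟨e, hereg, hepp, hegen⟩ := exists_regPow (G := G)
    set f : G → ℂ := fun g => (ψ : G → ℂ) (g ^ e) with hf'
    have hfc : IsClassFunction G f := IsGenChar.classFun (hegen _ (irr_isChar ψ))
    choose v hv using fun r : IrrCharacter G => IsGenChar.classInner_int (hegen _ (irr_isChar ψ))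
      (IsGenChar.of_isCharacter (irr_isChar r))
    let avg : Fin m → ℂ := fun k =>
      9 * (Nat.card (Subgroup.centralizer ({u k} : Set G)) : ℂ)⁻¹ *
        ∑ᶠ c ∈ {c : Subgroup.centralizer ({u k} : Set G) | ¬ 3 ∣ orderOf c}, (ψ : G → ℂ) (c : G)
    have hcent : ∀ (x : G), (∃ j, orderOf x = 3 ^ j) → ∀ c : G, Commute x c → ¬ 3 ∣ orderOf c →
        f (x * c) = (ψ : G → ℂ) c := fun x hx c hc hc' => by
      simp only [f, hc.mul_pow, hepp x hx, hereg c hc', one_mul]
    have hsec : ∀ r ∈ cls M z 1, (v r : ℂ) =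
        3 * T 3 1 (ψ : G → ℂ) (r : G → ℂ) + ∑ k, avg k * (d r k : ℂ) / 9 := by
      intro r hr
      obtain ⟨hrb, hr1⟩ := mem_cls.1 hr
      cases nonempty_fintype (Subgroup.centralizer ({z} : Set G))
      cases nonempty_fintype (Subgroup.centralizer ({z⁻¹} : Set G))
      have hTz : T 3 z f (r : G → ℂ) = T 3 1 (ψ : G → ℂ) (r : G → ℂ) := by
        rw [T_eq_cent hs.z_pow hfc (irr_classFun r), sum_cent_central hz
          (fun g => f (z * g) * conj ((r : G → ℂ) (z * g))), T_one_eq]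
        congr 1
        refine Finset.sum_congr rfl fun y hy => ?_
        rw [hcent z hs.z_pow y (Subgroup.mem_center_iff.1 hz y).symm (Finset.mem_filter.1 hy).2,
          centralChar_of_center hz, hr1, one_mul]
      have hTzi : T 3 z⁻¹ f (r : G → ℂ) = T 3 1 (ψ : G → ℂ) (r : G → ℂ) := by
        rw [T_eq_cent hs.zinv_pow hfc (irr_classFun r), sum_cent_central (inv_mem hz)
          (fun g => f (z⁻¹ * g) * conj ((r : G → ℂ) (z⁻¹ * g))), T_one_eq]
        congr 1
        refine Finset.sum_congr rfl fun y hy => ?_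
        rw [hcent z⁻¹ hs.zinv_pow y (Subgroup.mem_center_iff.1 (inv_mem hz) y).symm
          (Finset.mem_filter.1 hy).2, hs.zinv_mul hz, hr1, map_one, one_mul]
      have hT1 : T 3 1 f (r : G → ℂ) = T 3 1 (ψ : G → ℂ) (r : G → ℂ) := by
        rw [T_one_eq, T_one_eq]
        congr 1
        exact Finset.sum_congr rfl fun y hy => by
          simp only [f, hereg y (Finset.mem_filter.1 hy).2]
      have hTu : ∀ k, T 3 (u k) f (r : G → ℂ) = avg k * (d r k : ℂ) / 9 := by
        intro k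
        cases nonempty_fintype (Subgroup.centralizer ({u k} : Set G))
        rw [T_eq_cent (hs.u_pow k) hfc (irr_classFun r)]
        simp only [avg]
        rw [finsum_mem_eq_sum_of_inter_support_eq _ (t := Finset.univ.filter
          (fun c : Subgroup.centralizer ({u k} : Set G) => ¬ 3 ∣ orderOf c)) (by ext; simp),
          Finset.mul_sum, Finset.mul_sum, Finset.sum_mul, Finset.sum_div]
        refine Finset.sum_congr rfl fun c hc => ?_
        rw [hcent (u k) (hs.u_pow k) (c : G)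
          (Subgroup.mem_centralizer_singleton_iff.1 c.2).symm
          (by rw [Subgroup.orderOf_coe]; exact (Finset.mem_filter.1 hc).2),
          hs.value_const hM hrb k (Finset.mem_filter.1 hc).2, hreal]
        ring
      rw [← hv r, hs.classInner_sections, hTz, hTzi, hT1, Finset.sum_congr rfl fun k _ => hTu k]
      ring
    have havg : ∀ j, avg j = ((∑ r ∈ cls M z 1, v r * d r j : ℤ) : ℂ) := by
      intro j
      push_cast
      rw [Finset.sum_congr rfl fun r hr => by rw [hsec r hr]]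
      simp only [add_mul, Finset.sum_add_distrib, Finset.sum_mul]
      have h0 : ∑ r ∈ cls M z 1, 3 * T 3 1 (ψ : G → ℂ) (r : G → ℂ) * (d r j : ℂ) = 0 := by
        calc _ = 3 * T 3 1 (ψ : G → ℂ) (fun y => ∑ r ∈ cls M z 1, (d r j : ℂ) * (r : G → ℂ) y) := by
              rw [T1_sum_right, Finset.mul_sum]
              exact Finset.sum_congr rfl fun r _ => by rw [map_intCast]; ring
          _ = 0 := by
            rw [T_one_eq, Finset.sum_eq_zero, mul_zero, mul_zero]
            intro y hy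
            rw [hcolreg j y (Finset.mem_filter.1 hy).2, map_zero, mul_zero]
      rw [h0, zero_add, Finset.sum_comm]
      rw [Finset.sum_eq_single j]
      · have h9 : ∑ r ∈ cls M z 1, (d r j : ℂ) * (d r j : ℂ) = 9 := by
          have := hgram j j
          rw [if_pos rfl] at this
          exact_mod_cast this
        rw [Finset.sum_congr rfl fun r _ => show avg j * (d r j : ℂ) / 9 * (d r j : ℂ) =
          avg j / 9 * ((d r j : ℂ) * (d r j : ℂ)) by ring, ← Finset.mul_sum, h9]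
        ring
      · intro k _ hkj
        have h9 : ∑ r ∈ cls M z 1, (d r k : ℂ) * (d r j : ℂ) = 0 := by
          have := hgram k j
          rw [if_neg hkj] at this
          exact_mod_cast this
        rw [Finset.sum_congr rfl fun r _ => show avg k * (d r k : ℂ) / 9 * (d r j : ℂ) =
          avg k / 9 * ((d r k : ℂ) * (d r j : ℂ)) by ring, ← Finset.mul_sum, h9, mul_zero]
      · exact fun h => absurd (Finset.mem_univ j) h
    obtain ⟨A, hA⟩ : ∃ A : Fin m → ℤ, ∀ j, A j = ∑ r ∈ cls M z 1, v r * d r j := ⟨_, fun _ => rfl⟩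
    have hw : ∀ r ∈ cls M z 1, 3 * T 3 1 (ψ : G → ℂ) (r : G → ℂ) =
        (v r : ℂ) - ∑ k, (A k : ℂ) * (d r k : ℂ) / 9 := fun r hr => by
      rw [hsec r hr, Finset.sum_congr rfl fun k _ => by rw [havg k, ← hA]]
      ring
    have hnorm : ∑ r ∈ cls M z 1, (3 * T 3 1 (ψ : G → ℂ) (r : G → ℂ)) *
        conj (3 * T 3 1 (ψ : G → ℂ) (r : G → ℂ)) = 1 := by
      have h := hs.T1_expand hz hM (c := 1) (one_pow 3) (χ := ψ) (ψ := ψ) hψ
      rw [hs.T1_faithful hz hM hψ hψ1] at h
      rw [Finset.sum_congr rfl fun (r : IrrCharacter G) _ => show (3 * T 3 1 (ψ : G → ℂ) (r : G → ℂ)) *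
        conj (3 * T 3 1 (ψ : G → ℂ) (r : G → ℂ)) =
        9 * (T 3 1 (ψ : G → ℂ) (r : G → ℂ) * T 3 1 (r : G → ℂ) (ψ : G → ℂ)) by
          rw [map_mul, map_ofNat, ← T_conj]; ring, ← Finset.mul_sum]
      linear_combination (3 : ℂ) * h
    have hzz : 9 * ∑ r ∈ cls M z 1, v r * v r = 9 + ∑ k, A k * A k := by
      have h1 : (((∑ r ∈ cls M z 1, (9 * v r - ∑ k, A k * d r k) *
          (9 * v r - ∑ k, A k * d r k) : ℤ)) : ℂ) = ((81 : ℤ) : ℂ) := by
        push_cast
        calc _ = 81 * ∑ r ∈ cls M z 1, (3 * T 3 1 (ψ : G → ℂ) (r : G → ℂ)) *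
              conj (3 * T 3 1 (ψ : G → ℂ) (r : G → ℂ)) := by
              rw [Finset.mul_sum]
              refine Finset.sum_congr rfl fun r hr => ?_
              rw [hw r hr]
              simp only [map_sub, map_sum, map_div₀, map_mul, map_intCast, map_ofNat, ← Finset.sum_div]
              ring
          _ = 81 := by rw [hnorm, mul_one]
      have h2 : ∑ r ∈ cls M z 1, (9 * v r - ∑ k, A k * d r k) * (9 * v r - ∑ k, A k * d r k) = 81 :=
        Int.cast_injective h1
      have h3 : ∑ r ∈ cls M z 1, (∑ k, A k * d r k) * v r = ∑ k, A k * A k := by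
        simp only [Finset.sum_mul]
        rw [Finset.sum_comm]
        refine Finset.sum_congr rfl fun k _ => ?_
        conv_rhs => arg 2; rw [hA k]
        rw [Finset.mul_sum]
        exact Finset.sum_congr rfl fun r _ => by ring
      have h4 : ∑ r ∈ cls M z 1, (∑ k, A k * d r k) * (∑ k, A k * d r k) = 9 * ∑ k, A k * A k := by
        simp only [Finset.sum_mul_sum]
        rw [Finset.sum_comm, Finset.mul_sum]
        refine Finset.sum_congr rfl fun j _ => ?_
        rw [Finset.sum_comm, Finset.sum_eq_single j]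
        · rw [Finset.sum_congr rfl fun r _ => show A j * d r j * (A j * d r j) =
            A j * A j * (d r j * d r j) by ring, ← Finset.mul_sum, hgram, if_pos rfl]
          ring
        · intro k _ hkj
          rw [Finset.sum_congr rfl fun r _ => show A j * d r j * (A k * d r k) =
            A j * A k * (d r j * d r k) by ring, ← Finset.mul_sum, hgram, if_neg (Ne.symm hkj),
            mul_zero]
        · exact fun h => absurd (Finset.mem_univ j) h
      have h5 : ∑ r ∈ cls M z 1, (9 * v r - ∑ k, A k * d r k) * (9 * v r - ∑ k, A k * d r k) =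
          81 * ∑ r ∈ cls M z 1, v r * v r - 18 * ∑ r ∈ cls M z 1, (∑ k, A k * d r k) * v r +
            ∑ r ∈ cls M z 1, (∑ k, A k * d r k) * (∑ k, A k * d r k) := by
        rw [Finset.mul_sum, Finset.mul_sum, ← Finset.sum_sub_distrib, ← Finset.sum_add_distrib]
        exact Finset.sum_congr rfl fun r _ => by ring
      rw [h5, h3, h4] at h2
      linarith
    have hdiv : ∀ k, (3 : ℤ) ∣ A k := by
      intro k
      have hcg : ∀ j, (3 : ℤ) ∣ A j * A j - A k * A k := fun j => by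
        have h1 : (3 : ℤ) ∣ A j - A k := by
          rw [hA, hA, ← Finset.sum_sub_distrib]
          exact Finset.dvd_sum fun r hr => by rw [← mul_sub]; exact (hcong r hr j k).mul_left _
        rw [show A j * A j - A k * A k = (A j - A k) * (A j + A k) by ring]
        exact h1.mul_right _
      have h2 : (3 : ℤ) ∣ (m : ℤ) * (A k * A k) := by
        have h3 : (3 : ℤ) ∣ ∑ j, A j * A j :=
          ⟨3 * ((∑ r ∈ cls M z 1, v r * v r) - 1), by linarith⟩
        have h4 := dvd_sub h3 (Finset.dvd_sum (s := Finset.univ) fun j _ => hcg j)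
        rw [Finset.sum_sub_distrib, sub_sub_cancel, Finset.sum_const, Finset.card_univ,
          Fintype.card_fin, nsmul_eq_mul] at h4
        exact h4
      have hp : Prime (3 : ℤ) := Int.prime_three
      rcases hp.dvd_mul.1 h2 with h | h
      · exact absurd (Int.natCast_dvd_natCast.1 h) hm3
      · exact (hp.dvd_mul.1 h).elim id id
    choose c hc using hdiv
    refine ⟨v, c, fun r hr => ?_, ?_, fun k => (hA k).symm.trans (hc k)⟩
    · rw [hw r hr]
      congr 1
      exact Finset.sum_congr rfl fun k _ => by rw [hc k]; push_cast; ring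
    · have : ∑ k, A k * A k = 9 * ∑ k, c k * c k := by
        rw [Finset.mul_sum]
        exact Finset.sum_congr rfl fun k _ => by rw [hc k]; ring
      rw [this] at hzz
      linarith
  have hpar : m = 1 → ∃ w : IrrCharacter G → ℤ, w (trivialIrr G) = 1 ∧
      ∑ r ∈ cls M z 1, d r 0 * w r = 0 := by
    intro _
    refine ⟨fun r => (charDegree (r : G → ℂ) : ℤ), ?_, ?_⟩
    · show ((charDegree (fun _ : G => (1 : ℂ)) : ℕ) : ℤ) = 1
      rw [charDeg_trivial, Nat.cast_one]
    · have h := hcolreg 0 1 not_dvd_one'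
      simp only [charDeg_spec'] at h
      exact_mod_cast h
  rcases rows ho hdo hcong hgram hne hpar with ⟨hm1, hall⟩ | hfr
  · exfalso
    obtain ⟨ζ, hζ⟩ := exists_primitive_cube
    obtain ⟨h3, h1, -, -, -⟩ := primitive_cube hζ
    obtain ⟨ψ, hψ⟩ : (cls M z ζ).Nonempty := by
      by_contra hempty
      rw [Finset.not_nonempty_iff_eq_empty] at hempty
      refine (mem_iff_T_one hM (trivialIrr G)).1 (trivial_mem_principalBlock hM) ?_
      have hexp := hs.T1_expand hz hM h3 (χ := trivialIrr G) (ψ := trivialIrr G)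
        (trivial_mem_principalBlock hM)
      rw [hempty, Finset.sum_empty, mul_zero] at hexp
      exact hexp.symm
    obtain ⟨v, c, -, hv2, hvd⟩ := hfaith ψ (mem_cls.1 hψ).1 ((mem_cls.1 hψ).2 ▸ h1)
    have h2 : (2 : ℤ) ∣ 3 * c 0 - (1 + c 0 * c 0) := by
      subst hm1
      rw [← hvd 0, show (1 : ℤ) + c 0 * c 0 = ∑ r ∈ cls M z 1, v r * v r by
        rw [hv2, Fin.sum_univ_one], ← Finset.sum_sub_distrib]
      refine Finset.dvd_sum fun r hr => ?_
      rcases hall r hr 0 with e | e <;> rw [e]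
      · rcases Int.even_mul_succ_self (v r - 1) with ⟨t, ht⟩
        exact ⟨-t, by linarith⟩
      · rcases Int.even_mul_succ_self (v r) with ⟨t, ht⟩
        exact ⟨-t, by linarith⟩
    rcases Int.even_mul_succ_self (c 0) with ⟨t, ht⟩
    obtain ⟨q, hq⟩ := h2
    have : 4 * c 0 - 1 - 2 * t = 2 * q := by linarith
    omega
  · refine ⟨d, hd, fun ψ hψ hψ1 => ?_, hfr⟩
    obtain ⟨v, c, hw, -, -⟩ := hfaith ψ hψ hψ1
    exact ⟨v, c, hw⟩

end Setup

end Cfsg.Agent.Block.ExtraThree
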