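import Cfsg.Agent.Lib.Block.ExtraThree.Central

/-!
The generalized characters of the centralizer that vanish on the regular elements, and its rank.
-/

open scoped ComplexConjugate

namespace Cfsg.Agent.Block.ExtraThree

open Cfsg Cfsg.Agent.Block Cfsg.Agent.Char Cfsg.Agent.Char.SecInner Cfsg.Agent.Char.Spec
  Cfsg.Agent.Char.BP Cfsg.Agent.Char.Star

set_option linter.unusedSectionVars false
set_option linter.style.haveILetI false

universe u

variable {G : Type u} [Group G] [Fintype G] {M : Ideal AlgInt} [hp3 : Fact (Nat.Prime 3)]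

theorem T1_congr_right {f g g' : G → ℂ} (h : ∀ y, ¬ 3 ∣ orderOf y → g y = g' y) :
    T 3 1 f g = T 3 1 f g' := by
  rw [T_one_eq, T_one_eq]
  congr 1
  exact Finset.sum_congr rfl fun y hy => by rw [h y (Finset.mem_filter.1 hy).2]

theorem inner_comb (S : Finset (IrrCharacter G)) (a : IrrCharacter G → ℂ) (ξ : IrrCharacter G) :
    classInner (fun y => ∑ η ∈ S, a η * (η : G → ℂ) y) (ξ : G → ℂ) = if ξ ∈ S then a ξ else 0 := by
  classical
  rw [show (fun y => ∑ η ∈ S, a η * (η : G → ℂ) y) = ∑ η ∈ S, a η • (η : G → ℂ) from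
    funext fun y => by simp [Finset.sum_apply], classInner_sum_left,
    Finset.sum_congr rfl fun η _ => by
      rw [classInner_smul_left, classInner_irr_eq_ite η.2 ξ.2]]
  simp only [mul_ite, mul_one, mul_zero, ← Subtype.ext_iff, Finset.sum_ite_eq']

theorem isGenChar_comb (S : Finset (IrrCharacter G)) (a : IrrCharacter G → ℤ) :
    IsGeneralizedCharacter G (fun y => ∑ η ∈ S, (a η : ℂ) * (η : G → ℂ) y) := by
  rw [show (fun y => ∑ η ∈ S, (a η : ℂ) * (η : G → ℂ) y) = ∑ η ∈ S, (a η : ℂ) • (η : G → ℂ) from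
    funext fun y => by simp [Finset.sum_apply]]
  exact IsGenChar.sum fun η _ => IsGenChar.zsmul (IsGenChar.of_isCharacter (irr_isChar η)) _

namespace Setup

variable {m : ℕ} [NeZero m] {P : Sylow 3 G} {z : G} {u : Fin m → G} (hs : Setup P z u)
  (hz : z ∈ Subgroup.center G)
include hs hz

theorem exists_local (hM : IsPModular 3 M) (hf : Flip z u) (hm3 : ¬ 3 ∣ m) {ζ : ℂ}
    (hζ : ζ ^ 2 + ζ + 1 = 0) :
    m < 6 ∧ blockRank 3 (principalBlock M G) = 6 - m ∧
      ∃ (a g : Fin (6 - m) → G → ℂ) (i₀ : Fin (6 - m)), Local M z u ζ a g i₀ := by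
  classical
  obtain ⟨d, hd, hint, srow, τ, F⟩ := hs.central_frame hz hM hf hm3
  obtain ⟨h3, h1, hc, hc1, hne⟩ := primitive_cube hζ
  have ho := hs.trivial_cls hz hM
  have hdo : ∀ k, d (trivialIrr G) k = 1 := fun k => by
    have h : (1 : ℂ) = (d (trivialIrr G) k : ℂ) := hd (trivialIrr G) k
    exact_mod_cast h.symm
  have hreal : ∀ (ξ : IrrCharacter G) k, conj ((ξ : G → ℂ) (u k)) = (d ξ k : ℂ) := fun ξ k => by
    rw [hd ξ k, map_intCast]
  have hoP := F.o_plain ho
  have hm6 : m < 6 := by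
    have h := F.card_plain
    have := Finset.card_pos.2 ⟨_, hoP⟩
    omega
  set l := 6 - m with hl
  set eqv := (Finset.equivFinOfCardEq F.card_plain).symm with heqv
  obtain ⟨s, hsdef⟩ : ∃ s, s = srow 0 := ⟨_, rfl⟩
  have hscls : s ∈ cls M z 1 := hsdef ▸ F.mem 0
  let E : Fin l → G → ℂ := fun i y =>
    ∑ r ∈ cls M z 1, (F.evec (eqv i).1 r : ℂ) * (r : G → ℂ) y
  have hplain : ∀ i, ((eqv i).1 : IrrCharacter G) ∈ cls M z 1 := fun i =>
    (F.mem_plain.1 (eqv i).2).1
  have hTcls : ∀ r ∈ cls M z 1, ∀ r' ∈ cls M z 1, 3 * T 3 1 (r : G → ℂ) (r' : G → ℂ) =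
      (if r = r' then 1 else 0) - ∑ k, (d r k : ℂ) * (d r' k : ℂ) / 9 := by
    intro r hr r' hr'
    have h := hs.T1_trivial_class hz hM hr hr'
    rw [classInner_irr_eq_ite r.2 r'.2] at h
    simp only [← Subtype.ext_iff, hreal] at h
    simp only [hd] at h
    linear_combination -h
  have hcolreg : ∀ (k : Fin m) (y : G), ¬ 3 ∣ orderOf y →
      ∑ r ∈ cls M z 1, (d r k : ℂ) * (r : G → ℂ) y = 0 := by
    intro k y hy
    have h := hs.column_reg hM k hy
    rw [← Finset.sum_subset (fun r (hr : r ∈ cls M z 1) => mem_bset.2 (mem_cls.1 hr).1)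
      fun r hr hn => by
        rw [hs.u_zero hz (fun e => hn (mem_cls.2 ⟨mem_bset.1 hr, e⟩)), map_zero, mul_zero]] at h
    rw [← h]
    exact Finset.sum_congr rfl fun r _ => by rw [hreal, mul_comm]
  have hintE : ∀ i, ∀ ψ ∈ cls M z ζ, ∃ n : ℤ, 3 * T 3 1 (E i) (ψ : G → ℂ) = n := by
    intro i ψ hψ
    obtain ⟨hψb, hψζ⟩ := mem_cls.1 hψ
    obtain ⟨v, c, hv⟩ := hint ψ hψb (hψζ ▸ h1)
    refine ⟨(τ (eqv i).1 * v (eqv i).1 - τ s * v s) - c 0, ?_⟩
    have e : ∀ r ∈ cls M z 1, 3 * T 3 1 (r : G → ℂ) (ψ : G → ℂ) =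
        (v r : ℂ) - ∑ k, (c k : ℂ) * (d r k : ℂ) / 3 := fun r hr => by
      rw [T_conj, show (3 : ℂ) = conj (3 : ℂ) by rw [map_ofNat], ← map_mul, hv r hr]
      simp [map_sum]
    have hk : ∑ k, (τ (eqv i).1 : ℂ) * ((c k : ℂ) * (d (eqv i).1 k : ℂ) / 3) -
        ∑ k, (τ s : ℂ) * ((c k : ℂ) * (d s k : ℂ) / 3) = c 0 := by
      rw [← Finset.sum_sub_distrib, Finset.sum_eq_single (0 : Fin m)]
      · have he := F.evec_col (eqv i).2 0
        rw [if_pos rfl, ← hsdef] at he
        have he' : (τ (eqv i).1 : ℂ) * (d (eqv i).1 0 : ℂ) - (τ s : ℂ) * (d s 0 : ℂ) = 3 := by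
          exact_mod_cast he
        linear_combination ((c 0 : ℂ) / 3) * he'
      · intro k _ hk0
        have he := F.evec_col (eqv i).2 k
        rw [if_neg hk0, ← hsdef] at he
        have he' : (τ (eqv i).1 : ℂ) * (d (eqv i).1 k : ℂ) - (τ s : ℂ) * (d s k : ℂ) = 0 := by
          exact_mod_cast he
        linear_combination ((c k : ℂ) / 3) * he'
      · exact fun h => absurd (Finset.mem_univ _) h
    calc 3 * T 3 1 (E i) (ψ : G → ℂ)
        = (τ (eqv i).1 : ℂ) * (3 * T 3 1 ((eqv i).1 : G → ℂ) (ψ : G → ℂ)) -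
          (τ s : ℂ) * (3 * T 3 1 (s : G → ℂ) (ψ : G → ℂ)) := by
          rw [T1_sum_left, F.sum_evec (eqv i).2, ← hsdef]
          ring
      _ = _ := by
          rw [e _ (hplain i), e s hscls, mul_sub, mul_sub, Finset.mul_sum, Finset.mul_sum]
          push_cast
          linear_combination -hk
  choose n hn using hintE
  let N : Fin l → IrrCharacter G → ℤ := fun i ψ => if h : ψ ∈ cls M z ζ then n i ψ h else 0
  let Φ : Fin l → G → ℂ := fun i y => ∑ ψ ∈ cls M z ζ, (N i ψ : ℂ) * (ψ : G → ℂ) y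
  have hΦreg : ∀ i y, ¬ 3 ∣ orderOf y → Φ i y = E i y := by
    intro i y hy
    calc Φ i y = ∑ ψ ∈ cls M z ζ, ∑ r ∈ cls M z 1,
          (F.evec (eqv i).1 r : ℂ) * (3 * T 3 1 (r : G → ℂ) (ψ : G → ℂ) * (ψ : G → ℂ) y) := by
          refine Finset.sum_congr rfl fun ψ hψ => ?_
          simp only [N, dif_pos hψ]
          rw [← hn i ψ hψ, T1_sum_left, Finset.mul_sum, Finset.sum_mul]
          exact Finset.sum_congr rfl fun r _ => by ring
      _ = E i y := by
          rw [Finset.sum_comm]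
          refine Finset.sum_congr rfl fun r hr => ?_
          rw [← Finset.mul_sum, ← hs.reg_expand hz hM h3 (mem_cls.1 hr).1 hy]
  refine ⟨hm6, ?_, fun i y => Φ i y - E i y, E, eqv.symm ⟨trivialIrr G, hoP⟩, ?_⟩
  · have h0 := sum_T_one hM (G := G) (p := 3)
    rw [← show bset M G = Finset.univ.filter (· ∈ principalBlock M G) by ext; simp [bset],
      hs.sum_bset_cls hz hζ, hs.trace_cls hz hM h3 (one_pow 3),
      hs.trace_cls hz hM (c := conj ζ) (by rw [← map_pow, h3, map_one]) (one_pow 3)] at h0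
    have hS : ∑ r ∈ cls M z 1, 3 * T 3 1 (r : G → ℂ) (r : G → ℂ) = (6 : ℂ) - m := by
      rw [Finset.sum_congr rfl fun r hr => by rw [hTcls r hr r hr, if_pos rfl],
        Finset.sum_sub_distrib, Finset.sum_const, F.card, Finset.sum_comm,
        Finset.sum_congr rfl fun k _ => show ∑ r ∈ cls M z 1, (d r k : ℂ) * (d r k : ℂ) / 9 = 1 by
          rw [← Finset.sum_div]
          have := hs.column hM k k
          rw [if_pos rfl, ← Finset.sum_subset (fun r (hr : r ∈ cls M z 1) => mem_bset.2 (mem_cls.1 hr).1)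
            fun r hr hn => by
              rw [hs.u_zero hz (fun e => hn (mem_cls.2 ⟨mem_bset.1 hr, e⟩)), zero_mul]] at this
          simp only [hreal] at this
          simp only [hd] at this
          rw [this]
          norm_num,
        Finset.sum_const, Finset.card_univ, Fintype.card_fin]
      simp
    rw [← Finset.mul_sum] at hS
    have hh : (blockRank 3 (principalBlock M G) : ℂ) + m = ((6 : ℕ) : ℂ) := by
      push_cast
      rw [← h0]
      linear_combination hS
    have hh' : blockRank 3 (principalBlock M G) + m = 6 := by exact_mod_cast hh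
    omega
  · refine ⟨fun i => IsGenChar.sub (isGenChar_comb _ _) (isGenChar_comb _ _),
      fun i y hy => sub_eq_zero.2 (hΦreg i y hy), fun i ξ hξ => ?_, fun i y hy => ?_,
      fun i y hy => ?_, fun i k c hc' => ?_, fun i => IsGenChar.classFun (isGenChar_comb _ _),
      fun i j => ?_, fun i f hfo => ?_, fun i => ?_, fun f hf0 => ?_⟩
    · rw [show (fun y => Φ i y - E i y) = Φ i - E i from rfl, classInner_sub_left, inner_comb,
        inner_comb, if_neg fun h => hξ (mem_cls.1 h).1, if_neg fun h => hξ (mem_cls.1 h).1, sub_zero]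
    · have e1 : Φ i (z * y) = ζ * Φ i y := by
        simp only [Φ, Finset.mul_sum]
        refine Finset.sum_congr rfl fun ψ hψ => ?_
        rw [centralChar_of_center hz, (mem_cls.1 hψ).2]
        ring
      have e2 : E i (z * y) = E i y := by
        refine Finset.sum_congr rfl fun r hr => ?_
        rw [centralChar_of_center hz, (mem_cls.1 hr).2, one_mul]
      show Φ i (z * y) - E i (z * y) = _
      rw [e1, e2, hΦreg i y hy]
      ring
    · have e1 : Φ i (z⁻¹ * y) = conj ζ * Φ i y := by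
        simp only [Φ, Finset.mul_sum]
        refine Finset.sum_congr rfl fun ψ hψ => ?_
        rw [hs.zinv_mul hz, (mem_cls.1 hψ).2]
        ring
      have e2 : E i (z⁻¹ * y) = E i y := by
        refine Finset.sum_congr rfl fun r hr => ?_
        rw [hs.zinv_mul hz, (mem_cls.1 hr).2, map_one, one_mul]
      show Φ i (z⁻¹ * y) - E i (z⁻¹ * y) = _
      rw [e1, e2, hΦreg i y hy]
      ring
    · show Φ i (u k * (c : G)) - E i (u k * (c : G)) = _
      have e1 : Φ i (u k * (c : G)) = 0 := Finset.sum_eq_zero fun ψ hψ => by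
        rw [hs.value_const hM (mem_cls.1 hψ).1 k hc', hs.u_zero hz ((mem_cls.1 hψ).2 ▸ h1), mul_zero]
      have e2 : E i (u k * (c : G)) = ((if k = 0 then 3 else 0 : ℤ) : ℂ) := by
        rw [show E i (u k * (c : G)) =
          ∑ r ∈ cls M z 1, (F.evec (eqv i).1 r : ℂ) * (d r k : ℂ) from Finset.sum_congr rfl fun r hr => by
            rw [hs.value_const hM (mem_cls.1 hr).1 k hc', hd],
          F.sum_evec (eqv i).2, ← F.evec_col (eqv i).2 k]
        push_cast
        ring
      rw [e1, e2]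
      split_ifs <;> norm_num
    · obtain ⟨ei, hei⟩ : ∃ x, x = (eqv i).1 := ⟨_, rfl⟩
      obtain ⟨ej, hej⟩ : ∃ x, x = (eqv j).1 := ⟨_, rfl⟩
      have hij : ei = ej ↔ i = j := by
        rw [hei, hej, ← Subtype.ext_iff, eqv.injective.eq_iff]
      have hPi : ei ∈ F.plain := hei ▸ (eqv i).2
      have hPj : ej ∈ F.plain := hej ▸ (eqv j).2
      have his : ei ≠ s := hsdef ▸ (F.mem_plain.1 hPi).2 0
      have hjs : ej ≠ s := hsdef ▸ (F.mem_plain.1 hPj).2 0
      have hTl : ∀ r : IrrCharacter G, T 3 1 (r : G → ℂ) (E j) =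
          (τ ej : ℂ) * T 3 1 (r : G → ℂ) (ej : G → ℂ) - (τ s : ℂ) * T 3 1 (r : G → ℂ) (s : G → ℂ) := by
        intro r
        rw [T1_sum_right]
        simp only [map_intCast]
        rw [F.sum_evec (eqv j).2, ← hsdef, ← hej]
      show T 3 1 (E i) (E j) = _
      rw [T1_sum_left, F.sum_evec (eqv i).2, ← hsdef, ← hei, hTl, hTl]
      have hci : ∀ k, (τ ei : ℂ) * (d ei k : ℂ) - (τ s : ℂ) * (d s k : ℂ) = if k = 0 then 3 else 0 :=
        fun k => by
          have := F.evec_col hPi k
          rw [← hsdef] at this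
          exact_mod_cast this
      have hcj : ∀ k, (τ ej : ℂ) * (d ej k : ℂ) - (τ s : ℂ) * (d s k : ℂ) = if k = 0 then 3 else 0 :=
        fun k => by
          have := F.evec_col hPj k
          rw [← hsdef] at this
          exact_mod_cast this
      have hK : (τ ei : ℂ) * τ ej * ∑ k, (d ei k : ℂ) * (d ej k : ℂ) / 9 -
          (τ ei : ℂ) * τ s * ∑ k, (d ei k : ℂ) * (d s k : ℂ) / 9 -
          (τ s : ℂ) * τ ej * ∑ k, (d s k : ℂ) * (d ej k : ℂ) / 9 +
          (τ s : ℂ) * τ s * ∑ k, (d s k : ℂ) * (d s k : ℂ) / 9 = 1 := by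
        simp only [Finset.mul_sum, ← Finset.sum_sub_distrib, ← Finset.sum_add_distrib]
        rw [Finset.sum_congr rfl fun k _ => show _ =
          ((τ ei : ℂ) * (d ei k : ℂ) - (τ s : ℂ) * (d s k : ℂ)) *
            ((τ ej : ℂ) * (d ej k : ℂ) - (τ s : ℂ) * (d s k : ℂ)) / 9 by ring,
          Finset.sum_eq_single (0 : Fin m) (fun k _ hk => by rw [hci, hcj, if_neg hk]; ring)
            (fun h => absurd (Finset.mem_univ _) h), hci, hcj, if_pos rfl]
        norm_num
      have hδ : (τ ei : ℂ) * τ ej * (if ei = ej then 1 else 0) + (τ s : ℂ) * τ s =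
          (if i = j then 1 else 0) + 1 := by
        have q : ∀ r, (τ r : ℂ) * τ r = 1 := fun r => by exact_mod_cast F.tau_sq r
        rw [q s]
        by_cases hcase : ei = ej
        · rw [if_pos hcase, if_pos (hij.1 hcase), hcase, q, mul_one]
        · rw [if_neg hcase, if_neg fun h => hcase (hij.2 h), mul_zero]
      have t1 := hTcls ei (F.mem_plain.1 hPi).1 ej (F.mem_plain.1 hPj).1
      have t2 := hTcls ei (F.mem_plain.1 hPi).1 s hscls
      have t3 := hTcls s hscls ej (F.mem_plain.1 hPj).1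
      have t4 := hTcls s hscls s hscls
      rw [if_neg his] at t2
      rw [if_neg hjs.symm] at t3
      rw [if_pos rfl] at t4
      have hgoal : (if i = j then (1 / 3 : ℂ) else 0) = (if i = j then (1 : ℂ) else 0) / 3 := by
        split_ifs <;> norm_num
      rw [hgoal]
      linear_combination ((τ ei : ℂ) * τ ej / 3) * t1 - ((τ ei : ℂ) * τ s / 3) * t2 -
        ((τ s : ℂ) * τ ej / 3) * t3 + ((τ s : ℂ) * τ s / 3) * t4 - (1 / 3 : ℂ) * hK +
        (1 / 3 : ℂ) * hδ
    · show T 3 1 f (E i) = 0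
      rw [T1_sum_right]
      exact Finset.sum_eq_zero fun r hr => by rw [hfo r (mem_cls.1 hr).1, mul_zero]
    · rw [show (fun y => Φ i y - E i y) = Φ i - E i from rfl, classInner_sub_left, inner_comb,
        inner_comb, if_pos ho, if_neg fun h => h1 ((mem_cls.1 h).2.symm.trans (mem_cls.1 ho).2)]
      have hτo : τ (trivialIrr G) = 1 := F.tau_o ho hdo
      simp only [Frame.evec, ← hsdef]
      rw [if_neg (hsdef ▸ (F.ne_o 0).symm : trivialIrr G ≠ s)]
      by_cases hi : i = eqv.symm ⟨trivialIrr G, hoP⟩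
      · rw [if_pos hi, hi, Equiv.apply_symm_apply, if_pos rfl, hτo]; norm_num
      · rw [if_neg hi, if_neg fun e => hi (by
          rw [Equiv.eq_symm_apply]; exact Subtype.ext e.symm)]
        norm_num
    · have hcls1 : ∀ r ∈ cls M z 1, T 3 1 f (r : G → ℂ) = 0 := by
        refine F.complete (x := fun r => T 3 1 f (r : G → ℂ)) (fun k => ?_) (fun i hi => ?_)
        · calc _ = T 3 1 f (fun y => ∑ r ∈ cls M z 1, (d r k : ℂ) * (r : G → ℂ) y) := by
                rw [T1_sum_right]
                exact Finset.sum_congr rfl fun r _ => by rw [map_intCast]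
            _ = 0 := by
                rw [T1_congr_right (g' := fun _ => (0 : ℂ)) fun y hy => hcolreg k y hy, T_one_eq]
                simp
        · have h := hf0 (eqv.symm ⟨i, hi⟩)
          change T 3 1 f (E _) = 0 at h
          rw [T1_sum_right] at h
          simp only [map_intCast] at h
          rw [F.sum_evec (eqv _).2, Equiv.apply_symm_apply] at h
          exact h
      intro ξ hξ
      rw [T1_congr_right (g' := fun y => ∑ η ∈ cls M z 1,
        3 * T 3 1 (ξ : G → ℂ) (η : G → ℂ) * (η : G → ℂ) y)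
        fun y hy => hs.reg_expand hz hM (one_pow 3) hξ hy, T1_sum_right]
      exact Finset.sum_eq_zero fun η hη => by rw [hcls1 η hη, mul_zero]

end Setup

end Cfsg.Agent.Block.ExtraThree
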