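import Cfsg.Agent.Lib.Transfer.Burnside
import Cfsg.Agent.Lib.Transfer.Fusion
import Cfsg.Prelude.Def_Transfer
import Mathlib.GroupTheory.QuotientGroup.Basic

/-!
An extraspecial Sylow `3`-subgroup of order `27` and exponent `3` whose normalizer centralizes its
centre: fusion is controlled by the normalizer, and the centralizers of the non-central elements
have normal `3`-complements.
-/

namespace Cfsg.Agent.Block.ExtraThree

open Cfsg

set_option linter.unusedSectionVars false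

universe u

variable {G : Type u} [Group G] [Finite G]

/-- The local hypotheses, with a chosen generator of the centre. -/
structure Base (P : Sylow 3 G) (z : G) : Prop where
  card : Nat.card (P : Subgroup G) = 27
  exp : ∀ x ∈ (P : Subgroup G), x ^ 3 = 1
  zP : z ∈ (P : Subgroup G)
  zord : orderOf z = 3
  zcomm : ∀ w ∈ (P : Subgroup G), w * z = z * w
  center : ∀ w ∈ (P : Subgroup G), (∀ y ∈ (P : Subgroup G), w * y = y * w) →
    w = 1 ∨ w = z ∨ w = z⁻¹
  derived : ∀ a ∈ (P : Subgroup G), ∀ b ∈ (P : Subgroup G),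
    a * b * a⁻¹ * b⁻¹ = 1 ∨ a * b * a⁻¹ * b⁻¹ = z ∨ a * b * a⁻¹ * b⁻¹ = z⁻¹
  norm : ∀ g ∈ Subgroup.normalizer ((P : Subgroup G) : Set G), g * z = z * g

theorem cube_cases {z : G} (hz : orderOf z = 3) {w : G} (hw : w ∈ Subgroup.zpowers z) :
    w = 1 ∨ w = z ∨ w = z⁻¹ := by
  classical
  obtain ⟨j, rfl⟩ := Subgroup.mem_zpowers_iff.1 hw
  rw [← zpow_mod_orderOf, hz]
  have h1 : 0 ≤ j % ((3 : ℕ) : ℤ) := Int.emod_nonneg _ (by norm_num)
  have h2 : j % ((3 : ℕ) : ℤ) < ((3 : ℕ) : ℤ) := Int.emod_lt_of_pos _ (by norm_num)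
  rcases (by omega : j % ((3 : ℕ) : ℤ) = 0 ∨ j % ((3 : ℕ) : ℤ) = 1 ∨ j % ((3 : ℕ) : ℤ) = 2)
    with h | h | h <;> rw [h]
  · simp
  · simp
  · refine .inr (.inr ?_)
    have h3 : z ^ 3 = 1 := hz ▸ pow_orderOf_eq_one z
    rw [eq_inv_iff_mul_eq_one, zpow_two, ← pow_three']
    exact h3

theorem exists_base (P : Sylow 3 G) (hE : IsExtraspecial 3 (P : Subgroup G))
    (h27 : Nat.card (P : Subgroup G) = 27) (hexp : ∀ x ∈ (P : Subgroup G), x ^ 3 = 1)
    (hNC : ∀ g ∈ Subgroup.normalizer ((P : Subgroup G) : Set G), ∀ z ∈ (P : Subgroup G),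
      (∀ y ∈ (P : Subgroup G), z * y = y * z) → g * z = z * g) :
    ∃ z, Base P z := by
  classical
  haveI : Fact (Nat.Prime 3) := ⟨Nat.prime_three⟩
  obtain ⟨z₀, hz₀⟩ := exists_prime_orderOf_dvd_card' (G := Subgroup.center (P : Subgroup G)) 3
    (by rw [hE.2])
  have hzord : orderOf (((z₀ : (P : Subgroup G))) : G) = 3 := by
    rw [Subgroup.orderOf_coe, Subgroup.orderOf_coe, hz₀]
  set z : G := ((z₀ : (P : Subgroup G)) : G) with hz
  have hcomm : ∀ w ∈ (P : Subgroup G), w * z = z * w := fun w hw =>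
    congrArg Subtype.val (Subgroup.mem_center_iff.1 z₀.2 ⟨w, hw⟩)
  have hcen : ∀ w : (P : Subgroup G), w ∈ Subgroup.center (P : Subgroup G) →
      (w : G) = 1 ∨ (w : G) = z ∨ (w : G) = z⁻¹ := by
    intro w hw
    refine cube_cases hzord ?_
    have htop : Subgroup.zpowers z₀ = ⊤ :=
      Subgroup.eq_top_of_card_eq _ (by rw [Nat.card_zpowers, hz₀, hE.2])
    obtain ⟨j, hj⟩ := Subgroup.mem_zpowers_iff.1 (htop ▸ Subgroup.mem_top (⟨w, hw⟩ :
      Subgroup.center (P : Subgroup G)))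
    refine Subgroup.mem_zpowers_iff.2 ⟨j, ?_⟩
    have h := congrArg (fun t : Subgroup.center (P : Subgroup G) => ((t : (P : Subgroup G)) : G)) hj
    simpa [hz] using h
  refine ⟨z, h27, hexp, z₀.1.2, hzord, hcomm, fun w hw hc => ?_, fun a ha b hb => ?_,
    fun g hg => hNC g hg z z₀.1.2 fun y hy => (hcomm y hy).symm⟩
  · exact hcen ⟨w, hw⟩ (Subgroup.mem_center_iff.2 fun y => Subtype.ext (hc y y.2).symm)
  · have h := Subgroup.commutator_mem_commutator (Subgroup.mem_top (⟨a, ha⟩ : (P : Subgroup G)))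
      (Subgroup.mem_top (⟨b, hb⟩ : (P : Subgroup G)))
    rw [← commutator_def, hE.1.2.2] at h
    simpa [commutatorElement_def] using hcen _ h

/-- The coset of the centre. -/
def zCoset (z t : G) : Set G := {w | w = t ∨ w = t * z ∨ w = t * z⁻¹}

namespace Base

variable {P : Sylow 3 G} {z : G} (h : Base P z)
include h

theorem z_cube : z ^ 3 = 1 := h.exp z h.zP

theorem z_ne_one : z ≠ 1 := fun e => by simpa [e] using h.zord

theorem z_ne_inv : z ≠ z⁻¹ := fun e => by
  have h2 : orderOf z ∣ 2 := orderOf_dvd_of_pow_eq_one (by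
    rw [pow_two]; exact eq_inv_iff_mul_eq_one.1 e)
  rw [h.zord] at h2
  norm_num at h2

theorem z_sq : z * z = z⁻¹ := by
  rw [eq_inv_iff_mul_eq_one, ← pow_three']
  exact h.z_cube

theorem inv_z_sq : z⁻¹ * z⁻¹ = z := by
  rw [← mul_inv_rev, h.z_sq, inv_inv]

/-- Every Sylow subgroup containing a conjugate of the centre. -/
theorem le_centralizer : (P : Subgroup G) ≤ Subgroup.centralizer ({z} : Set G) := fun w hw =>
  Subgroup.mem_centralizer_singleton_iff.2 (h.zcomm w hw)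

/-- An element sending `z` to a power of `z` centralizes it. -/
theorem fix_z {g : G} (hg : g * z * g⁻¹ = z ∨ g * z * g⁻¹ = z⁻¹) : g * z * g⁻¹ = z := by
  haveI : Fact (Nat.Prime 3) := ⟨Nat.prime_three⟩
  refine hg.resolve_right fun hinv => ?_
  set C := Subgroup.centralizer ({z} : Set G) with hC
  have hconj : ∀ w ∈ (P : Subgroup G), g * w * g⁻¹ ∈ C := fun w hw => by
    rw [hC, Subgroup.mem_centralizer_singleton_iff]
    have hc : Commute (g * w * g⁻¹) (g * z * g⁻¹) := by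
      simpa using (show Commute w z from h.zcomm w hw).map (MulAut.conj g).toMonoidHom
    rw [hinv] at hc
    exact (Commute.inv_right_iff.1 hc).eq
  obtain ⟨P', hP'⟩ : ∃ P' : Sylow 3 G, P' = g • P := ⟨_, rfl⟩
  have hP'C : (P' : Subgroup G) ≤ C := by
    intro a ha
    rw [hP', Sylow.coe_subgroup_smul] at ha
    obtain ⟨w, hw, rfl⟩ := ha
    simpa using hconj w hw
  obtain ⟨c, hc⟩ := MulAction.exists_smul_eq C (P'.subtype hP'C) (P.subtype h.le_centralizer)
  have hn : (c : G) * g ∈ Subgroup.normalizer ((P : Subgroup G) : Set G) := by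
    refine Sylow.smul_eq_iff_mem_normalizer.1 ?_
    rw [← smul_smul, ← hP']
    rw [Sylow.smul_subtype] at hc
    exact Sylow.subtype_injective hc
  have h1 := h.norm _ hn
  have h2 : (c : G) * z = z * c := Subgroup.mem_centralizer_singleton_iff.1 c.2
  have h3 : (c : G) * (g * z * g⁻¹) * (c : G)⁻¹ = z := by
    calc (c : G) * (g * z * g⁻¹) * (c : G)⁻¹ = ((c : G) * g * z) * ((c : G) * g)⁻¹ := by group
      _ = z := by rw [h1, mul_inv_cancel_right]
  rw [hinv] at h3
  refine h.z_ne_inv ?_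
  calc z = (c : G) * z⁻¹ * (c : G)⁻¹ := h3.symm
    _ = z⁻¹ := by rw [((show Commute (c : G) z from h2).inv_right).eq, mul_inv_cancel_right]

/-- A non-central element is moved along the centre by the Sylow subgroup. -/
theorem shift {u : G} (hu : u ∈ (P : Subgroup G)) (hu' : u ∉ Subgroup.zpowers z) :
    ∃ p ∈ (P : Subgroup G), p * u * p⁻¹ = u * z := by
  have hex : ∃ w ∈ (P : Subgroup G), w * u ≠ u * w := by
    by_contra hc
    push Not at hc
    rcases h.center u hu (fun y hy => (hc y hy).symm) with e | e | e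
    · exact hu' (e ▸ one_mem _)
    · exact hu' (e ▸ Subgroup.mem_zpowers z)
    · exact hu' (e ▸ inv_mem (Subgroup.mem_zpowers z))
  obtain ⟨w, hw, hne⟩ := hex
  rcases h.derived w hw u hu with e | e | e
  · exact absurd (by rwa [mul_inv_eq_one, mul_inv_eq_iff_eq_mul] at e) hne
  · refine ⟨w, hw, ?_⟩
    rw [mul_inv_eq_iff_eq_mul] at e
    rw [e, (show Commute u z from h.zcomm u hu).eq]
  · refine ⟨w⁻¹, inv_mem hw, ?_⟩
    rw [mul_inv_eq_iff_eq_mul] at e
    have e2 : w * (u * z) * w⁻¹ = u := by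
      calc w * (u * z) * w⁻¹ = (w * u * w⁻¹) * (w * z * w⁻¹) := by group
        _ = z⁻¹ * u * z := by rw [e, h.zcomm w hw, mul_inv_cancel_right]
        _ = u := by
          rw [mul_assoc, (show Commute u z from h.zcomm u hu).eq, inv_mul_cancel_left]
    conv_lhs => rw [← e2]
    group

theorem shift_inv {u : G} (hu : u ∈ (P : Subgroup G)) (hu' : u ∉ Subgroup.zpowers z) :
    ∃ p ∈ (P : Subgroup G), p * u * p⁻¹ = u * z⁻¹ := by
  obtain ⟨p, hp, he⟩ := h.shift hu hu'
  refine ⟨p⁻¹, inv_mem hp, ?_⟩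
  have e2 : p * (u * z⁻¹) * p⁻¹ = u := by
    calc p * (u * z⁻¹) * p⁻¹ = (p * u * p⁻¹) * (p * z * p⁻¹)⁻¹ := by group
      _ = u := by rw [he, h.zcomm p hp, mul_inv_cancel_right, mul_inv_cancel_right]
  conv_lhs => rw [← e2]
  group

/-- The centre is weakly closed in the Sylow subgroup. -/
theorem eq_z_of_conj {g : G} (hg : g * z * g⁻¹ ∈ (P : Subgroup G)) : g * z * g⁻¹ = z := by
  haveI : Fact (Nat.Prime 3) := ⟨Nat.prime_three⟩
  obtain ⟨u, hu⟩ : ∃ u, u = g * z * g⁻¹ := ⟨_, rfl⟩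
  have huP : u ∈ (P : Subgroup G) := hu ▸ hg
  by_cases hu' : u ∈ Subgroup.zpowers z
  · rcases cube_cases h.zord hu' with e | e | e
    · exact absurd (conj_eq_one_iff.1 (hu ▸ e)) h.z_ne_one
    · exact hu ▸ e
    · exact h.fix_z (.inr (hu ▸ e))
  exfalso
  set C := Subgroup.centralizer ({u} : Set G) with hC
  obtain ⟨R, hR⟩ : ∃ R : Sylow 3 G, R = g • P := ⟨_, rfl⟩
  have hRC : (R : Subgroup G) ≤ C := by
    intro a ha
    rw [hR, Sylow.coe_subgroup_smul] at ha
    obtain ⟨w, hw, rfl⟩ := ha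
    rw [hC, Subgroup.mem_centralizer_singleton_iff, hu]
    simpa using ((show Commute w z from h.zcomm w hw).map (MulAut.conj g).toMonoidHom).eq
  have hzC : z ∈ C := Subgroup.mem_centralizer_singleton_iff.2 (h.zcomm u huP).symm
  have hzp : IsPGroup 3 (Subgroup.zpowers (⟨z, hzC⟩ : C)) :=
    IsPGroup.of_card (n := 1) (by rw [Nat.card_zpowers, Subgroup.orderOf_mk, h.zord, pow_one])
  obtain ⟨S, hS⟩ := hzp.exists_le_sylow
  obtain ⟨c, hc⟩ := MulAction.exists_smul_eq C (R.subtype hRC) S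
  have hz' : (⟨z, hzC⟩ : C) ∈ ((c • R.subtype hRC : Sylow 3 C) : Subgroup C) :=
    hc.symm ▸ hS (Subgroup.mem_zpowers _)
  rw [Sylow.coe_subgroup_smul] at hz'
  obtain ⟨r, hr, hre⟩ := hz'
  have hr' : (r : G) ∈ (R : Subgroup G) := hr
  rw [hR, Sylow.coe_subgroup_smul] at hr'
  obtain ⟨y, hy, hye⟩ := hr'
  obtain ⟨g', hg'⟩ : ∃ g', g' = (c : G) * g := ⟨_, rfl⟩
  have hgu : g' * z * g'⁻¹ = u := by
    have hcu : (c : G) * u = u * c := Subgroup.mem_centralizer_singleton_iff.1 c.2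
    calc g' * z * g'⁻¹ = (c : G) * (g * z * g⁻¹) * (c : G)⁻¹ := by rw [hg']; group
      _ = u := by rw [← hu, hcu, mul_inv_cancel_right]
  have hgy : g' * y * g'⁻¹ = z := by
    have h1 : (c : G) * (r : G) * (c : G)⁻¹ = z := by
      simpa using congrArg Subtype.val hre
    have h2 : g * y * g⁻¹ = (r : G) := by simpa using hye
    rw [hg', ← h1, ← h2]
    group
  have hy' : y ∉ Subgroup.zpowers z := by
    intro hm
    rcases cube_cases h.zord hm with e | e | e <;> rw [e] at hgy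
    · rw [mul_one, mul_inv_cancel] at hgy
      exact h.z_ne_one hgy.symm
    · rw [hgu] at hgy
      exact hu' (hgy ▸ Subgroup.mem_zpowers z)
    · rw [← conj_inv, hgu] at hgy
      exact hu' (by rw [inv_eq_iff_eq_inv.1 hgy]; exact inv_mem (Subgroup.mem_zpowers z))
  obtain ⟨p, hp, hpy⟩ := h.shift hy hy'
  obtain ⟨b, hb, hbu⟩ := h.shift huP hu'
  obtain ⟨a, ha⟩ : ∃ a, a = g' * p * g'⁻¹ := ⟨_, rfl⟩
  have haz : a * z * a⁻¹ = z * u := by
    calc a * z * a⁻¹ = g' * (p * y * p⁻¹) * g'⁻¹ := by rw [ha, ← hgy]; group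
      _ = (g' * y * g'⁻¹) * (g' * z * g'⁻¹) := by rw [hpy]; group
      _ = z * u := by rw [hgy, hgu]
  have hau : a * u * a⁻¹ = u := by
    calc a * u * a⁻¹ = g' * (p * z * p⁻¹) * g'⁻¹ := by rw [ha, ← hgu]; group
      _ = u := by rw [h.zcomm p hp, mul_inv_cancel_right, hgu]
  have hbz : b * z * b⁻¹ = z := by rw [h.zcomm b hb, mul_inv_cancel_right]
  have huz : u * z = z * u := h.zcomm u huP
  have hbu' : b⁻¹ * u * b = u * z⁻¹ := by
    have e : b * (u * z⁻¹) * b⁻¹ = u := by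
      calc b * (u * z⁻¹) * b⁻¹ = (b * u * b⁻¹) * (b * z * b⁻¹)⁻¹ := by group
        _ = u := by rw [hbu, hbz, mul_inv_cancel_right]
    conv_lhs => rw [← e]
    group
  obtain ⟨n, hn⟩ : ∃ n, n = a * b⁻¹ * a := ⟨_, rfl⟩
  have hnz : n * z * n⁻¹ = u := by
    calc n * z * n⁻¹ = a * (b⁻¹ * (a * z * a⁻¹) * b) * a⁻¹ := by rw [hn]; group
      _ = a * ((b⁻¹ * z * b) * (b⁻¹ * u * b)) * a⁻¹ := by rw [haz]; group
      _ = a * (z * (u * z⁻¹)) * a⁻¹ := by
        rw [hbu', show b⁻¹ * z * b = z by rw [mul_assoc, ← h.zcomm b hb, inv_mul_cancel_left]]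
      _ = a * u * a⁻¹ := by rw [← mul_assoc z, ← huz, mul_inv_cancel_right]
      _ = u := hau
  have hnu : n * u * n⁻¹ = z⁻¹ := by
    calc n * u * n⁻¹ = a * (b⁻¹ * (a * u * a⁻¹) * b) * a⁻¹ := by rw [hn]; group
      _ = (a * u * a⁻¹) * (a * z * a⁻¹)⁻¹ := by conv_lhs => rw [hau, hbu']
                                                group
      _ = z⁻¹ := by rw [hau, haz, mul_inv_rev, mul_inv_cancel_left]
  have h2 : (n * n) * z * (n * n)⁻¹ = z⁻¹ := by
    calc (n * n) * z * (n * n)⁻¹ = n * (n * z * n⁻¹) * n⁻¹ := by group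
      _ = z⁻¹ := by rw [hnz, hnu]
  exact h.z_ne_inv ((h.fix_z (.inr h2)).symm.trans h2)

theorem eq_zpow_of_conj {g w : G} (hw : w ∈ Subgroup.zpowers z)
    (hg : g * w * g⁻¹ ∈ (P : Subgroup G)) : g * w * g⁻¹ = w := by
  rcases cube_cases h.zord hw with rfl | rfl | rfl
  · simp
  · exact h.eq_z_of_conj hg
  · rw [← conj_inv] at hg ⊢
    rw [h.eq_z_of_conj (inv_mem_iff.1 hg)]

theorem not_conj {y : G} (hy : y ∈ (P : Subgroup G)) (hy' : y ∉ Subgroup.zpowers z) {w : G}
    (hw : w ∈ Subgroup.zpowers z) : ¬ IsConj w y := fun hc => by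
  obtain ⟨g, hg⟩ := isConj_iff.1 hc
  exact hy' (by rw [← hg, h.eq_zpow_of_conj hw (hg ▸ hy)]; exact hw)

/-- The centralizer in the Sylow subgroup of a non-central element has order nine. -/
theorem card_cent {y : G} (hy : y ∈ (P : Subgroup G)) (hy' : y ∉ Subgroup.zpowers z) :
    Nat.card ((P : Subgroup G) ⊓ Subgroup.centralizer ({y} : Set G) : Subgroup G) = 9 := by
  classical
  set A := (P : Subgroup G) ⊓ Subgroup.centralizer ({y} : Set G) with hA
  have hle : A ≤ (P : Subgroup G) := inf_le_left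
  have hd : Nat.card A ∣ 3 ^ 3 := by
    have := Subgroup.card_dvd_of_le hle
    rwa [h.card] at this
  obtain ⟨i, hi, hcard⟩ := (Nat.dvd_prime_pow Nat.prime_three).1 hd
  have hne : A ≠ (P : Subgroup G) := by
    intro e
    obtain ⟨p, hp, hpe⟩ := h.shift hy hy'
    have hpA : p ∈ A := e ▸ hp
    rw [Subgroup.mem_centralizer_singleton_iff.1 hpA.2, mul_inv_cancel_right, left_eq_mul] at hpe
    exact h.z_ne_one hpe
  have h3 : i ≠ 3 := fun e => hne (Subgroup.eq_of_le_of_card_ge hle (by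
    rw [hcard, h.card, e]; norm_num))
  have hlow : 4 ≤ Nat.card A := by
    have hzA : z ∈ A := ⟨h.zP, Subgroup.mem_centralizer_singleton_iff.2 (h.zcomm y hy).symm⟩
    have hyA : y ∈ A := ⟨hy, Subgroup.mem_centralizer_singleton_iff.2 rfl⟩
    haveI := Fintype.ofFinite A
    rw [Nat.card_eq_fintype_card, ← Finset.card_univ]
    refine le_trans (le_of_eq ?_) (Finset.card_le_card (Finset.subset_univ
      ({1, ⟨z, hzA⟩, ⟨z, hzA⟩⁻¹, ⟨y, hyA⟩} : Finset A)))
    have e1 : z ≠ 1 := h.z_ne_one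
    have e2 : z ≠ z⁻¹ := h.z_ne_inv
    have e3 : y ≠ 1 := fun e => hy' (e ▸ one_mem _)
    have e4 : y ≠ z := fun e => hy' (e ▸ Subgroup.mem_zpowers z)
    have e5 : y ≠ z⁻¹ := fun e => hy' (e ▸ inv_mem (Subgroup.mem_zpowers z))
    rw [Finset.card_insert_of_notMem (by
        simp only [Finset.mem_insert, Finset.mem_singleton, Subtype.ext_iff]
        push_cast
        rintro (e | e | e)
        · exact e1 e.symm
        · exact e1 (inv_eq_one.1 e.symm)
        · exact e3 e.symm),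
      Finset.card_insert_of_notMem (by
        simp only [Finset.mem_insert, Finset.mem_singleton, Subtype.ext_iff]
        push_cast
        rintro (e | e)
        · exact e2 e
        · exact e4 e.symm),
      Finset.card_pair (by
        simp only [ne_eq, Subtype.ext_iff]
        push_cast
        exact fun e => e5 e.symm)]
  interval_cases i <;> simp_all

/-- A `3`-element commuting with a non-central element is conjugate into the Sylow subgroup by
the centralizer, and the centralizer has `3`-part nine. -/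
theorem factorization_cent {y : G} (hy : y ∈ (P : Subgroup G)) (hy' : y ∉ Subgroup.zpowers z) :
    (Nat.card (Subgroup.centralizer ({y} : Set G))).factorization 3 = 2 := by
  haveI : Fact (Nat.Prime 3) := ⟨Nat.prime_three⟩
  set C := Subgroup.centralizer ({y} : Set G) with hC
  refine le_antisymm ?_ ?_
  · by_contra hlt
    obtain ⟨Q⟩ : Nonempty (Sylow 3 C) := inferInstance
    have hG : (Nat.card G).factorization 3 = 3 := by
      have := Sylow.card_eq_multiplicity P
      rw [h.card] at this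
      exact (Nat.pow_right_injective (by norm_num : 2 ≤ 3) ((by norm_num : (3 : ℕ) ^ 3 = 27).trans this)).symm
    have hQ : 27 ≤ Nat.card (Q : Subgroup C) := by
      rw [Sylow.card_eq_multiplicity Q]
      exact le_trans (by norm_num : 27 ≤ 3 ^ 3) (Nat.pow_le_pow_right (by norm_num) (by omega))
    have hyC : y ∈ C := Subgroup.mem_centralizer_singleton_iff.2 rfl
    have hyQ : (⟨y, hyC⟩ : C) ∈ (Q : Subgroup C) := by
      have hcen : (⟨y, hyC⟩ : C) ∈ Subgroup.center C := Subgroup.mem_center_iff.2 fun c =>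
        Subtype.ext (Subgroup.mem_centralizer_singleton_iff.1 c.2)
      have hp : IsPGroup 3 (Subgroup.zpowers (⟨y, hyC⟩ : C)) := by
        obtain ⟨k, hk⟩ := IsPGroup.iff_orderOf.1 P.isPGroup' ⟨y, hy⟩
        exact IsPGroup.of_card (n := k)
          (by rw [Nat.card_zpowers, Subgroup.orderOf_mk, ← hk, Subgroup.orderOf_mk])
      have hle' : Subgroup.zpowers (⟨y, hyC⟩ : C) ≤
          Subgroup.normalizer ((Q : Subgroup C) : Set C) :=
        Subgroup.zpowers_le.2 (Subgroup.center_le_normalizer _ hcen)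
      rw [← Q.is_maximal' (hp.to_sup_of_normal_right' Q.isPGroup' hle') le_sup_right]
      exact Subgroup.mem_sup_left (Subgroup.mem_zpowers _)
    obtain ⟨Q', hQ'⟩ := (Q.isPGroup'.map C.subtype).exists_le_sylow
    have hQe : (Q : Subgroup C).map C.subtype = (Q' : Subgroup G) := by
      refine Subgroup.eq_of_le_of_card_ge hQ' ?_
      rw [Sylow.card_eq_multiplicity Q', hG,
        Subgroup.card_map_of_injective (Subgroup.subtype_injective C)]
      exact le_trans (by norm_num) hQ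
    obtain ⟨t, ht⟩ := MulAction.exists_smul_eq G Q' P
    have hmem : t * y * t⁻¹ ∈ (P : Subgroup G) := by
      rw [← ht, Sylow.coe_subgroup_smul]
      exact Subgroup.smul_mem_pointwise_smul _ (MulAut.conj t) _ (hQe ▸ ⟨_, hyQ, rfl⟩)
    have hcent : ∀ w ∈ (P : Subgroup G), (t * y * t⁻¹) * w = w * (t * y * t⁻¹) := by
      intro w hw
      rw [← ht, Sylow.coe_subgroup_smul] at hw
      obtain ⟨q, hq, rfl⟩ := hw
      rw [← hQe] at hq
      obtain ⟨q', -, rfl⟩ := hq
      have hc : Commute y (q' : G) := (Subgroup.mem_centralizer_singleton_iff.1 q'.2).symm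
      simpa using (hc.map (MulAut.conj t).toMonoidHom).eq
    have hzp : t * y * t⁻¹ ∈ Subgroup.zpowers z := by
      rcases h.center _ hmem hcent with e | e | e <;> rw [e]
      · exact one_mem _
      · exact Subgroup.mem_zpowers z
      · exact inv_mem (Subgroup.mem_zpowers z)
    exact h.not_conj hy hy' hzp (isConj_iff.2 ⟨t⁻¹, by group⟩)
  · refine (Nat.prime_three.pow_dvd_iff_le_factorization Nat.card_pos.ne').1 ?_
    have := Subgroup.card_dvd_of_le (show (P : Subgroup G) ⊓ C ≤ C from inf_le_right)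
    rw [h.card_cent hy hy'] at this
    simpa using this

theorem exists_sylow_cent {y : G} (hy : y ∈ (P : Subgroup G)) (hy' : y ∉ Subgroup.zpowers z) :
    ∃ A : Sylow 3 (Subgroup.centralizer ({y} : Set G)),
      ∀ c : Subgroup.centralizer ({y} : Set G),
        c ∈ (A : Subgroup (Subgroup.centralizer ({y} : Set G))) ↔ (c : G) ∈ (P : Subgroup G) := by
  haveI : Fact (Nat.Prime 3) := ⟨Nat.prime_three⟩
  set C := Subgroup.centralizer ({y} : Set G) with hC
  refine ⟨Sylow.ofCard ((P : Subgroup G).subgroupOf C) ?_, fun c => ?_⟩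
  · rw [h.factorization_cent hy hy', ← Subgroup.card_map_of_injective (Subgroup.subtype_injective C),
      Subgroup.subgroupOf_map_subtype, h.card_cent hy hy']
    norm_num
  · simp [Subgroup.mem_subgroupOf]

theorem coset_norm {t : G} (ht : t ∈ (P : Subgroup G)) :
    (P : Subgroup G) ≤ Subgroup.normalizer (zCoset z t) := by
  intro p hp
  have hpz : ∀ p ∈ (P : Subgroup G), ∀ w ∈ zCoset z t, p * w * p⁻¹ ∈ zCoset z t := by
    intro p hp w hw
    have hzz : p * z * p⁻¹ = z := by rw [h.zcomm p hp, mul_inv_cancel_right]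
    have ht3 : p * t * p⁻¹ ∈ zCoset z t := by
      rcases h.derived p hp t ht with e | e | e <;> rw [mul_inv_eq_iff_eq_mul] at e
      · exact .inl (by rw [e, one_mul])
      · exact .inr (.inl (by rw [e, h.zcomm t ht]))
      · exact .inr (.inr (by rw [e]; exact ((show Commute t z from h.zcomm t ht).inv_right).eq.symm))
    rcases hw with rfl | rfl | rfl
    · exact ht3
    · rw [show p * (t * z) * p⁻¹ = (p * t * p⁻¹) * (p * z * p⁻¹) by group, hzz]
      rcases ht3 with e | e | e <;> rw [e]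
      · exact .inr (.inl rfl)
      · exact .inr (.inr (by rw [mul_assoc, h.z_sq]))
      · exact .inl (inv_mul_cancel_right t z)
    · rw [show p * (t * z⁻¹) * p⁻¹ = (p * t * p⁻¹) * (p * z * p⁻¹)⁻¹ by group, hzz]
      rcases ht3 with e | e | e <;> rw [e]
      · exact .inr (.inr rfl)
      · exact .inl (mul_inv_cancel_right t z)
      · exact .inr (.inl (by rw [mul_assoc, h.inv_z_sq]))
  rw [Subgroup.mem_set_normalizer_iff]
  intro w
  refine ⟨hpz p hp w, fun hw => ?_⟩
  have := hpz p⁻¹ (inv_mem hp) _ hw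
  simpa [mul_assoc] using this

/-- Non-central elements conjugate in the group are conjugate in the normalizer. -/
theorem fusion {x y : G} (hx : x ∈ (P : Subgroup G)) (hx' : x ∉ Subgroup.zpowers z)
    (hy : y ∈ (P : Subgroup G)) (hy' : y ∉ Subgroup.zpowers z) (hxy : IsConj x y) :
    ∃ n ∈ Subgroup.normalizer ((P : Subgroup G) : Set G), n * x * n⁻¹ = y := by
  haveI : Fact (Nat.Prime 3) := ⟨Nat.prime_three⟩
  obtain ⟨g, hg⟩ := isConj_iff.1 hxy
  set C := Subgroup.centralizer ({y} : Set G) with hC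
  have hgz : g * z * g⁻¹ ∈ C := by
    rw [hC, Subgroup.mem_centralizer_singleton_iff, ← hg]
    simpa using ((show Commute x z from h.zcomm x hx).symm.map (MulAut.conj g).toMonoidHom).eq
  have hp : IsPGroup 3 (Subgroup.zpowers (⟨_, hgz⟩ : C)) :=
    IsPGroup.of_card (n := 1) (by
      rw [Nat.card_zpowers, Subgroup.orderOf_mk, ← MulAut.conj_apply, MulEquiv.orderOf_eq, h.zord,
        pow_one])
  obtain ⟨S, hS⟩ := hp.exists_le_sylow
  obtain ⟨A, hA⟩ := h.exists_sylow_cent hy hy'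
  obtain ⟨c, hc⟩ := MulAction.exists_smul_eq C S A
  have hmem : ((c * ⟨_, hgz⟩ * c⁻¹ : C) : G) ∈ (P : Subgroup G) := by
    rw [← hA, ← hc, Sylow.coe_subgroup_smul]
    exact Subgroup.smul_mem_pointwise_smul _ (MulAut.conj c) _ (hS (Subgroup.mem_zpowers _))
  obtain ⟨k, hk⟩ : ∃ k, k = (c : G) * g := ⟨_, rfl⟩
  have hkz : k * z * k⁻¹ = z := h.eq_z_of_conj (by
    have e : ((c * ⟨_, hgz⟩ * c⁻¹ : C) : G) = k * z * k⁻¹ := by
      rw [hk]; push_cast; group
    rwa [e] at hmem)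
  have hkx : k * x * k⁻¹ = y := by
    have hcy : (c : G) * y = y * c := Subgroup.mem_centralizer_singleton_iff.1 c.2
    calc k * x * k⁻¹ = (c : G) * (g * x * g⁻¹) * (c : G)⁻¹ := by rw [hk]; group
      _ = y := by rw [hg, hcy, mul_inv_cancel_right]
  have hg' : ∀ w, w ∈ zCoset z x ↔ k * w * k⁻¹ ∈ zCoset z y := by
    intro w
    have inj : ∀ a, k * w * k⁻¹ = k * a * k⁻¹ ↔ w = a := fun a =>
      ⟨fun e => mul_left_cancel (mul_right_cancel e), fun e => e ▸ rfl⟩
    have e1 : y * z = k * (x * z) * k⁻¹ := by rw [← hkx]; conv_lhs => arg 2; rw [← hkz]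
                                              group
    have e2 : y * z⁻¹ = k * (x * z⁻¹) * k⁻¹ := by rw [← hkx]; conv_lhs => arg 2; rw [← hkz]
                                                  group
    show (_ ∨ _ ∨ _) ↔ (_ ∨ _ ∨ _)
    rw [e1, e2]
    conv_rhs => rw [← hkx]
    rw [inj, inj, inj]
  obtain ⟨n, hn, hn'⟩ := Cfsg.Agent.Transfer.exists_normalizer_conj_set P (h.coset_norm hx) (h.coset_norm hy) hg'
  rcases (hn' x).1 (.inl rfl) with e | e | e
  · exact ⟨n, hn, e⟩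
  · obtain ⟨p, hp, hpy⟩ := h.shift hy hy'
    refine ⟨p⁻¹ * n, mul_mem (Subgroup.le_normalizer (inv_mem hp)) hn, ?_⟩
    rw [show p⁻¹ * n * x * (p⁻¹ * n)⁻¹ = p⁻¹ * (n * x * n⁻¹) * p by group, e, ← hpy]
    group
  · obtain ⟨p, hp, hpy⟩ := h.shift_inv hy hy'
    refine ⟨p⁻¹ * n, mul_mem (Subgroup.le_normalizer (inv_mem hp)) hn, ?_⟩
    rw [show p⁻¹ * n * x * (p⁻¹ * n)⁻¹ = p⁻¹ * (n * x * n⁻¹) * p by group, e, ← hpy]
    group

/-- The centralizer of a non-central element in the Sylow subgroup is generated by it and `z`. -/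
theorem cent_mem {y w : G} (hy : y ∈ (P : Subgroup G)) (hy' : y ∉ Subgroup.zpowers z)
    (hw : w ∈ (P : Subgroup G)) (hwy : w * y = y * w) :
    ∃ i j : Fin 3, w = y ^ (i : ℕ) * z ^ (j : ℕ) := by
  classical
  set A := (P : Subgroup G) ⊓ Subgroup.centralizer ({y} : Set G) with hA
  have hzA : z ∈ A := ⟨h.zP, Subgroup.mem_centralizer_singleton_iff.2 (h.zcomm y hy).symm⟩
  have hyA : y ∈ A := ⟨hy, Subgroup.mem_centralizer_singleton_iff.2 rfl⟩
  let f : Fin 3 × Fin 3 → A := fun ij =>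
    ⟨y ^ (ij.1 : ℕ) * z ^ (ij.2 : ℕ), mul_mem (pow_mem hyA _) (pow_mem hzA _)⟩
  have hyord : orderOf y = 3 := orderOf_eq_prime (h.exp y hy) fun e => hy' (e ▸ one_mem _)
  have hfi : Function.Injective f := by
    rintro ⟨i, j⟩ ⟨i', j'⟩ e
    have e' : y ^ (i : ℕ) * z ^ (j : ℕ) = y ^ (i' : ℕ) * z ^ (j' : ℕ) := congrArg Subtype.val e
    have hm : y ^ (((i : ℕ) : ℤ) - ((i' : ℕ) : ℤ)) = z ^ (((j' : ℕ) : ℤ) - ((j : ℕ) : ℤ)) := by
      have hc : Commute y z := h.zcomm y hy
      rw [zpow_sub, zpow_sub, zpow_natCast, zpow_natCast, zpow_natCast, zpow_natCast,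
        mul_inv_eq_iff_eq_mul]
      calc y ^ (i : ℕ) = (y ^ (i : ℕ) * z ^ (j : ℕ)) * (z ^ (j : ℕ))⁻¹ := by group
        _ = z ^ (j' : ℕ) * y ^ (i' : ℕ) * (z ^ (j : ℕ))⁻¹ := by
          rw [e', (hc.pow_pow (i' : ℕ) (j' : ℕ)).eq]
        _ = _ := ((hc.pow_pow (i' : ℕ) (j : ℕ)).inv_right).right_comm _
    have hi : (i : ℕ) = (i' : ℕ) := by
      by_contra hne
      have hmem : y ^ (((i : ℕ) : ℤ) - ((i' : ℕ) : ℤ)) ∈ Subgroup.zpowers z :=
        hm ▸ Subgroup.zpow_mem _ (Subgroup.mem_zpowers z) _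
      refine hy' ?_
      have hi1 := i.2
      have hi2 := i'.2
      rcases (by omega : ((i : ℕ) : ℤ) - ((i' : ℕ) : ℤ) = 1 ∨ ((i : ℕ) : ℤ) - ((i' : ℕ) : ℤ) = -1 ∨
          ((i : ℕ) : ℤ) - ((i' : ℕ) : ℤ) = 2 ∨ ((i : ℕ) : ℤ) - ((i' : ℕ) : ℤ) = -2) with e | e | e | e <;>
        rw [e] at hmem
      · simpa using hmem
      · simpa using hmem
      · have h2 : y ^ (2 : ℤ) = y⁻¹ := by
          rw [zpow_two, eq_inv_iff_mul_eq_one, ← pow_three']; exact h.exp y hy
        rw [h2] at hmem; simpa using hmem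
      · have h2 : y ^ (2 : ℤ) = y⁻¹ := by
          rw [zpow_two, eq_inv_iff_mul_eq_one, ← pow_three']; exact h.exp y hy
        rw [zpow_neg, h2, inv_inv] at hmem; exact hmem
    have hj : (j : ℕ) = (j' : ℕ) := by
      rw [hi] at e'
      exact pow_injOn_Iio_orderOf (by simpa [h.zord] using j.2) (by simpa [h.zord] using j'.2)
        (mul_left_cancel e')
    exact Prod.ext (Fin.ext hi) (Fin.ext hj)
  have hb : Function.Bijective f := (Nat.bijective_iff_injective_and_card f).2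
    ⟨hfi, by rw [show Nat.card A = 9 from h.card_cent hy hy', Nat.card_prod, Nat.card_fin]⟩
  obtain ⟨⟨i, j⟩, he⟩ := hb.2 ⟨w, hw, Subgroup.mem_centralizer_singleton_iff.2 hwy⟩
  exact ⟨i, j, (congrArg Subtype.val he).symm⟩

/-- Burnside's criterion in the centralizer of a non-central element. -/
theorem complement_cent {y : G} (hy : y ∈ (P : Subgroup G)) (hy' : y ∉ Subgroup.zpowers z) :
    HasNormalPComplement 3 (Subgroup.centralizer ({y} : Set G)) := by
  haveI : Fact (Nat.Prime 3) := ⟨Nat.prime_three⟩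
  obtain ⟨A, hA⟩ := h.exists_sylow_cent hy hy'
  refine Cfsg.Agent.Transfer.hasNormalPComplement_of_control A fun a ha b hb hab => ?_
  obtain ⟨c, hc⟩ := hab
  refine ⟨1, one_mem _, ?_⟩
  rw [one_mul, inv_one, mul_one]
  refine Subtype.ext ?_
  obtain ⟨i, j, hij⟩ := h.cent_mem hy hy' ((hA a).1 ha) (Subgroup.mem_centralizer_singleton_iff.1 a.2)
  have hcy : (c : G) * y * (c : G)⁻¹ = y := by
    rw [Subgroup.mem_centralizer_singleton_iff.1 c.2, mul_inv_cancel_right]
  have hb' : (c : G) * (a : G) * (c : G)⁻¹ = (b : G) := congrArg Subtype.val hc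
  have hb2 : (b : G) = y ^ (i : ℕ) * ((c : G) * z ^ (j : ℕ) * (c : G)⁻¹) := by
    have e := conj_pow (i := (i : ℕ)) (a := (c : G)) (b := y)
    rw [hcy] at e
    rw [← hb', hij]
    conv_rhs => arg 1; rw [e]
    group
  have hzj : (c : G) * z ^ (j : ℕ) * (c : G)⁻¹ = z ^ (j : ℕ) := by
    refine h.eq_zpow_of_conj (pow_mem (Subgroup.mem_zpowers z) _) ?_
    have : (y ^ (i : ℕ))⁻¹ * (b : G) ∈ (P : Subgroup G) :=
      mul_mem (inv_mem (pow_mem hy _)) ((hA b).1 hb)
    rwa [hb2, inv_mul_cancel_left] at this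
  rw [hb2, hzj, hij]

end Base

end Cfsg.Agent.Block.ExtraThree
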