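import Cfsg.Agent.Lib.Block.ExtraThree.CentralLocal
import Cfsg.Agent.Lib.Block.SectionRegular
import Cfsg.Agent.Lib.Char.Induce
import Cfsg.Agent.Lib.Char.RealBlock

/-!
The isometry from the centralizer of the central element into the principal block of the group.
-/

open scoped ComplexConjugate

namespace Cfsg.Agent.Block.ExtraThree

open Cfsg Cfsg.Agent.Block Cfsg.Agent.Char Cfsg.Agent.Char.SecInner Cfsg.Agent.Char.Spec
  Cfsg.Agent.Char.BP Cfsg.Agent.Char.Star

set_option linter.unusedSectionVars false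
set_option linter.style.haveILetI false

universe u

variable {G : Type u} [Group G] [Fintype G] {M : Ideal AlgInt} [hp3 : Fact (Nat.Prime 3)]

theorem T_eq_cent' {x : G} (hx : ∃ k, orderOf x = 3 ^ k) {H : Subgroup G} [Fintype H]
    (hH : Subgroup.centralizer ({x} : Set G) = H) {f f' : G → ℂ} (hf : IsClassFunction G f)
    (hf' : IsClassFunction G f') :
    T 3 x f f' = T 3 1 (fun c : H => f (x * (c : G))) (fun c : H => f' (x * (c : G))) := by
  classical
  subst hH
  rw [T_eq_cent hx hf hf', T_one_eq]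

theorem section_reg_orth' (hM : IsPModular 3 M) {x : G} (hx : ∃ k, orderOf x = 3 ^ k) {H : Subgroup G}
    [Fintype H] (hH : Subgroup.centralizer ({x} : Set G) = H) {χ : IrrCharacter G}
    (hχ : χ ∉ principalBlock M G) {ξ : IrrCharacter H} (hξ : ξ ∈ principalBlock M H) :
    T 3 1 (fun v : H => (χ : G → ℂ) (x * (v : G))) (ξ : H → ℂ) = 0 := by
  classical
  subst hH
  rw [T_one_eq, section_reg_orth hM hx χ ξ ⟨fun h => absurd h hχ, fun h => absurd hξ h⟩, mul_zero]

theorem T_central {x : G} (hx : ∃ k, orderOf x = 3 ^ k) (hc : x ∈ Subgroup.center G) {f f' : G → ℂ}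
    (hf : IsClassFunction G f) (hf' : IsClassFunction G f') :
    T 3 x f f' = T 3 1 (fun y => f (x * y)) (fun y => f' (x * y)) := by
  classical
  cases nonempty_fintype (Subgroup.centralizer ({x} : Set G))
  rw [T_eq_cent hx hf hf', sum_cent_central hc (fun g => f (x * g) * conj (f' (x * g))), T_one_eq]

theorem ppt_coe {H : Subgroup G} [Fintype H] (h : H) : ((ppt 3 h : H) : G) = ppt 3 (h : G) := by
  classical
  obtain ⟨v, h1, h2, ⟨k, hk⟩, h4⟩ := ppt_spec (p := 3) h
  have e : ppt 3 (((ppt 3 h : H) : G) * (v : G)) = ((ppt 3 h : H) : G) :=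
    ppt_eq (h2.map H.subtype) ⟨k, by rw [Subgroup.orderOf_coe, hk]⟩ (by rwa [Subgroup.orderOf_coe])
  rw [← Subgroup.coe_mul, h1] at e
  exact e.symm

theorem ppt_conj' (g h : G) : ppt 3 (h * g * h⁻¹) = h * ppt 3 g * h⁻¹ := by
  classical
  obtain ⟨v, hv, hc, ⟨k, hk⟩, hr⟩ := ppt_spec (p := 3) g
  have ho : ∀ a : G, orderOf (h * a * h⁻¹) = orderOf a := fun a => by
    rw [← MulAut.conj_apply, MulEquiv.orderOf_eq]
  conv_lhs => rw [← hv, ← conj_mul]
  exact ppt_eq (hc.map (MulAut.conj h).toMonoidHom) ⟨k, by rw [ho, hk]⟩ (by rwa [ho])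

/-- The exponent inverting the `3`-parts and fixing the regular elements. -/
theorem exists_flipPow : ∃ q : ℕ, q.Coprime (Nat.card G) ∧
    (∀ g : G, (g ^ q) ^ q = g) ∧ (∀ y : G, ¬ 3 ∣ orderOf y → y ^ q = y) ∧
    ∀ x : G, orderOf x = 3 → x ^ q = x⁻¹ := by
  classical
  by_cases h3 : 3 ∣ Nat.card G
  · set N := Nat.card G with hN
    set a := N.factorization 3 with ha
    set n := N / 3 ^ a with hn
    have hNn : N = 3 ^ a * n := (Nat.ordProj_mul_ordCompl_eq_self _ 3).symm
    have hcop : (3 ^ a).Coprime n :=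
      (Nat.prime_three.coprime_iff_not_dvd.2 (Nat.not_dvd_ordCompl Nat.prime_three
        Nat.card_pos.ne')).pow_left _
    have ha1 : 1 ≤ a := (Nat.prime_three.dvd_iff_one_le_factorization Nat.card_pos.ne').1 h3
    obtain ⟨q, hq1, hq2⟩ := Nat.chineseRemainder hcop.symm 1 (3 ^ a - 1)
    have hpos : 1 ≤ 3 ^ a := Nat.one_le_pow _ _ (by norm_num)
    have hqz : ((3 ^ a : ℕ) : ℤ) ∣ (q : ℤ) + 1 := by
      have h := Nat.modEq_iff_dvd.1 hq2
      push_cast [Nat.cast_sub hpos] at h ⊢
      have h2 := (dvd_refl ((3 : ℤ) ^ a)).sub h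
      rwa [show (3 : ℤ) ^ a - ((3 : ℤ) ^ a - 1 - (q : ℤ)) = (q : ℤ) + 1 by ring] at h2
    have hnz : ((n : ℕ) : ℤ) ∣ (q : ℤ) - 1 := by
      have h := (Nat.modEq_iff_dvd.1 hq1).neg_right
      push_cast at h
      rwa [neg_sub] at h
    have hzp : ∀ x : G, ∀ j : ℤ, (orderOf x : ℤ) ∣ (q : ℤ) - j → x ^ q = x ^ j := fun x j h => by
      rw [← zpow_natCast, zpow_eq_zpow_iff_modEq, Int.modEq_iff_dvd]
      simpa using h.neg_right
    refine ⟨q, ?_, fun g => ?_, fun y hy => ?_, fun x hx => ?_⟩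
    · rw [hNn]
      refine Nat.Coprime.mul_right (Nat.Coprime.pow_right _ ?_) ?_
      · refine (Nat.prime_three.coprime_iff_not_dvd.2 fun h => ?_).symm
        have h' : (3 : ℤ) ∣ (q : ℤ) + 1 := dvd_trans (by
          push_cast; exact dvd_pow_self 3 (by omega)) hqz
        have h'' : (3 : ℤ) ∣ (q : ℤ) := Int.natCast_dvd_natCast.2 h
        omega
      · unfold Nat.Coprime
        rw [Nat.ModEq.gcd_eq hq1, Nat.gcd_one_left]
    · rw [← pow_mul]
      have hd : (orderOf g : ℤ) ∣ ((q * q : ℕ) : ℤ) - 1 := by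
        refine dvd_trans (Int.natCast_dvd_natCast.2 (orderOf_dvd_natCard g)) ?_
        rw [show Nat.card G = 3 ^ a * n from hNn]
        push_cast
        rw [show (q : ℤ) * q - 1 = ((q : ℤ) + 1) * ((q : ℤ) - 1) by ring]
        push_cast at hqz
        exact mul_dvd_mul hqz hnz
      have h := (zpow_eq_zpow_iff_modEq (x := g)).2 (Int.modEq_iff_dvd.2 hd : (1 : ℤ) ≡ ((q * q : ℕ) : ℤ) [ZMOD _])
      rw [zpow_one, zpow_natCast] at h
      exact h.symm
    · rw [hzp y 1 ?_, zpow_one]
      refine dvd_trans (Int.natCast_dvd_natCast.2 ?_) hnz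
      have h1 : orderOf y ∣ 3 ^ a * n := hNn ▸ orderOf_dvd_natCard y
      exact ((Nat.prime_three.coprime_iff_not_dvd.2 hy).pow_left a).symm.dvd_of_dvd_mul_left h1
    · rw [hzp x (-1) ?_, zpow_neg_one]
      rw [sub_neg_eq_add, hx]
      refine dvd_trans ?_ hqz
      exact Int.natCast_dvd_natCast.2 (dvd_pow_self 3 (by omega))
  · refine ⟨1, Nat.coprime_one_left _, fun g => by simp, fun y _ => pow_one y, fun x hx => ?_⟩
    exact absurd (hx ▸ orderOf_dvd_natCard x) h3

/-- The function of the group built from a function on the centralizer of `z`. -/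
noncomputable def liftFun {m : ℕ} (z : G) (u : Fin m → G)
    [Fintype (Subgroup.centralizer ({z} : Set G))]
    (a : Subgroup.centralizer ({z} : Set G) → ℂ) (κ : Fin m → ℂ) : G → ℂ := by
  classical
  exact fun g => indFun (Subgroup.centralizer ({z} : Set G))
    (fun h => if ((ppt 3 h : Subgroup.centralizer ({z} : Set G)) : G) = z ∨
      ((ppt 3 h : Subgroup.centralizer ({z} : Set G)) : G) = z⁻¹ then a h else 0) g +
    ∑ k, κ k * (if IsConj (u k) (ppt 3 g) then 1 else 0)

/-- The isometry data in the group. -/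
structure GData {m : ℕ} [NeZero m] {l : ℕ} (M : Ideal AlgInt) (G : Type u) [Group G] [Fintype G]
    (D : IrrCharacter G → Fin m → ℤ) (σ : IrrCharacter G → IrrCharacter G)
    (c : Fin l → IrrCharacter G → ℤ) (i₀ : Fin l) : Prop where
  s_mem : ∀ χ ∈ bset M G, σ χ ∈ bset M G
  s_invol : ∀ χ, σ (σ χ) = χ
  s_one : σ (trivialIrr G) = trivialIrr G
  s_col : ∀ χ k, D (σ χ) k = D χ k
  inner : ∀ i j, ∑ χ ∈ bset M G, c i χ * c j χ = if i = j then 3 else 1
  inner_s : ∀ i j, ∑ χ ∈ bset M G, c i χ * c j (σ χ) = if i = j then 2 else 1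
  col : ∀ i k, ∑ χ ∈ bset M G, c i χ * D χ k = if k = 0 then -3 else 0
  triv : ∀ i, c i (trivialIrr G) = if i = i₀ then -1 else 0
  full : ∀ χ ∈ bset M G, (∀ i, c i χ = 0) → (∀ i, c i (σ χ) = 0) → ∃ k, D χ k ≠ 0

namespace Setup

variable {m : ℕ} {P : Sylow 3 G} {z : G} {u : Fin m → G} (hs : Setup P z u)
include hs

theorem u_mem_cent (k : Fin m) : u k ∈ Subgroup.centralizer ({z} : Set G) :=
  Subgroup.mem_centralizer_singleton_iff.2 (hs.zcomm _ (hs.uP k))

theorem le_cent : (P : Subgroup G) ≤ Subgroup.centralizer ({z} : Set G) := fun w hw =>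
  Subgroup.mem_centralizer_singleton_iff.2 (hs.zcomm w hw)

theorem restrict :
    Setup (P.subtype hs.le_cent) (⟨z, centralizer_self_mem z⟩ : Subgroup.centralizer ({z} : Set G))
      (fun k => (⟨u k, hs.u_mem_cent k⟩ : Subgroup.centralizer ({z} : Set G))) := by
  classical
  set H := Subgroup.centralizer ({z} : Set G) with hH
  have hcard : Nat.card (P.subtype hs.le_cent : Subgroup H) = 27 := by
    rw [Sylow.coe_subtype, Nat.card_congr (Subgroup.subgroupOfEquivOfLe hs.le_cent).toEquiv, hs.card]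
  have hzp : ∀ {w : H}, w ∈ Subgroup.zpowers (⟨z, centralizer_self_mem z⟩ : H) →
      (w : G) ∈ Subgroup.zpowers z := by
    intro w hw
    obtain ⟨j, rfl⟩ := Subgroup.mem_zpowers_iff.1 hw
    exact Subgroup.mem_zpowers_iff.2 ⟨j, by simp⟩
  refine ⟨hcard, hs.zP, (Subgroup.orderOf_mk _ _).trans hs.zord, fun w hw => Subtype.ext (hs.zcomm _ hw),
    hs.uP, fun k => (Subgroup.orderOf_mk _ _).trans (hs.uord k), fun w hw => ?_, fun hc => ?_,
    fun k w hw hc => hs.z_u k _ (hzp hw) (H.subtype.map_isConj hc), fun j k hjk => hs.u_inj j k (H.subtype.map_isConj hjk),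
    fun k => ?_, fun k => ?_, fun k => ?_⟩
  · rcases hs.cover _ hw with hwz | ⟨k, g, hg, he⟩
    · left
      obtain ⟨j, hj⟩ := Subgroup.mem_zpowers_iff.1 hwz
      exact Subgroup.mem_zpowers_iff.2 ⟨j, Subtype.ext (by simpa using hj)⟩
    · exact .inr ⟨k, ⟨g, hg⟩, Subgroup.mem_centralizer_singleton_iff.2
        (Subtype.ext (Subgroup.mem_centralizer_singleton_iff.1 hg)), Subtype.ext he⟩
  · exact hs.z_inv (H.subtype.map_isConj hc)
  · set x : H := ⟨u k, hs.u_mem_cent k⟩ with hx
    let f : Subgroup.centralizer ({x} : Set H) →* Subgroup.centralizer ({u k} : Set G) :=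
      (H.subtype.comp (Subgroup.centralizer ({x} : Set H)).subtype).codRestrict _ fun c =>
        Subgroup.mem_centralizer_singleton_iff.2
          (congrArg Subtype.val (Subgroup.mem_centralizer_singleton_iff.1 c.2))
    exact Cfsg.Agent.Transfer.hasNormalPComplement_of_injective f
      (fun a b e => Subtype.ext (Subtype.ext (congrArg Subtype.val e :))) (hs.nil k)
  · set x : H := ⟨u k, hs.u_mem_cent k⟩ with hx
    set C := Subgroup.centralizer ({x} : Set H) with hC
    let f : C →* Subgroup.centralizer ({u k} : Set G) :=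
      (H.subtype.comp C.subtype).codRestrict _ fun c =>
        Subgroup.mem_centralizer_singleton_iff.2
          (congrArg Subtype.val (Subgroup.mem_centralizer_singleton_iff.1 c.2))
    have hinj : Function.Injective f :=
      fun a b e => Subtype.ext (Subtype.ext (congrArg Subtype.val e :))
    refine le_antisymm ?_ ?_
    · rw [← hs.nine k]
      exact (Nat.factorization_le_iff_dvd Nat.card_pos.ne' Nat.card_pos.ne').2
        (Subgroup.card_dvd_of_injective f hinj) 3
    · refine (Nat.prime_three.pow_dvd_iff_le_factorization Nat.card_pos.ne').1 ?_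
      set zC : C := ⟨⟨z, centralizer_self_mem z⟩, Subgroup.mem_centralizer_singleton_iff.2
        (Subtype.ext (hs.zcomm _ (hs.uP k)).symm)⟩ with hzC
      set uC : C := ⟨x, Subgroup.mem_centralizer_singleton_iff.2 rfl⟩ with huC
      have hcomm : Commute zC uC := Subtype.ext (Subtype.ext (hs.zcomm _ (hs.uP k)).symm)
      let φ : Subgroup.zpowers zC × Subgroup.zpowers uC →* C :=
        MonoidHom.noncommCoprod (Subgroup.zpowers zC).subtype (Subgroup.zpowers uC).subtype fun a b => by
          obtain ⟨i, hi⟩ := Subgroup.mem_zpowers_iff.1 a.2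
          obtain ⟨j, hj⟩ := Subgroup.mem_zpowers_iff.1 b.2
          simp only [Subgroup.coe_subtype, ← hi, ← hj]
          exact hcomm.zpow_zpow i j
      have hφ : Function.Injective φ := by
        rw [injective_iff_map_eq_one]
        rintro ⟨a, b⟩ hab
        have hab' : (a : C) * (b : C) = 1 := hab
        obtain ⟨i, hi⟩ := Subgroup.mem_zpowers_iff.1 a.2
        obtain ⟨j, hj⟩ := Subgroup.mem_zpowers_iff.1 b.2
        have h1 : u k ^ j ∈ Subgroup.zpowers z := by
          refine Subgroup.mem_zpowers_iff.2 ⟨-i, ?_⟩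
          have h := congrArg (fun c : C => ((c : H) : G)) hab'
          simp only [← hi, ← hj, hzC, huC, hx] at h
          push_cast at h
          rw [zpow_neg]
          exact inv_eq_of_mul_eq_one_right h
        have hj1 : u k ^ j = 1 := by
          by_contra hne
          have hgen : u k ∈ Subgroup.zpowers (u k ^ j) := by
            haveI : Fact (Nat.card (Subgroup.zpowers (u k))).Prime :=
              ⟨by rw [Nat.card_zpowers, hs.uord]; exact Nat.prime_three⟩
            rcases (Subgroup.zpowers (⟨u k ^ j, Subgroup.zpow_mem _ (Subgroup.mem_zpowers _) j⟩ :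
              Subgroup.zpowers (u k))).eq_bot_or_eq_top_of_prime_card with e | e
            · exact absurd (congrArg Subtype.val (Subgroup.zpowers_eq_bot.1 e)) hne
            · obtain ⟨t, ht⟩ := Subgroup.mem_zpowers_iff.1
                (e ▸ Subgroup.mem_top (⟨u k, Subgroup.mem_zpowers _⟩ : Subgroup.zpowers (u k)))
              exact Subgroup.mem_zpowers_iff.2 ⟨t, by simpa using congrArg Subtype.val ht⟩
          exact hs.z_u k _ (Subgroup.zpowers_le.2 h1 hgen) (IsConj.refl _)
        have hb : b = 1 := Subtype.ext (Subtype.ext (Subtype.ext (by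
          rw [← hj]; simpa [huC, hx] using hj1)))
        have ha : a = 1 := by
          refine Subtype.ext ?_
          rw [hb, Subgroup.coe_one, mul_one] at hab'
          exact hab'
        exact Prod.ext ha hb
      have hd := Subgroup.card_dvd_of_injective φ hφ
      rw [Nat.card_prod, Nat.card_zpowers, Nat.card_zpowers] at hd
      have o1 : orderOf zC = 3 := by
        rw [hzC, Subgroup.orderOf_mk, Subgroup.orderOf_mk, hs.zord]
      have o2 : orderOf uC = 3 := by
        rw [huC, Subgroup.orderOf_mk, hx, Subgroup.orderOf_mk, hs.uord]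
      rw [o1, o2] at hd
      simpa using hd
  · obtain ⟨g, hg, he⟩ := hs.shift k
    exact ⟨⟨g, hg⟩, Subgroup.mem_centralizer_singleton_iff.2
      (Subtype.ext (Subgroup.mem_centralizer_singleton_iff.1 hg)), Subtype.ext he⟩

theorem restrict_flip (hf : Flip z u) :
    Flip (⟨z, centralizer_self_mem z⟩ : Subgroup.centralizer ({z} : Set G))
      (fun k => (⟨u k, hs.u_mem_cent k⟩ : Subgroup.centralizer ({z} : Set G))) := fun k => by
  obtain ⟨g, hg, he⟩ := hf k
  exact ⟨⟨g, hg⟩, Subgroup.mem_centralizer_singleton_iff.2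
      (Subtype.ext (Subgroup.mem_centralizer_singleton_iff.1 hg)), Subtype.ext he⟩

theorem center_self :
    (⟨z, centralizer_self_mem z⟩ : Subgroup.centralizer ({z} : Set G)) ∈
      Subgroup.center (Subgroup.centralizer ({z} : Set G)) :=
  Subgroup.mem_center_iff.2 fun c => Subtype.ext (Subgroup.mem_centralizer_singleton_iff.1 c.2)

variable [Fintype (Subgroup.centralizer ({z} : Set G))]

theorem liftFun_classFun (a : Subgroup.centralizer ({z} : Set G) → ℂ) (κ : Fin m → ℂ) :
    IsClassFunction G (liftFun z u a κ) := fun g t => by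
  classical
  simp only [liftFun]
  rw [indFun_classFun _ _ g t]
  congr 1
  refine Finset.sum_congr rfl fun k _ => ?_
  congr 1
  have hcj : IsConj (ppt 3 g) (ppt 3 (t * g * t⁻¹)) := isConj_iff.2 ⟨t, (ppt_conj' g t).symm⟩
  exact if_congr ⟨fun h => h.trans hcj.symm, fun h => h.trans hcj⟩ rfl rfl

theorem liftFun_z {a : Subgroup.centralizer ({z} : Set G) → ℂ}
    (ha : IsClassFunction (Subgroup.centralizer ({z} : Set G)) a) (κ : Fin m → ℂ)
    {h : Subgroup.centralizer ({z} : Set G)}
    (hh : ppt 3 (h : G) = z ∨ ppt 3 (h : G) = z⁻¹) : liftFun z u a κ (h : G) = a h := by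
  classical
  have hu : ∀ k, ¬ IsConj (u k) (ppt 3 (h : G)) := fun k hc => by
    rcases hh with e | e <;> rw [e] at hc
    · exact hs.z_u k z (Subgroup.mem_zpowers z) hc.symm
    · exact hs.z_u k _ (inv_mem (Subgroup.mem_zpowers z)) hc.symm
  simp only [liftFun, hu, if_false, mul_zero, Finset.sum_const_zero, add_zero, indFun]
  set a₁ : (Subgroup.centralizer ({z} : Set G)) → ℂ := fun h => if ((ppt 3 h : (Subgroup.centralizer ({z} : Set G))) : G) = z ∨ ((ppt 3 h : (Subgroup.centralizer ({z} : Set G))) : G) = z⁻¹ then a h else 0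
    with ha₁
  have hterm : ∀ y : G, extendByZero (Subgroup.centralizer ({z} : Set G)) a₁ (y⁻¹ * (h : G) * y) = if y ∈ (Subgroup.centralizer ({z} : Set G)) then a h else 0 := by
    intro y
    by_cases hy : y ∈ (Subgroup.centralizer ({z} : Set G))
    · rw [if_pos hy, show y⁻¹ * (h : G) * y = ((⟨y, hy⟩⁻¹ * h * ⟨y, hy⟩ : (Subgroup.centralizer ({z} : Set G))) : G) by simp,
        extendByZero_apply]
      simp only [ha₁]
      have hcen : ∀ w : G, (w = z ∨ w = z⁻¹) → y⁻¹ * w * y = w := by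
        have hyz : Commute y z := Subgroup.mem_centralizer_singleton_iff.1 hy
        rintro w (rfl | rfl)
        · rw [mul_assoc, ← hyz.eq, inv_mul_cancel_left]
        · rw [mul_assoc, ← hyz.inv_right.eq, inv_mul_cancel_left]
      have e : ((ppt 3 (⟨y, hy⟩⁻¹ * h * ⟨y, hy⟩ : (Subgroup.centralizer ({z} : Set G))) : (Subgroup.centralizer ({z} : Set G))) : G) = ppt 3 (h : G) := by
        rw [ppt_coe]
        have := ppt_conj' (h : G) y⁻¹
        rw [inv_inv] at this
        push_cast
        rw [this, hcen _ hh]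
      rw [e, if_pos hh]
      have := ha h (⟨y, hy⟩⁻¹)
      rwa [inv_inv] at this
    · rw [if_neg hy]
      by_cases hm : y⁻¹ * (h : G) * y ∈ (Subgroup.centralizer ({z} : Set G))
      · rw [extendByZero_of_mem _ hm]
        simp only [ha₁]
        rw [if_neg]
        rw [ppt_coe]
        show ¬ (ppt 3 (y⁻¹ * (h : G) * y) = z ∨ ppt 3 (y⁻¹ * (h : G) * y) = z⁻¹)
        have := ppt_conj' (h : G) y⁻¹
        rw [inv_inv] at this
        rw [this]
        intro hz'
        have hfix : y⁻¹ * z * y = z := by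
          rcases hh with e | e <;> rw [e] at hz' <;> rcases hz' with e' | e'
          · exact e'
          · exact absurd (isConj_iff.2 ⟨y⁻¹, by rwa [inv_inv]⟩) hs.z_inv
          · exact absurd (isConj_iff.2 ⟨y⁻¹, by rwa [inv_inv]⟩ : IsConj z⁻¹ z) fun h => hs.z_inv h.symm
          · have := congrArg (·⁻¹) e'
            simpa [mul_assoc] using this
        refine hy (Subgroup.mem_centralizer_singleton_iff.2 ?_)
        calc y * z = y * (y⁻¹ * z * y) := by rw [hfix]
          _ = z * y := by group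
      · rw [extendByZero_not_mem _ hm]
  rw [Finset.sum_congr rfl fun y _ => hterm y, ← Finset.sum_filter, Finset.sum_const, nsmul_eq_mul,
    show (Finset.univ.filter fun y : G => y ∈ (Subgroup.centralizer ({z} : Set G))).card = Nat.card (Subgroup.centralizer ({z} : Set G)) by
      rw [Nat.card_eq_fintype_card]; exact (Fintype.card_subtype _).symm, ← mul_assoc,
    inv_mul_cancel₀ (Nat.cast_ne_zero.2 Nat.card_pos.ne'), one_mul]

theorem liftFun_ind_zero (a : Subgroup.centralizer ({z} : Set G) → ℂ) {g : G}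
    (hg : ¬ IsConj z (ppt 3 g) ∧ ¬ IsConj z⁻¹ (ppt 3 g)) (κ : Fin m → ℂ) :
    liftFun z u a κ g = ∑ k, κ k * (open Classical in if IsConj (u k) (ppt 3 g) then 1 else 0) := by
  classical
  simp only [liftFun, indFun]
  rw [Finset.sum_eq_zero fun y _ => ?_, mul_zero, zero_add]
  by_cases hm : y⁻¹ * g * y ∈ Subgroup.centralizer ({z} : Set G)
  · rw [extendByZero_of_mem _ hm, if_neg]
    rw [ppt_coe]
    show ¬ (ppt 3 (y⁻¹ * g * y) = z ∨ ppt 3 (y⁻¹ * g * y) = z⁻¹)
    have := ppt_conj' g y⁻¹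
    rw [inv_inv] at this
    rw [this]
    have hcj : IsConj (y⁻¹ * ppt 3 g * y) (ppt 3 g) := isConj_iff.2 ⟨y, by group⟩
    rintro (e | e) <;> rw [e] at hcj
    · exact hg.1 hcj
    · exact hg.2 hcj
  · rw [extendByZero_not_mem _ hm]

theorem liftFun_regular (a : Subgroup.centralizer ({z} : Set G) → ℂ) (κ : Fin m → ℂ) {g : G}
    (hg : ¬ 3 ∣ orderOf g) : liftFun z u a κ g = 0 := by
  classical
  have h1 : IsConj 1 (ppt 3 g) := (ppt_eq_one_iff g).2 hg
  rw [hs.liftFun_ind_zero a ⟨fun h => hs.not_conj_one hs.z_ne_one (h1.trans h.symm),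
    fun h => hs.not_conj_one (inv_ne_one.2 hs.z_ne_one) (h1.trans h.symm)⟩]
  exact Finset.sum_eq_zero fun k _ => by
    rw [if_neg fun h => hs.not_conj_one (hs.u_ne_one k) (h1.trans h.symm), mul_zero]

theorem liftFun_u (a : Subgroup.centralizer ({z} : Set G) → ℂ) (κ : Fin m → ℂ) {g : G} {k : Fin m}
    (hg : IsConj (u k) (ppt 3 g)) : liftFun z u a κ g = κ k := by
  classical
  rw [hs.liftFun_ind_zero a ⟨fun h => hs.z_u k z (Subgroup.mem_zpowers z) (h.trans hg.symm),
    fun h => hs.z_u k _ (inv_mem (Subgroup.mem_zpowers z)) (h.trans hg.symm)⟩,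
    Finset.sum_eq_single k (fun j _ hj => by
      rw [if_neg fun h => hj (hs.u_inj j k (h.trans hg.symm)), mul_zero])
      (fun h => absurd (Finset.mem_univ k) h), if_pos hg, mul_one]

theorem exists_data [NeZero m] (hM : IsPModular 3 M) (hf : Flip z u) (hm3 : ¬ 3 ∣ m)
    {D : IrrCharacter G → Fin m → ℤ} (hD : ∀ (χ : IrrCharacter G) k, (χ : G → ℂ) (u k) = D χ k) :
    m < 6 ∧ blockRank 3 (principalBlock M (Subgroup.centralizer ({z} : Set G))) = 6 - m ∧
      ∃ σ c, ∃ i₀ : Fin (6 - m), GData M G D σ c i₀ := by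
  classical
  set H := Subgroup.centralizer ({z} : Set G) with hH
  set zH : H := ⟨z, centralizer_self_mem z⟩ with hzH
  set uH : Fin m → H := fun k => ⟨u k, hs.u_mem_cent k⟩ with huH
  obtain ⟨ζ, hζ⟩ := exists_primitive_cube
  obtain ⟨hζ3, hζ1, hζc, hζc1, hζne⟩ := primitive_cube hζ
  have hsH := hs.restrict
  have hzc := hs.center_self
  obtain ⟨hm6, hrank, a, g, i₀, L⟩ := hsH.exists_local hzc hM (hs.restrict_flip hf) hm3 hζ
  refine ⟨hm6, hrank, ?_⟩
  obtain ⟨q, hq, hqq, hqr, hq3⟩ := exists_flipPow (G := G)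
  let σ : IrrCharacter G → IrrCharacter G := fun χ => RealBlock.powIrr hq χ
  set κ : Fin m → ℂ := fun k => if k = 0 then -3 else 0 with hκ
  let Φ : Fin (6 - m) → G → ℂ := fun i => liftFun z u (a i) κ
  have hacl : ∀ i, IsClassFunction H (a i) := fun i => IsGenChar.classFun (L.gen i)
  have hΦcl : ∀ i, IsClassFunction G (Φ i) := fun i => hs.liftFun_classFun _ _
  have hresC : ∀ χ : IrrCharacter G, IsClassFunction H (fun h : H => (χ : G → ℂ) h) := fun χ =>
    IsChar.classFun (IsChar.res (irr_isChar χ) H)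
  -- values of the lifted functions on the sections at the centre
  have hregH : ∀ v : H, ¬ 3 ∣ orderOf v → ¬ 3 ∣ orderOf (v : G) := fun v hv => by
    rwa [Subgroup.orderOf_coe]
  have hcz : ∀ v : H, Commute z (v : G) := fun v =>
    (Subgroup.mem_centralizer_singleton_iff.1 v.2 : (v : G) * z = z * v).symm
  have hΦz : ∀ i (v : H), ¬ 3 ∣ orderOf v → Φ i (z * (v : G)) = (ζ - 1) * g i v := fun i v hv => by
    rw [← L.val_z i v hv]
    have e : z * (v : G) = ((zH * v : H) : G) := rfl
    rw [e]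
    refine hs.liftFun_z (hacl i) κ (.inl ?_)
    rw [← e, ppt_eq (hcz v) hs.z_pow (hregH v hv)]
  have hΦzi : ∀ i (v : H), ¬ 3 ∣ orderOf v → Φ i (z⁻¹ * (v : G)) = (conj ζ - 1) * g i v := fun i v hv => by
    rw [← L.val_zinv i v hv]
    have e : z⁻¹ * (v : G) = ((zH⁻¹ * v : H) : G) := rfl
    rw [e]
    refine hs.liftFun_z (hacl i) κ (.inr ?_)
    rw [← e, ppt_eq (hcz v).inv_left hs.zinv_pow (hregH v hv)]
  have hΦu : ∀ i k g', IsConj (u k) (ppt 3 g') → Φ i g' = κ k := fun i k g' h => hs.liftFun_u _ κ h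
  have hΦuc : ∀ i k (v : Subgroup.centralizer ({u k} : Set G)), ¬ 3 ∣ orderOf v →
      Φ i (u k * (v : G)) = κ k := fun i k v hv => by
    refine hΦu i k _ ?_
    rw [ppt_eq (Subgroup.mem_centralizer_singleton_iff.1 v.2 : (v : G) * u k = u k * v).symm
      (hs.u_pow k) (by rwa [Subgroup.orderOf_coe])]
  have hΦu1 : ∀ i k, Φ i (u k) = κ k := fun i k => by
    simpa using hΦuc i k 1 not_dvd_one'
  -- pairing with a function of the group
  have hpair : ∀ i (Ψ : G → ℂ), IsClassFunction G Ψ →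
      classInner (Φ i) Ψ = (ζ - 1) * T 3 1 (g i) (fun v : H => Ψ (z * (v : G))) +
        (conj ζ - 1) * T 3 1 (g i) (fun v : H => Ψ (z⁻¹ * (v : G))) + ∑ k, T 3 (u k) (Φ i) Ψ := by
    intro i Ψ hΨ
    have h1 : T 3 1 (Φ i) Ψ = 0 := by
      rw [T_one_eq, Finset.sum_eq_zero, mul_zero]
      intro y hy
      show liftFun z u (a i) κ y * _ = 0
      rw [hs.liftFun_regular _ _ (Finset.mem_filter.1 hy).2, zero_mul]
    have h2 : T 3 z (Φ i) Ψ = (ζ - 1) * T 3 1 (g i) (fun v : H => Ψ (z * (v : G))) := by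
      rw [T_eq_cent' (H := H) hs.z_pow rfl (hΦcl i) hΨ, T_one_eq, T_one_eq, Finset.mul_sum,
        Finset.mul_sum, Finset.mul_sum]
      exact Finset.sum_congr rfl fun v hv => by rw [hΦz i v (Finset.mem_filter.1 hv).2]; ring
    have h3 : T 3 z⁻¹ (Φ i) Ψ = (conj ζ - 1) * T 3 1 (g i) (fun v : H => Ψ (z⁻¹ * (v : G))) := by
      rw [T_eq_cent' (H := H) hs.zinv_pow (centralizer_inv z) (hΦcl i) hΨ, T_one_eq, T_one_eq,
        Finset.mul_sum, Finset.mul_sum, Finset.mul_sum]
      exact Finset.sum_congr rfl fun v hv => by rw [hΦzi i v (Finset.mem_filter.1 hv).2]; ring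
    rw [hs.classInner_sections, h1, h2, h3, zero_add]
  have hTuB : ∀ i k, ∀ χ : IrrCharacter G, χ ∈ principalBlock M G →
      T 3 (u k) (Φ i) (χ : G → ℂ) = κ k * (D χ k : ℂ) / 9 := fun i k χ hχ => by
    rw [hs.T_u k (hΦcl i) (irr_classFun χ) (fun v hv => by rw [hΦuc i k v hv, hΦu1])
      (fun v hv => hs.value_const hM hχ k hv), hΦu1, hD, map_intCast]
  -- the coefficients
  have hcoef : ∀ i, ∀ χ : IrrCharacter G, χ ∈ principalBlock M G →
      classInner (Φ i) (χ : G → ℂ) = classInner (a i) (fun h : H => (χ : G → ℂ) h) := by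
    intro i χ hχ
    rw [hpair i _ (irr_classFun χ), hsH.classInner_sections (a i) (fun h : H => (χ : G → ℂ) h)]
    have h1 : T 3 1 (a i) (fun h : H => (χ : G → ℂ) h) = 0 := by
      rw [T_one_eq, Finset.sum_eq_zero, mul_zero]
      intro y hy
      rw [L.regular i y (Finset.mem_filter.1 hy).2, zero_mul]
    have h2 : T 3 zH (a i) (fun h : H => (χ : G → ℂ) h) =
        (ζ - 1) * T 3 1 (g i) (fun v : H => (χ : G → ℂ) (z * (v : G))) := by
      rw [T_central hsH.z_pow hzc (hacl i) (hresC χ), T_one_eq, T_one_eq, Finset.mul_sum,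
        Finset.mul_sum, Finset.mul_sum]
      exact Finset.sum_congr rfl fun v hv => by
        rw [L.val_z i v (Finset.mem_filter.1 hv).2, mul_assoc]
        show _ = _
        simp only [Subgroup.coe_mul, hzH]
        ring
    have h3 : T 3 zH⁻¹ (a i) (fun h : H => (χ : G → ℂ) h) =
        (conj ζ - 1) * T 3 1 (g i) (fun v : H => (χ : G → ℂ) (z⁻¹ * (v : G))) := by
      rw [T_central hsH.zinv_pow (inv_mem hzc) (hacl i) (hresC χ), T_one_eq, T_one_eq, Finset.mul_sum,
        Finset.mul_sum, Finset.mul_sum]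
      exact Finset.sum_congr rfl fun v hv => by
        rw [L.val_zinv i v (Finset.mem_filter.1 hv).2, mul_assoc]
        simp only [Subgroup.coe_mul, InvMemClass.coe_inv, hzH]
        ring
    have h4 : ∀ k, T 3 (uH k) (a i) (fun h : H => (χ : G → ℂ) h) = κ k * (D χ k : ℂ) / 9 := by
      intro k
      have e1 : a i (uH k) = κ k := by
        simpa using L.val_u i k 1 not_dvd_one'
      rw [hsH.T_u k (hacl i) (hresC χ) (fun v hv => by rw [e1]; exact L.val_u i k v hv)
        (fun v hv => ?_), e1]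
      · show κ k * conj ((χ : G → ℂ) (u k)) / 9 = _
        rw [hD, map_intCast]
      · exact hs.value_const hM hχ k
          (c := ⟨((v : H) : G), Subgroup.mem_centralizer_singleton_iff.2
            (congrArg Subtype.val (Subgroup.mem_centralizer_singleton_iff.1 v.2))⟩)
          (by rwa [Subgroup.orderOf_mk, Subgroup.orderOf_coe, Subgroup.orderOf_coe])
    rw [h1, h2, h3, Finset.sum_congr rfl fun k _ => hTuB i k χ hχ,
      Finset.sum_congr rfl fun k _ => h4 k]
    ring
  have hout : ∀ i, ∀ χ : IrrCharacter G, χ ∉ principalBlock M G →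
      classInner (Φ i) (χ : G → ℂ) = 0 := by
    intro i χ hχ
    have hzero : ∀ x : G, (∃ k, orderOf x = 3 ^ k) → Subgroup.centralizer ({x} : Set G) = H →
        T 3 1 (g i) (fun v : H => (χ : G → ℂ) (x * (v : G))) = 0 := by
      intro x hx hxH
      have key : ∀ ξ ∈ principalBlock M H,
          T 3 1 (fun v : H => (χ : G → ℂ) (x * (v : G))) (ξ : H → ℂ) = 0 := fun ξ hξ =>
        section_reg_orth' hM hx hxH hχ hξ
      rw [T_conj, L.g_orth i _ key, map_zero]
    rw [hpair i _ (irr_classFun χ), hzero z hs.z_pow rfl, hzero z⁻¹ hs.zinv_pow (centralizer_inv z),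
      mul_zero, mul_zero, zero_add, zero_add]
    refine Finset.sum_eq_zero fun k _ => ?_
    cases nonempty_fintype (Subgroup.centralizer ({u k} : Set G))
    rw [T_eq_cent (hs.u_pow k) (hΦcl i) (irr_classFun χ),
      Finset.sum_congr rfl fun v hv => by rw [hΦuc i k v (Finset.mem_filter.1 hv).2],
      ← Finset.mul_sum]
    have h0 := section_reg_orth hM (hs.u_pow k) χ (trivialIrr (Subgroup.centralizer ({u k} : Set G)))
      ⟨fun h => absurd h hχ, fun h => absurd (trivial_mem_principalBlock hM) h⟩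
    simp only [trivialIrr, map_one, mul_one] at h0
    rw [← map_sum, h0, map_zero, mul_zero, mul_zero]
  choose c hc using fun i (χ : IrrCharacter G) =>
    IsGenChar.classInner_int (L.gen i) (IsGenChar.of_isCharacter (IsChar.res (irr_isChar χ) H))
  have hcB : ∀ i, ∀ χ : IrrCharacter G, χ ∈ principalBlock M G →
      classInner (Φ i) (χ : G → ℂ) = (c i χ : ℂ) := fun i χ hχ => by rw [hcoef i χ hχ, ← hc]
  have hexp : ∀ i, Φ i = ∑ χ ∈ bset M G, (c i χ : ℂ) • (χ : G → ℂ) := by
    intro i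
    conv_lhs => rw [classFunction_expansion (hΦcl i)]
    rw [← Finset.sum_subset (Finset.subset_univ (bset M G)) fun χ _ hχ => by
      rw [hout i χ fun h => hχ (mem_bset.2 h), zero_smul]]
    exact Finset.sum_congr rfl fun χ hχ => by rw [hcB i χ (mem_bset.1 hχ)]
  have hinner : ∀ i (Ψ : G → ℂ), classInner (Φ i) Ψ =
      ∑ χ ∈ bset M G, (c i χ : ℂ) * classInner (χ : G → ℂ) Ψ := fun i Ψ => by
    conv_lhs => rw [hexp i]
    rw [classInner_sum_left]
    exact Finset.sum_congr rfl fun χ _ => classInner_smul_left _ _ _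
  -- the power map
  have hpcz : ∀ v : H, ¬ 3 ∣ orderOf v → (z * (v : G)) ^ q = z⁻¹ * (v : G) := fun v hv => by
    rw [(hcz v).mul_pow, hq3 z hs.zord, hqr _ (hregH v hv)]
  have hpczi : ∀ v : H, ¬ 3 ∣ orderOf v → (z⁻¹ * (v : G)) ^ q = z * (v : G) := fun v hv => by
    rw [(hcz v).inv_left.mul_pow, hq3 z⁻¹ (by rw [orderOf_inv, hs.zord]), inv_inv, hqr _ (hregH v hv)]
  have hσB : ∀ χ ∈ bset M G, σ χ ∈ bset M G := fun χ hχ => by
    rw [mem_bset, PrinCol.mem_principal_iff hM] at hχ ⊢
    refine fun h => hχ ?_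
    rw [← h]
    exact Finset.sum_congr rfl fun y hy => by
      show _ = (χ : G → ℂ) (y ^ q)
      rw [hqr y (Finset.mem_filter.1 hy).2]
  have hσσ : ∀ χ, σ (σ χ) = χ := fun χ => Subtype.ext (funext fun y => by
    show (χ : G → ℂ) ((y ^ q) ^ q) = _
    rw [hqq])
  have hσcol : ∀ χ k, D (σ χ) k = D χ k := fun χ k => by
    have h1 : ((D (σ χ) k : ℤ) : ℂ) = ((D χ k : ℤ) : ℂ) := by
      rw [← hD, ← hD]
      show (χ : G → ℂ) (u k ^ q) = _
      rw [hq3 _ (hs.uord k), irr_apply_inv, hD, map_intCast]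
    exact_mod_cast h1
  have hpow : ∀ (F : G → ℂ) (χ : IrrCharacter G),
      classInner F (σ χ : G → ℂ) = classInner (fun y => F (y ^ q)) (χ : G → ℂ) := by
    intro F χ
    simp only [classInner]
    congr 1
    refine Finset.sum_nbij' (fun y => y ^ q) (fun y => y ^ q) (fun _ _ => Finset.mem_univ _)
      (fun _ _ => Finset.mem_univ _) (fun y _ => hqq y) (fun y _ => hqq y) fun y _ => ?_
    show F y * conj ((χ : G → ℂ) (y ^ q)) = _
    rw [hqq]
  have hΦqcl : ∀ j, IsClassFunction G (fun y => Φ j (y ^ q)) := fun j y t => by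
    show Φ j ((t * y * t⁻¹) ^ q) = Φ j (y ^ q)
    rw [conj_pow, hΦcl j]
  have hgram' : ∀ i j, T 3 1 (g i) (g j) = if i = j then (1 / 3 : ℂ) else 0 := L.gram
  have hscale : ∀ i j (r : ℂ) (Ψ : H → ℂ), (∀ v, ¬ 3 ∣ orderOf v → Ψ v = r * g j v) →
      T 3 1 (g i) Ψ = conj r * T 3 1 (g i) (g j) := fun i j r Ψ hΨ => by
    rw [T_one_eq, T_one_eq, Finset.mul_sum, Finset.mul_sum, Finset.mul_sum]
    exact Finset.sum_congr rfl fun v hv => by
      rw [hΨ v (Finset.mem_filter.1 hv).2, map_mul]; ring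
  have husum : ∀ (i _j : Fin (6 - m)) (Ψ : G → ℂ), IsClassFunction G Ψ →
      (∀ k, ∀ v : Subgroup.centralizer ({u k} : Set G), ¬ 3 ∣ orderOf v → Ψ (u k * (v : G)) = κ k) →
      ∑ k, T 3 (u k) (Φ i) Ψ = 1 := by
    intro i j Ψ hΨ hΨu
    rw [Finset.sum_congr rfl fun k _ => hs.T_u k (hΦcl i) hΨ
      (fun v hv => by rw [hΦuc i k v hv, hΦu1])
      (fun v hv => by
        have := hΨu k 1 not_dvd_one'
        rw [OneMemClass.coe_one, mul_one] at this
        rw [hΨu k v hv, this]),
      Finset.sum_eq_single (0 : Fin m) (fun k _ hk => by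
        rw [hΦu1, hκ]; simp [hk]) (fun h => absurd (Finset.mem_univ _) h)]
    have e := hΨu 0 1 not_dvd_one'
    rw [OneMemClass.coe_one, mul_one] at e
    rw [hΦu1, e, hκ]
    simp only [if_pos]
    norm_num [map_neg, map_ofNat]
  have hω : ζ * conj ζ = 1 := (cube_root hζ3).2.1
  refine ⟨σ, c, i₀, hσB, hσσ, Subtype.ext (funext fun _ => rfl), hσcol, fun i j => ?_, fun i j => ?_, fun i k => ?_,
    fun i => ?_, fun χ hχ h0 hs0 => ?_⟩
  · have h1 : classInner (Φ i) (Φ j) = if i = j then (3 : ℂ) else 1 := by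
      rw [hpair i _ (hΦcl j), hscale i j (ζ - 1) _ (hΦz j), hscale i j (conj ζ - 1) _ (hΦzi j),
        husum i j _ (hΦcl j) (hΦuc j), hgram']
      simp only [map_sub, map_one, Complex.conj_conj]
      have hs1 : ζ + conj ζ = -1 := by rw [hζc]; linear_combination hζ
      split_ifs
      · linear_combination (2 / 3 : ℂ) * hω - (2 / 3 : ℂ) * hs1
      · ring
    rw [hinner] at h1
    rw [Finset.sum_congr rfl fun χ hχ => by
      rw [← classInner_conj_symm, hcB j χ (mem_bset.1 hχ), map_intCast]] at h1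
    have h2 : ((∑ χ ∈ bset M G, c i χ * c j χ : ℤ) : ℂ) = ((if i = j then 3 else 1 : ℤ) : ℂ) := by
      push_cast
      exact h1
    exact_mod_cast h2
  · have h1 : classInner (Φ i) (fun y => Φ j (y ^ q)) = if i = j then (2 : ℂ) else 1 := by
      rw [hpair i _ (hΦqcl j), hscale i j (conj ζ - 1) (fun v : H => Φ j ((z * (v : G)) ^ q)) (fun v hv => by rw [hpcz v hv, hΦzi j v hv]),
        hscale i j (ζ - 1) (fun v : H => Φ j ((z⁻¹ * (v : G)) ^ q)) (fun v hv => by rw [hpczi v hv, hΦz j v hv]),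
        husum i j _ (hΦqcl j) (fun k v hv => by
          obtain ⟨t, -, ht⟩ := hf k
          have hcu : Commute (u k) (v : G) :=
            (Subgroup.mem_centralizer_singleton_iff.1 v.2 : (v : G) * u k = u k * v).symm
          refine hΦu j k _ ?_
          rw [hcu.mul_pow, hq3 _ (hs.uord k), hqr _ (by rwa [Subgroup.orderOf_coe]),
            ppt_eq hcu.inv_left ⟨1, by rw [orderOf_inv, hs.uord, pow_one]⟩
              (by rwa [Subgroup.orderOf_coe])]
          exact isConj_iff.2 ⟨t, ht⟩), hgram']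
      simp only [map_sub, map_one, Complex.conj_conj]
      have hs1 : ζ + conj ζ = -1 := by rw [hζc]; linear_combination hζ
      split_ifs
      · rw [hζc]
        linear_combination (1 / 3 * (ζ ^ 2 - ζ - 1)) * hζ
      · ring
    rw [hinner] at h1
    rw [Finset.sum_congr rfl fun χ hχ => by
      rw [← classInner_conj_symm, ← hpow, hcB j (σ χ) (mem_bset.1 (hσB χ hχ)), map_intCast]] at h1
    have h2 : ((∑ χ ∈ bset M G, c i χ * c j (σ χ) : ℤ) : ℂ) = ((if i = j then 2 else 1 : ℤ) : ℂ) := by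
      push_cast
      exact h1
    exact_mod_cast h2
  · have h1 := congrFun (hexp i) (u k)
    rw [hΦu1, Finset.sum_apply] at h1
    simp only [Pi.smul_apply, smul_eq_mul, hD, hκ] at h1
    have h2 : ((∑ χ ∈ bset M G, c i χ * D χ k : ℤ) : ℂ) = ((if k = 0 then -3 else 0 : ℤ) : ℂ) := by
      push_cast
      exact h1.symm
    exact_mod_cast h2
  · have h1 := L.triv i
    have e : (fun h : H => (trivialIrr G : G → ℂ) h) = (trivialIrr H : H → ℂ) := rfl
    rw [← e, hc] at h1
    have h2 : ((c i (trivialIrr G) : ℤ) : ℂ) = ((if i = i₀ then -1 else 0 : ℤ) : ℂ) := by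
      push_cast
      exact h1
    exact_mod_cast h2
  · by_contra hall
    push Not at hall
    have hχ' := mem_bset.1 hχ
    set f : H → ℂ := fun v => (χ : G → ℂ) (z * (v : G)) with hf'
    have hX : ∀ i, T 3 1 f (g i) = 0 := by
      intro i
      set X := T 3 1 (g i) f with hX'
      set Y := T 3 1 (g i) (fun v : H => (χ : G → ℂ) (z⁻¹ * (v : G))) with hY'
      have e1 : (ζ - 1) * X + (conj ζ - 1) * Y = 0 := by
        have h := hpair i _ (irr_classFun χ)
        rw [hcB i χ hχ', h0 i, Finset.sum_eq_zero fun k _ => by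
          rw [hTuB i k χ hχ', hall k]; simp, add_zero, Int.cast_zero] at h
        exact h.symm
      have e2 : (ζ - 1) * Y + (conj ζ - 1) * X = 0 := by
        have hσ' := mem_bset.1 (hσB χ hχ)
        have h := hpair i _ (irr_classFun (σ χ))
        rw [hcB i _ hσ', hs0 i, Finset.sum_eq_zero fun k _ => by
          rw [hTuB i k _ hσ', hσcol, hall k]; simp, add_zero, Int.cast_zero,
          T1_congr_right (g' := fun v : H => (χ : G → ℂ) (z⁻¹ * (v : G))) (fun v hv => by
            show (χ : G → ℂ) ((z * (v : G)) ^ q) = _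
            rw [hpcz v hv]),
          T1_congr_right (f := g i) (g := fun v : H => ((σ χ : IrrCharacter G) : G → ℂ) (z⁻¹ * (v : G)))
            (g' := f) (fun v hv => by
            show (χ : G → ℂ) ((z⁻¹ * (v : G)) ^ q) = _
            rw [hpczi v hv])] at h
        exact h.symm
      have hdet : ((ζ - 1) * (ζ - 1) - (conj ζ - 1) * (conj ζ - 1)) * X = 0 := by
        linear_combination (ζ - 1) * e1 - (conj ζ - 1) * e2
      have hne : (ζ - 1) * (ζ - 1) - (conj ζ - 1) * (conj ζ - 1) ≠ 0 := by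
        rw [hζc]
        intro e
        have hz0 : 3 * (ζ ^ 2 - ζ) = 0 := by linear_combination e + (ζ ^ 2 - ζ) * hζ
        have : ζ * (ζ - 1) = 0 := by linear_combination (1 / 3 : ℂ) * hz0
        rcases mul_eq_zero.1 this with e' | e'
        · rw [e'] at hζ; norm_num at hζ
        · exact hζ1 (sub_eq_zero.1 e')
      rw [T_conj, ← hX', (mul_eq_zero.1 hdet).resolve_left hne, map_zero]
    have hfξ := L.complete f hX
    refine hs.not_vanish hM hχ' (fun v hv => ?_) fun k => by rw [hD, hall k, Int.cast_zero]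
    refine eq_zero_of_T1_self (f := f) ?_ hv
    rw [T1_congr_right (g' := fun w : H => ∑ ξ ∈ bset M H,
      classInner (fun c : H => (χ : G → ℂ) (z * (c : G))) (ξ : H → ℂ) * (ξ : H → ℂ) w) (fun w hw => ?_),
      T1_sum_right]
    · exact Finset.sum_eq_zero fun ξ hξ => by rw [hfξ ξ (mem_bset.1 hξ), mul_zero]
    · have h := section_principal_part hM hs.z_pow hw χ
      rw [if_pos hχ'] at h
      rw [show bset M H = Finset.univ.filter (· ∈ principalBlock M H) by ext; simp [bset]]
      exact h.symm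

end Setup

end Cfsg.Agent.Block.ExtraThree
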