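import Cfsg.Agent.Lib.Block.ExtraThree.Rows
import Mathlib.Data.Fintype.Pi
import Mathlib.Data.Fintype.Prod
import Mathlib.Tactic.Push

/-!
The combinatorics of a block with integer columns and vectors of square sum three, paired by an
involution of the rows.
-/

namespace Cfsg.Agent.Block.ExtraThree.PairComb

open Finset

variable {ι : Type*} [DecidableEq ι] {m l : ℕ}

/-- The data: columns `D`, vectors `c` and the involution `σ` of the rows. -/
structure Hyp [NeZero m] (S : Finset ι) (o : ι) (σ : ι → ι) (D : ι → Fin m → ℤ) (c : Fin l → ι → ℤ)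
    (i₀ : Fin l) : Prop where
  o_mem : o ∈ S
  d_o : ∀ k, D o k = 1
  cong : ∀ χ ∈ S, ∀ j k, (3 : ℤ) ∣ D χ j - D χ k
  gram : ∀ j k, ∑ χ ∈ S, D χ j * D χ k = if j = k then 9 else 0
  s_mem : ∀ χ ∈ S, σ χ ∈ S
  s_invol : ∀ χ, σ (σ χ) = χ
  s_one : σ o = o
  s_col : ∀ χ k, D (σ χ) k = D χ k
  inner : ∀ i j, ∑ χ ∈ S, c i χ * c j χ = if i = j then 3 else 1
  inner_s : ∀ i j, ∑ χ ∈ S, c i χ * c j (σ χ) = if i = j then 2 else 1
  col : ∀ i k, ∑ χ ∈ S, c i χ * D χ k = if k = 0 then -3 else 0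
  triv : ∀ i, c i o = if i = i₀ then -1 else 0
  full : ∀ χ ∈ S, (∀ i, c i χ = 0) → (∀ i, c i (σ χ) = 0) → ∃ k, D χ k ≠ 0

/-- The support of one vector: `X` is moved out of it, the others are permuted. -/
structure Shape (S : Finset ι) (σ : ι → ι) (v : ι → ℤ) (X P Q : ι) : Prop where
  memX : X ∈ S
  memP : P ∈ S
  memQ : Q ∈ S
  XP : X ≠ P
  XQ : X ≠ Q
  PQ : P ≠ Q
  supp : ∀ χ ∈ S, v χ ≠ 0 → χ = X ∨ χ = P ∨ χ = Q
  vX : v X = 1 ∨ v X = -1
  vP : v P = 1 ∨ v P = -1
  vQ : v Q = 1 ∨ v Q = -1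
  sX : v (σ X) = 0
  sP : v (σ P) = v P
  sQ : v (σ Q) = v Q
  pair : σ P = P ∧ σ Q = Q ∨ σ P = Q ∧ σ Q = P

namespace Shape

variable {S : Finset ι} {σ : ι → ι} {v : ι → ℤ} {X P Q : ι}

theorem swap (h : Shape S σ v X P Q) : Shape S σ v X Q P :=
  ⟨h.memX, h.memQ, h.memP, h.XQ, h.XP, h.PQ.symm,
    fun χ hχ hv => by rcases h.supp χ hχ hv with e | e | e <;> simp [e],
    h.vX, h.vQ, h.vP, h.sX, h.sQ, h.sP, h.pair.imp And.symm And.symm⟩

theorem moved (h : Shape S σ v X P Q) : σ X ≠ X := fun e => by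
  have h1 := h.sX
  rw [e] at h1
  rcases h.vX with e' | e' <;> omega

theorem sum (h : Shape S σ v X P Q) (F : ι → ℤ) :
    ∑ χ ∈ S, v χ * F χ = v X * F X + v P * F P + v Q * F Q := by
  rw [← Finset.sum_subset (s₁ := {X, P, Q}) (fun χ hχ => ?_) (fun χ hχ hn => ?_)]
  · rw [Finset.sum_insert (by simp [h.XP, h.XQ]), Finset.sum_pair h.PQ, add_assoc]
  · rcases Finset.mem_insert.1 hχ with rfl | hχ
    · exact h.memX
    rcases Finset.mem_insert.1 hχ with rfl | hχ
    · exact h.memP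
    · rw [Finset.mem_singleton.1 hχ]; exact h.memQ
  · by_contra hv
    refine hn ?_
    rcases h.supp χ hχ (fun e => hv (by rw [e, zero_mul])) with e | e | e <;> simp [e]

end Shape

namespace Hyp

variable [NeZero m] {S : Finset ι} {o : ι} {σ : ι → ι} {D : ι → Fin m → ℤ} {c : Fin l → ι → ℤ}
  {i₀ : Fin l} (h : Hyp S o σ D c i₀)
include h

theorem entry (i : Fin l) {χ : ι} (hχ : χ ∈ S) : c i χ = 0 ∨ c i χ = 1 ∨ c i χ = -1 := by
  have h3 := h.inner i i
  rw [if_pos rfl] at h3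
  have hle : c i χ * c i χ ≤ 3 := by
    rw [← h3]
    exact Finset.single_le_sum (f := fun χ => c i χ * c i χ) (fun x _ => mul_self_nonneg _) hχ
  have h1 : -1 ≤ c i χ := by nlinarith
  have h2 : c i χ ≤ 1 := by nlinarith
  omega

theorem exists_shape (i : Fin l) : ∃ X P Q, Shape S σ (c i) X P Q := by
  classical
  let A := S.filter fun χ => c i χ ≠ 0
  have hA : ∀ χ, χ ∈ A ↔ χ ∈ S ∧ c i χ ≠ 0 := fun χ => Finset.mem_filter
  have hpm : ∀ χ ∈ A, c i χ = 1 ∨ c i χ = -1 := fun χ hχ =>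
    (h.entry i ((hA χ).1 hχ).1).resolve_left ((hA χ).1 hχ).2
  have hcard : (A.card : ℤ) = 3 := by
    have h3 := h.inner i i
    rw [if_pos rfl, ← Finset.sum_filter_of_ne (p := fun χ => c i χ ≠ 0)
      (fun x _ hx e => hx (by rw [e, zero_mul])), Finset.sum_congr rfl fun χ hχ =>
      show c i χ * c i χ = 1 by rcases hpm χ hχ with e | e <;> rw [e] <;> norm_num,
      Finset.sum_const, nsmul_eq_mul, mul_one] at h3
    exact h3
  have hsum : ∑ χ ∈ A, c i χ * c i (σ χ) = 2 := by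
    have h2 := h.inner_s i i
    rw [if_pos rfl, ← Finset.sum_filter_of_ne (p := fun χ => c i χ ≠ 0)
      (fun x _ hx e => hx (by rw [e, zero_mul]))] at h2
    exact h2
  obtain ⟨X, hXA, hX0⟩ : ∃ X ∈ A, c i (σ X) = 0 := by
    by_contra hne
    push Not at hne
    obtain ⟨a, b, d, hab, had, hbd, hAe⟩ := Finset.card_eq_three.1 (by exact_mod_cast hcard)
    have hs : ∀ χ ∈ A, c i χ * c i (σ χ) = 1 ∨ c i χ * c i (σ χ) = -1 := fun χ hχ => by
      rcases hpm χ hχ with e | e <;>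
        rcases (h.entry i (h.s_mem χ ((hA χ).1 hχ).1)).resolve_left (hne χ hχ) with e' | e' <;>
        rw [e, e'] <;> norm_num
    have ha := hs a (by simp [hAe])
    have hb := hs b (by simp [hAe])
    have hd := hs d (by simp [hAe])
    rw [hAe, Finset.sum_insert (by simp [hab, had]), Finset.sum_pair hbd] at hsum
    omega
  obtain ⟨P, Q, hPQ, he⟩ := Finset.card_eq_two.1 (show (A.erase X).card = 2 by
    rw [Finset.card_erase_of_mem hXA]; omega)
  have hP : P ∈ A.erase X := by simp [he]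
  have hQ : Q ∈ A.erase X := by simp [he]
  have hPA := Finset.mem_of_mem_erase hP
  have hQA := Finset.mem_of_mem_erase hQ
  rw [← Finset.add_sum_erase A _ hXA, hX0, mul_zero, zero_add, he, Finset.sum_pair hPQ] at hsum
  have hb : ∀ χ ∈ A, c i χ * c i (σ χ) ≤ 1 := fun χ hχ => by
    rcases hpm χ hχ with e | e <;>
      rcases h.entry i (h.s_mem χ ((hA χ).1 hχ).1) with e' | e' | e' <;> rw [e, e'] <;> norm_num
  have hbP := hb P hPA
  have hbQ := hb Q hQA
  have hfix : ∀ χ ∈ A, c i χ * c i (σ χ) = 1 → c i (σ χ) = c i χ ∧ (σ χ = P ∨ σ χ = Q) := by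
    intro χ hχ h1
    have e : c i (σ χ) = c i χ := by
      rcases hpm χ hχ with e | e <;> rw [e] at h1 <;> omega
    have hmem : σ χ ∈ A.erase X := by
      refine Finset.mem_erase.2 ⟨fun e' => ((hA χ).1 hχ).2 ?_,
        (hA _).2 ⟨h.s_mem χ ((hA χ).1 hχ).1, e ▸ ((hA χ).1 hχ).2⟩⟩
      rw [← h.s_invol χ, e', hX0]
    exact ⟨e, by simpa [he] using hmem⟩
  obtain ⟨eP, hP'⟩ := hfix P hPA (by omega)
  obtain ⟨eQ, hQ'⟩ := hfix Q hQA (by omega)
  refine ⟨X, P, Q, ((hA X).1 hXA).1, ((hA P).1 hPA).1, ((hA Q).1 hQA).1,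
    (Finset.ne_of_mem_erase hP).symm, (Finset.ne_of_mem_erase hQ).symm, hPQ, fun χ hχ hv => ?_,
    hpm X hXA, hpm P hPA, hpm Q hQA, hX0, eP, eQ, ?_⟩
  · by_cases e : χ = X
    · exact .inl e
    · have : χ ∈ A.erase X := Finset.mem_erase.2 ⟨e, (hA χ).2 ⟨hχ, hv⟩⟩
      exact .inr (by simpa [he] using this)
  · have hinj : σ P ≠ σ Q := fun e => hPQ (by rw [← h.s_invol P, e, h.s_invol])
    rcases hP' with e | e
    · exact .inl ⟨e, hQ'.resolve_left fun e' => hinj (e.trans e'.symm)⟩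
    · exact .inr ⟨e, by rw [← e, h.s_invol]⟩

theorem sinj {a b : ι} (e : σ a = σ b) : a = b := by rw [← h.s_invol a, e, h.s_invol]

/-- The moved members of two vectors lie in different pairs. -/
theorem moved_ne {i j : Fin l} {X P Q X' P' Q' : ι} (s : Shape S σ (c i) X P Q)
    (t : Shape S σ (c j) X' P' Q') (hij : i ≠ j) : X ≠ X' ∧ X ≠ σ X' := by
  have h0 : ∑ χ ∈ S, c i χ * (c j χ - c j (σ χ)) = 0 := by
    simp only [mul_sub, Finset.sum_sub_distrib, h.inner, h.inner_s, if_neg hij, sub_self]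
  rw [s.sum] at h0
  have hrest : c i P * (c j P - c j (σ P)) + c i Q * (c j Q - c j (σ Q)) = 0 := by
    rcases s.pair with ⟨e1, e2⟩ | ⟨e1, e2⟩
    · rw [e1, e2]; ring
    · have hv := s.sP
      rw [e1] at hv
      rw [e1, e2, hv]; ring
  have hX : c i X * (c j X - c j (σ X)) = 0 := by omega
  have h2 : c j X = c j (σ X) := sub_eq_zero.1
    ((mul_eq_zero.1 hX).resolve_left (by rcases s.vX with e | e <;> omega))
  constructor <;> rintro rfl
  · have := t.sX
    rcases t.vX with e | e <;> omega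
  · rw [h.s_invol, t.sX] at h2
    rcases t.vX with e | e <;> omega

theorem small {χ : ι} (hχ : χ ∈ S) (k : Fin m) : -2 ≤ D χ k ∧ D χ k ≤ 2 :=
  rows_small h.o_mem h.d_o h.gram hχ k

theorem zero_row {χ : ι} (hχ : χ ∈ S) (h0 : D χ 0 = 0) (k : Fin m) : D χ k = 0 := by
  have h1 := h.small hχ k
  have h2 := h.cong χ hχ k 0
  omega

/-- The nonzero rows. -/
theorem rows_nonzero (hpar : m = 1 → ∃ w : ι → ℤ, w o = 1 ∧ ∑ r ∈ S, D r 0 * w r = 0) :
    (m = 1 ∧ ∀ χ ∈ S.filter (fun χ => D χ 0 ≠ 0), ∀ k, D χ k = 1 ∨ D χ k = -1) ∨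
      ∃ srow τ, Frame (S.filter fun χ => D χ 0 ≠ 0) o D srow τ := by
  refine rows (Finset.mem_filter.2 ⟨h.o_mem, by rw [h.d_o]; norm_num⟩) h.d_o
    (fun r hr => h.cong r (Finset.mem_filter.1 hr).1) (fun j k => ?_)
    (fun r hr => (Finset.mem_filter.1 hr).2) fun hm => ?_
  · rw [Finset.sum_filter_of_ne (p := fun r => D r 0 ≠ 0) fun r hr hne e => hne
      (by rw [h.zero_row hr e, zero_mul])]
    exact h.gram j k
  · obtain ⟨w, hwo, hw⟩ := hpar hm
    exact ⟨w, hwo, by rwa [Finset.sum_filter_of_ne (p := fun r => D r 0 ≠ 0) fun r _ hne e => hne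
      (by rw [e, zero_mul])]⟩

/-- The count once the moved members have zero rows. -/
theorem finish {X P Q : Fin l → ι} (hsh : ∀ i, Shape S σ (c i) (X i) (P i) (Q i))
    (hX : ∀ i, D (X i) 0 = 0) :
    S.card = (S.filter fun χ => D χ 0 ≠ 0).card + 2 * l := by
  classical
  set Z := S.filter fun χ => D χ 0 ≠ 0 with hZ
  have hPQ : ∀ i, D (P i) 0 ≠ 0 ∧ D (Q i) 0 ≠ 0 := fun i => by
    have hc := h.col i 0
    rw [if_pos rfl, (hsh i).sum, hX i, mul_zero, zero_add] at hc
    have hP := h.small (hsh i).memP 0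
    have hQ := h.small (hsh i).memQ 0
    constructor <;> intro e <;> rw [e] at hc <;>
      rcases (hsh i).vP with e1 | e1 <;> rcases (hsh i).vQ with e2 | e2 <;>
        rw [e1, e2] at hc <;> omega
  let f : Fin l × Bool → ι := fun p => if p.2 then σ (X p.1) else X p.1
  have hinj : Function.Injective f := by
    rintro ⟨i, a⟩ ⟨j, b⟩ e
    by_cases hij : i = j
    · subst hij
      cases a <;> cases b <;> simp only [f, Bool.false_eq_true, if_false, if_true] at e <;>
        first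
        | rfl
        | exact absurd e (hsh i).moved
        | exact absurd e.symm (hsh i).moved
    · obtain ⟨e1, e2⟩ := h.moved_ne (hsh i) (hsh j) hij
      exfalso
      cases a <;> cases b <;> simp only [f, Bool.false_eq_true, if_false, if_true] at e
      · exact e1 e
      · exact e2 e
      · exact e2 (by rw [← e, h.s_invol])
      · exact e1 (h.sinj e)
  have hf : ∀ p, f p ∈ S ∧ D (f p) 0 = 0 := by
    rintro ⟨i, a⟩
    cases a <;> simp only [f, Bool.false_eq_true, if_false, if_true]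
    · exact ⟨(hsh i).memX, hX i⟩
    · exact ⟨h.s_mem _ (hsh i).memX, by rw [h.s_col]; exact hX i⟩
  have hS : S \ Z = Finset.univ.image f := by
    ext χ
    simp only [hZ, Finset.mem_sdiff, Finset.mem_filter, not_and, not_not, Finset.mem_image,
      Finset.mem_univ, true_and]
    refine ⟨fun ⟨hχ, h0⟩ => ?_, fun ⟨p, hp⟩ => hp ▸ ⟨(hf p).1, fun _ => (hf p).2⟩⟩
    by_contra hno
    push Not at hno
    have hzero : ∀ i, ∀ w ∈ S, D w 0 = 0 → w ≠ X i → c i w = 0 := fun i w hw hw0 hne => by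
      by_contra hc
      rcases (hsh i).supp w hw hc with e | e | e
      · exact hne e
      · exact (hPQ i).1 (e ▸ hw0)
      · exact (hPQ i).2 (e ▸ hw0)
    obtain ⟨k, hk⟩ := h.full χ hχ (fun i => hzero i χ hχ (h0 hχ) fun e => hno (i, false) e.symm)
      (fun i => hzero i _ (h.s_mem χ hχ) (by rw [h.s_col]; exact h0 hχ) fun e => hno (i, true) (by
        simp only [f, if_true]
        rw [← e, h.s_invol]))
    exact hk (h.zero_row hχ (h0 hχ) k)
  have h1 := Finset.card_sdiff_add_card_eq_card (s := Z) (t := S) (Finset.filter_subset _ _)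
  rw [hS, Finset.card_image_of_injective _ hinj, Finset.card_univ, Fintype.card_prod, Fintype.card_fin,
    Fintype.card_bool] at h1
  omega

/-- Four non-central classes: all nonzero rows are fixed. -/
theorem four (hm : m = 4) :
    (S.filter fun χ => D χ 0 ≠ 0).card = 6 ∧ S.card = 6 + 2 * l := by
  classical
  choose X P Q hsh using h.exists_shape
  rcases h.rows_nonzero (fun e => absurd e (by omega)) with ⟨e, -⟩ | ⟨srow, τ, F⟩
  · omega
  set Z := S.filter fun χ => D χ 0 ≠ 0 with hZ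
  have hZs : ∀ χ ∈ Z, σ χ ∈ Z := fun χ hχ => by
    obtain ⟨h1, h2⟩ := Finset.mem_filter.1 hχ
    exact Finset.mem_filter.2 ⟨h.s_mem χ h1, by rwa [h.s_col]⟩
  have hfs : ∀ k, σ (srow k) = srow k := fun k => by
    have hv := F.val _ (hZs _ (F.mem k)) k
    have hw := F.val _ (F.mem k) k
    rw [h.s_col, hw, nval, if_pos rfl, nval] at hv
    by_contra hne
    rw [if_neg hne] at hv
    rcases F.sign (srow k) with e | e <;> rcases F.sign (σ (srow k)) with e' | e' <;>
      rw [e, e'] at hv <;> omega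
  have hoZ : o ∈ Z := Finset.mem_filter.2 ⟨h.o_mem, by rw [h.d_o]; norm_num⟩
  have hfix : ∀ χ ∈ Z, σ χ = χ := fun χ hχ => by
    by_cases hp : χ ∈ F.plain
    · have hp' : σ χ ∈ F.plain := F.mem_plain.2 ⟨hZs χ hχ, fun k e => (F.mem_plain.1 hp).2 k
        (by rw [← h.s_invol χ, e, hfs])⟩
      by_cases hχo : χ = o
      · rw [hχo, h.s_one]
      have hso : σ χ ≠ o := fun e => hχo (h.sinj (e.trans h.s_one.symm))
      have hle : (F.plain.erase o).card ≤ 1 := by
        rw [Finset.card_erase_of_mem (F.o_plain hoZ), F.card_plain]; omega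
      exact Finset.card_le_one.1 hle _ (Finset.mem_erase.2 ⟨hso, hp'⟩) _
        (Finset.mem_erase.2 ⟨hχo, hp⟩)
    · simp only [F.mem_plain, hχ, true_and, not_forall, not_not] at hp
      obtain ⟨k, rfl⟩ := hp
      exact hfs k
  have hX : ∀ i, D (X i) 0 = 0 := fun i => by
    by_contra h0
    exact (hsh i).moved (hfix _ (Finset.mem_filter.2 ⟨(hsh i).memX, h0⟩))
  exact ⟨F.card, by rw [h.finish hsh hX, ← hZ, F.card]⟩

/-- At most two non-central classes: the moved members have zero rows. -/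
theorem few (hml : m = 1 ∧ l = 5 ∨ m = 2 ∧ l = 4)
    (hpar : m = 1 → ∃ w : ι → ℤ, w o = 1 ∧ ∑ r ∈ S, D r 0 * w r = 0) :
    (S.filter fun χ => D χ 0 ≠ 0).card = 6 ∧ S.card = 6 + 2 * l := by
  classical
  choose X P Q hsh using h.exists_shape
  obtain ⟨Y0, sh0, hY0⟩ : ∃ Y0, Shape S σ (c i₀) (X i₀) o Y0 ∧ σ Y0 = Y0 := by
    have ht := h.triv i₀
    rw [if_pos rfl] at ht
    have hfixo : ∀ {R : ι}, Shape S σ (c i₀) (X i₀) o R → σ R = R := fun {R} s => by
      rcases s.pair with ⟨-, e⟩ | ⟨e, -⟩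
      · exact e
      · exact absurd (h.s_one.symm.trans e) s.PQ
    rcases (hsh i₀).supp o h.o_mem (by omega) with e | e | e
    · exact absurd (e ▸ h.s_one) (hsh i₀).moved
    · exact ⟨Q i₀, e ▸ hsh i₀, hfixo (e ▸ hsh i₀)⟩
    · exact ⟨P i₀, e ▸ (hsh i₀).swap, hfixo (e ▸ (hsh i₀).swap)⟩
  obtain ⟨t, ht⟩ : ∃ t, t = c i₀ Y0 := ⟨_, rfl⟩
  have ht1 : t = 1 ∨ t = -1 := ht ▸ sh0.vQ
  have hc0 : c i₀ o = -1 := by rw [h.triv, if_pos rfl]
  have hzero : ∀ i, ∀ w ∈ S, w ≠ X i → w ≠ P i → w ≠ Q i → c i w = 0 := fun i w hw a b d => by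
    by_contra hc
    rcases (hsh i).supp w hw hc with e | e | e
    exacts [a e, b e, d e]
  have hmove : ∀ i j, i ≠ j → X i ≠ X j ∧ X i ≠ σ (X j) := fun i j hij =>
    h.moved_ne (hsh i) (hsh j) hij
  have hwith0 : ∀ j, j ≠ i₀ → c i₀ (X i₀) * c j (X i₀) + t * c j Y0 = 1 := fun j hj => by
    have e := h.inner i₀ j
    rw [if_neg hj.symm, sh0.sum, hc0, ← ht, h.triv j, if_neg hj] at e
    linarith
  have hfixed : ∀ j, σ (P j) = P j ∧ σ (Q j) = Q j := by
    intro j
    rcases (hsh j).pair with hp | ⟨hp1, hp2⟩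
    · exact hp
    exfalso
    have hj : j ≠ i₀ := fun e => by
      subst e
      have ho := h.s_one
      rcases (hsh j).supp o h.o_mem (by omega) with e | e | e
      · exact (hsh j).moved (e ▸ ho)
      · exact (hsh j).PQ (by rw [← hp1, ← e, ho])
      · exact (hsh j).PQ.symm (by rw [← hp2, ← e, ho])
    have hY : c j Y0 = 0 := hzero j Y0 sh0.memQ
      (fun e => (hsh j).moved (e ▸ hY0))
      (fun e => (hsh j).PQ (by rw [← hp1, ← e, hY0]))
      (fun e => (hsh j).PQ.symm (by rw [← hp2, ← e, hY0]))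
    have hjX : c j (X i₀) = c i₀ (X i₀) := by
      have e := hwith0 j hj
      rw [hY, mul_zero, add_zero] at e
      rcases sh0.vX with e' | e' <;> rw [e'] at e ⊢ <;> linarith
    have hPQ : P j = X i₀ ∧ Q j = σ (X i₀) ∨ Q j = X i₀ ∧ P j = σ (X i₀) := by
      rcases (hsh j).supp _ sh0.memX (by rcases sh0.vX with e | e <;> omega) with e | e | e
      · exact absurd e (hmove i₀ j hj.symm).1
      · exact .inl ⟨e.symm, by rw [e, hp1]⟩
      · exact .inr ⟨e.symm, by rw [e, hp2]⟩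
    have hvP : c j (P j) = c i₀ (X i₀) ∧ c j (Q j) = c i₀ (X i₀) := by
      have hPQ' : c j (Q j) = c j (P j) := by rw [← hp1, (hsh j).sP]
      rcases hPQ with ⟨e, -⟩ | ⟨e, -⟩
      · rw [hPQ', e]; exact ⟨hjX, hjX⟩
      · rw [← hPQ', e]; exact ⟨hjX, hjX⟩
    obtain ⟨i, hi0, hij⟩ : ∃ i, i ≠ i₀ ∧ i ≠ j := by
      by_contra hno
      push Not at hno
      have hsub : (Finset.univ : Finset (Fin l)) ⊆ {i₀, j} := fun i _ => by
        by_cases e : i = i₀
        · simp [e]
        · simp [hno i e]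
      have h4 := (Finset.card_le_card hsub).trans Finset.card_le_two
      rw [Finset.card_univ, Fintype.card_fin] at h4
      rcases hml with ⟨-, e⟩ | ⟨-, e⟩ <;> linarith
    have hjXi : c j (X i) = 0 := by
      refine hzero j _ (hsh i).memX (hmove i j hij).1 ?_ ?_ <;> intro e <;>
        rcases hPQ with ⟨e1, e2⟩ | ⟨e1, e2⟩
      · exact (hmove i i₀ hi0).1 (e.trans e1)
      · exact (hmove i i₀ hi0).2 (e.trans e2)
      · exact (hmove i i₀ hi0).2 (e.trans e2)
      · exact (hmove i i₀ hi0).1 (e.trans e1)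
    have e1 := h.inner i j
    rw [if_neg hij, (hsh i).sum, hjXi, mul_zero, zero_add] at e1
    rcases (hsh i).pair with ⟨q1, q2⟩ | ⟨q1, q2⟩
    · have hno : ∀ w ∈ S, σ w = w → c j w = 0 := fun w hw hwf => hzero j w hw
        (fun e => (hsh j).moved (e ▸ hwf))
        (fun e => (hsh j).PQ (by rw [← hp1, ← e, hwf]))
        (fun e => (hsh j).PQ.symm (by rw [← hp2, ← e, hwf]))
      rw [hno _ (hsh i).memP q1, hno _ (hsh i).memQ q2] at e1
      simp at e1
    · have hYi : c i Y0 = 0 := hzero i Y0 sh0.memQ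
        (fun e => (hsh i).moved (e ▸ hY0))
        (fun e => (hsh i).PQ (by rw [← q1, ← e, hY0]))
        (fun e => (hsh i).PQ.symm (by rw [← q2, ← e, hY0]))
      have hiX : c i (X i₀) = c i₀ (X i₀) := by
        have e := hwith0 i hi0
        rw [hYi, mul_zero, add_zero] at e
        rcases sh0.vX with e' | e' <;> rw [e'] at e ⊢ <;> linarith
      have hciQ : c i (Q i) = c i (P i) := by rw [← q1, (hsh i).sP]
      have hPi : (P i = P j ∧ Q i = Q j ∨ P i = Q j ∧ Q i = P j) ∧ c i (P i) = c i₀ (X i₀) := by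
        rcases (hsh i).supp _ sh0.memX (by rcases sh0.vX with e | e <;> omega) with e | e | e
        · exact absurd e (hmove i₀ i hi0.symm).1
        · refine ⟨?_, by rw [← e, hiX]⟩
          rcases hPQ with ⟨a, b⟩ | ⟨a, b⟩
          · exact .inl ⟨by rw [← e, a], by rw [← q1, ← e, b]⟩
          · exact .inr ⟨by rw [← e, a], by rw [← q1, ← e, b]⟩
        · refine ⟨?_, by rw [← hciQ, ← e, hiX]⟩
          rcases hPQ with ⟨a, b⟩ | ⟨a, b⟩
          · exact .inr ⟨by rw [← q2, ← e, b], by rw [← e, a]⟩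
          · exact .inl ⟨by rw [← q2, ← e, b], by rw [← e, a]⟩
      rw [hciQ, hPi.2] at e1
      rcases hPi.1 with ⟨a, b⟩ | ⟨a, b⟩ <;> rw [a, b, hvP.1, hvP.2] at e1 <;>
        rcases sh0.vX with e' | e' <;> rw [e'] at e1 <;> norm_num at e1
  let Y : Fin l → ι := fun i => if P i = Y0 then Q i else P i
  have hY : ∀ j, j ≠ i₀ → Shape S σ (c j) (X j) Y0 (Y j) ∧ c j Y0 = t ∧ σ (Y j) = Y j := by
    intro j hj
    have hjX : c j (X i₀) = 0 := by
      refine hzero j _ sh0.memX (hmove i₀ j hj.symm).1 ?_ ?_ <;> intro e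
      · exact sh0.moved (by rw [e, (hfixed j).1])
      · exact sh0.moved (by rw [e, (hfixed j).2])
    have e := hwith0 j hj
    rw [hjX, mul_zero, zero_add] at e
    have hct : c j Y0 = t := by
      rcases ht1 with e' | e' <;> rw [e'] at e ⊢ <;> linarith
    refine ⟨?_, hct, ?_⟩
    · rcases (hsh j).supp Y0 sh0.memQ (by omega) with e' | e' | e'
      · exact absurd (e' ▸ hY0) (hsh j).moved
      · simp only [Y, if_pos e'.symm]
        exact e'.symm ▸ hsh j
      · have hne : P j ≠ Y0 := fun e'' => (hsh j).PQ (e''.trans e')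
        simp only [Y, if_neg hne]
        exact e'.symm ▸ (hsh j).swap
    · simp only [Y]
      split_ifs
      exacts [(hfixed j).2, (hfixed j).1]
  let I : Finset (Fin l) := Finset.univ.erase i₀
  have hI : ∀ j ∈ I, j ≠ i₀ := fun j hj => Finset.ne_of_mem_erase hj
  have hIcard : I.card = l - 1 := by
    rw [Finset.card_erase_of_mem (Finset.mem_univ _), Finset.card_univ, Fintype.card_fin]
  have hYne : ∀ j ∈ I, Y j ≠ o ∧ Y j ≠ Y0 := fun j hj => by
    obtain ⟨s, -, -⟩ := hY j (hI j hj)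
    refine ⟨fun e => ?_, s.PQ.symm⟩
    have := h.triv j
    rw [if_neg (hI j hj), ← e] at this
    rcases s.vQ with e' | e' <;> omega
  have hYinj : Set.InjOn Y I := fun i hi j hj e => by
    by_contra hij
    obtain ⟨si, hti, -⟩ := hY i (hI i hi)
    obtain ⟨sj, htj, hfj⟩ := hY j (hI j hj)
    have e1 := h.inner i j
    have hjXi : c j (X i) = 0 := hzero j _ (hsh i).memX (hmove i j hij).1
      (fun e' => (hsh i).moved (by rw [e', (hfixed j).1]))
      (fun e' => (hsh i).moved (by rw [e', (hfixed j).2]))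
    rw [if_neg hij, si.sum, hjXi, mul_zero, zero_add, hti, htj, e] at e1
    have := si.vQ
    rw [e] at this
    rcases ht1 with a | a <;> rcases this with b | b <;> rcases sj.vQ with d | d <;>
      rw [a, b, d] at e1 <;> norm_num at e1
  -- the equations of the first column
  obtain ⟨q, hq⟩ : ∃ q, q = t * D Y0 0 := ⟨_, rfl⟩
  obtain ⟨x, hx⟩ : ∃ x : Fin l → ℤ, ∀ i, x i = c i (X i) * D (X i) 0 := ⟨_, fun _ => rfl⟩
  obtain ⟨y, hy⟩ : ∃ y : Fin l → ℤ, ∀ i, y i = c i (Y i) * D (Y i) 0 := ⟨_, fun _ => rfl⟩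
  have hx0 : x i₀ = -2 - q := by
    have e := h.col i₀ 0
    rw [if_pos rfl, sh0.sum, hc0, h.d_o, ← ht, ← hq, ← hx] at e
    linarith
  have hxy : ∀ j ∈ I, x j + y j = -3 - q := fun j hj => by
    obtain ⟨s, hct, -⟩ := hY j (hI j hj)
    have e := h.col j 0
    rw [if_pos rfl, s.sum, hct, ← hq, ← hx, ← hy] at e
    linarith
  have hxx : ∀ i, x i * x i = D (X i) 0 * D (X i) 0 := fun i => by
    rw [hx]; rcases (hsh i).vX with e | e <;> rw [e] <;> ring
  have hyy : ∀ j ∈ I, y j * y j = D (Y j) 0 * D (Y j) 0 := fun j hj => by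
    rw [hy]; rcases (hY j (hI j hj)).1.vQ with e | e <;> rw [e] <;> ring
  have hqq : q * q = D Y0 0 * D Y0 0 := by rcases ht1 with e | e <;> rw [hq, e] <;> ring
  have hbound : ∀ E : Finset ι, (∀ w ∈ E, w ∈ S ∧ w ≠ o ∧ w ≠ Y0 ∧ (∀ i, w ≠ X i ∧ w ≠ σ (X i)) ∧
      ∀ j ∈ I, w ≠ Y j) →
      1 + q * q + 2 * (x i₀ * x i₀) + (∑ j ∈ I, (2 * (x j * x j) + y j * y j)) +
        (∑ w ∈ E, D w 0 * D w 0) ≤ 9 := by
    intro E hE
    have hfix : ∀ {a : ι} {i : Fin l}, σ a = a → a ≠ X i ∧ a ≠ σ (X i) := fun {a i} ha =>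
      ⟨fun e => (hsh i).moved (e ▸ ha), fun e => (hsh i).moved (by
        have := ha
        rw [e, h.s_invol] at this
        exact this.symm)⟩
    have hXinj : Function.Injective X := fun i j e => by
      by_contra hij
      exact (hmove i j hij).1 e
    let T₁ : Finset ι := Finset.univ.image X
    let T₂ : Finset ι := Finset.univ.image fun i => σ (X i)
    let T₃ : Finset ι := I.image Y
    let T₀ : Finset ι := {o, Y0}
    have d01 : Disjoint T₀ T₁ := Finset.disjoint_left.2 fun a ha hb => by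
      obtain ⟨i, -, rfl⟩ := Finset.mem_image.1 hb
      rcases Finset.mem_insert.1 ha with e | e
      · exact (hfix h.s_one).1 e.symm
      · exact (hfix hY0).1 (Finset.mem_singleton.1 e).symm
    have d2 : Disjoint (T₀ ∪ T₁) T₂ := Finset.disjoint_left.2 fun a ha hb => by
      obtain ⟨i, -, rfl⟩ := Finset.mem_image.1 hb
      rcases Finset.mem_union.1 ha with ha | ha
      · rcases Finset.mem_insert.1 ha with e | e
        · exact (hfix h.s_one).2 e.symm
        · exact (hfix hY0).2 (Finset.mem_singleton.1 e).symm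
      · obtain ⟨j, -, e⟩ := Finset.mem_image.1 ha
        by_cases hij : j = i
        · exact (hsh i).moved (by rw [hij] at e; exact e.symm)
        · exact (hmove j i hij).2 e
    have d3 : Disjoint (T₀ ∪ T₁ ∪ T₂) T₃ := Finset.disjoint_left.2 fun a ha hb => by
      obtain ⟨j, hj, rfl⟩ := Finset.mem_image.1 hb
      simp only [T₀, T₁, T₂, Finset.mem_union, Finset.mem_insert, Finset.mem_singleton,
        Finset.mem_image, Finset.mem_univ, true_and] at ha
      rcases ha with (e | ⟨i, e⟩) | ⟨i, e⟩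
      · rcases e with e | e
        exacts [(hYne j hj).1 e, (hYne j hj).2 e]
      · exact (hfix (hY j (hI j hj)).2.2).1 e.symm
      · exact (hfix (hY j (hI j hj)).2.2).2 e.symm
    have dE : Disjoint (T₀ ∪ T₁ ∪ T₂ ∪ T₃) E := Finset.disjoint_left.2 fun a ha hb => by
      obtain ⟨-, h1, h2, h3, h4⟩ := hE a hb
      simp only [T₀, T₁, T₂, T₃, Finset.mem_union, Finset.mem_insert, Finset.mem_singleton,
        Finset.mem_image, Finset.mem_univ, true_and] at ha
      rcases ha with ((e | ⟨i, e⟩) | ⟨i, e⟩) | ⟨j, hj, e⟩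
      · rcases e with e | e
        exacts [h1 e, h2 e]
      · exact (h3 i).1 e.symm
      · exact (h3 i).2 e.symm
      · exact h4 j hj e.symm
    have hg := h.gram 0 0
    rw [if_pos rfl] at hg
    have hle : ∑ w ∈ T₀ ∪ T₁ ∪ T₂ ∪ T₃ ∪ E, D w 0 * D w 0 ≤ 9 := by
      rw [← hg]
      refine Finset.sum_le_sum_of_subset_of_nonneg (fun a ha => ?_) fun a _ _ => mul_self_nonneg _
      simp only [T₀, T₁, T₂, T₃, Finset.mem_union, Finset.mem_insert, Finset.mem_singleton,
        Finset.mem_image, Finset.mem_univ, true_and] at ha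
      rcases ha with (((e | ⟨i, e⟩) | ⟨i, e⟩) | ⟨j, hj, e⟩) | e
      · rcases e with e | e <;> rw [e]
        exacts [h.o_mem, sh0.memQ]
      · rw [← e]; exact (hsh i).memX
      · rw [← e]; exact h.s_mem _ (hsh i).memX
      · rw [← e]; exact (hY j (hI j hj)).1.memQ
      · exact (hE a e).1
    rw [Finset.sum_union dE, Finset.sum_union d3, Finset.sum_union d2, Finset.sum_union d01,
      Finset.sum_pair sh0.PQ, h.d_o, Finset.sum_image fun i _ j _ e => hXinj e,
      Finset.sum_image fun i _ j _ e => hXinj (h.sinj e), Finset.sum_image hYinj] at hle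
    simp only [h.s_col, ← hxx, ← hqq] at hle
    rw [Finset.sum_congr rfl fun j hj => (hyy j hj).symm,
      ← Finset.add_sum_erase Finset.univ (fun i => x i * x i) (Finset.mem_univ i₀)] at hle
    rw [Finset.sum_add_distrib, ← Finset.mul_sum]
    linarith
  have hb0 := hbound ∅ (by simp)
  rw [Finset.sum_empty, add_zero] at hb0
  have hq2 : q = -2 := by
    have hlo : (I.card : ℤ) * (2 * ((-3 - q) * (-3 - q))) ≤
        3 * ∑ j ∈ I, (2 * (x j * x j) + y j * y j) := by
      rw [Finset.mul_sum, ← nsmul_eq_mul, ← Finset.sum_const]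
      refine Finset.sum_le_sum fun j hj => ?_
      rw [← hxy j hj]
      nlinarith [mul_self_nonneg (2 * x j - y j)]
    have hqb : -2 ≤ q ∧ q ≤ 2 := by
      have := h.small sh0.memQ 0
      rcases ht1 with e | e <;> rw [hq, e] <;> omega
    have h3 : (3 : ℤ) ≤ I.card := by
      rw [hIcard]
      rcases hml with ⟨-, e⟩ | ⟨-, e⟩ <;> subst e <;> norm_num
    rw [hx0] at hb0
    obtain ⟨hq1, hq3⟩ := hqb
    interval_cases q <;> linarith
  subst hq2
  rw [show x i₀ = 0 by linarith] at hb0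
  have hterm : ∀ j ∈ I, 1 ≤ 2 * (x j * x j) + y j * y j ∧
      (x j ≠ 0 → 2 ≤ 2 * (x j * x j) + y j * y j) := fun j hj => by
    have hs : x j + y j = -1 := by rw [hxy j hj]; norm_num
    have hy' : y j = -1 - x j := by linarith
    refine ⟨?_, fun h0 => ?_⟩
    · by_cases h0 : x j = 0
      · rw [hy', h0]; norm_num
      · have : 0 < x j * x j := mul_self_pos.2 h0
        nlinarith [mul_self_nonneg (y j)]
    · have : 0 < x j * x j := mul_self_pos.2 h0
      nlinarith [mul_self_nonneg (y j)]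
  have hd2 : D Y0 0 = 2 ∨ D Y0 0 = -2 := by
    rcases ht1 with e | e <;> rw [e] at hq <;> omega
  have hY0Z : Y0 ∈ S.filter fun χ => D χ 0 ≠ 0 := Finset.mem_filter.2 ⟨sh0.memQ, by omega⟩
  obtain ⟨srow, τ, F⟩ : ∃ srow τ, Frame (S.filter fun χ => D χ 0 ≠ 0) o D srow τ := by
    rcases h.rows_nonzero hpar with ⟨-, h1⟩ | h2
    · exfalso
      have := h1 Y0 hY0Z 0
      omega
    · exact h2
  -- a further row when there are two classes
  obtain ⟨E, hE, hEl⟩ : ∃ E : Finset ι, (∀ w ∈ E, w ∈ S ∧ w ≠ o ∧ w ≠ Y0 ∧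
      (∀ i, w ≠ X i ∧ w ≠ σ (X i)) ∧ ∀ j ∈ I, w ≠ Y j) ∧
      (5 : ℤ) - l ≤ ∑ w ∈ E, D w 0 * D w 0 := by
    rcases hml with ⟨-, hl⟩ | ⟨hm, hl⟩
    · exact ⟨∅, by simp, by subst hl; norm_num⟩
    have hk : (⟨1, by omega⟩ : Fin m) ≠ 0 := fun e => by simpa using congrArg Fin.val e
    obtain ⟨k, hk'⟩ : ∃ k : Fin m, k ≠ 0 := ⟨_, hk⟩
    have hW := F.mem k
    obtain ⟨hWS, hW0⟩ := Finset.mem_filter.1 hW
    have hW1 : D (srow k) 0 = 1 ∨ D (srow k) 0 = -1 := by
      rw [F.val _ hW 0, nval, if_neg fun e => hk' (F.inj e), mul_one]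
      exact F.sign _
    have hW2 : D (srow k) k = 2 ∨ D (srow k) k = -2 := by
      rw [F.val _ hW k, nval, if_pos rfl]
      rcases F.sign (srow k) with e | e <;> rw [e] <;> norm_num
    have hWY : srow k ≠ Y0 := fun e => by rw [e] at hW1; omega
    have hWf : σ (srow k) = srow k := by
      have hsW : σ (srow k) ∈ S.filter fun χ => D χ 0 ≠ 0 :=
        Finset.mem_filter.2 ⟨h.s_mem _ hWS, by rwa [h.s_col]⟩
      have hv := F.val _ hsW k
      rw [h.s_col, nval] at hv
      by_contra hne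
      rw [if_neg hne, mul_one] at hv
      rcases F.sign (σ (srow k)) with e | e <;> omega
    have hY0k : t * D Y0 k = 1 := by
      have hne : Y0 ≠ srow k := hWY.symm
      have hv := F.val _ hY0Z k
      rw [nval, if_neg hne, mul_one] at hv
      have hc := h.cong Y0 sh0.memQ k 0
      rcases F.sign Y0 with e | e <;> rw [e] at hv <;> rcases ht1 with e' | e' <;>
        rw [e'] at hq ⊢ <;> omega
    refine ⟨{srow k}, fun w hw => ?_, by
      rw [Finset.sum_singleton, hl]; rcases hW1 with e | e <;> rw [e] <;> norm_num⟩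
    rw [Finset.mem_singleton.1 hw]
    refine ⟨hWS, F.ne_o k, hWY, fun i => ⟨fun e => (hsh i).moved (e ▸ hWf), fun e => (hsh i).moved
      (by rw [e, h.s_invol] at hWf; exact hWf.symm)⟩, fun j hj e => ?_⟩
    obtain ⟨s, hct, -⟩ := hY j (hI j hj)
    have hy1 : y j = 1 ∨ y j = -1 := by
      rw [hy, ← e]
      rcases s.vQ with a | a <;> rw [← e] at a <;> rcases hW1 with b | b <;> rw [a, b] <;> norm_num
    have hxs : x j + y j = -1 := by rw [hxy j hj]; norm_num
    have hx2 : x j = 0 := by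
      by_contra hne
      have hx' : x j = -2 := by omega
      have hsum := Finset.add_sum_erase I (fun j => 2 * (x j * x j) + y j * y j) hj
      have hnn : 0 ≤ ∑ i ∈ I.erase j, (2 * (x i * x i) + y i * y i) :=
        Finset.sum_nonneg fun i _ => by nlinarith [mul_self_nonneg (x i), mul_self_nonneg (y i)]
      simp only [hx'] at hsum
      nlinarith [mul_self_nonneg (y j)]
    have hX0 : D (X j) 0 = 0 := by
      have := hxx j
      rw [hx2, mul_zero] at this
      exact mul_self_eq_zero.1 this.symm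
    have hck := h.col j k
    rw [if_neg hk', s.sum, hct, hY0k, h.zero_row (hsh j).memX hX0 k, mul_zero, zero_add, ← e] at hck
    rcases s.vQ with a | a <;> rw [← e] at a <;> rw [a] at hck <;> omega
  have hbE := hbound E hE
  rw [show x i₀ = 0 by linarith] at hbE
  have hx_all : ∀ i, x i = 0 := by
    intro i
    by_cases hi : i = i₀
    · rw [hi]; linarith
    by_contra hne
    have hiI : i ∈ I := Finset.mem_erase.2 ⟨hi, Finset.mem_univ _⟩
    have hle : (I.card : ℤ) + 1 ≤ ∑ j ∈ I, (2 * (x j * x j) + y j * y j) := by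
      rw [← Finset.add_sum_erase I _ hiI]
      have h1 := (hterm i hiI).2 hne
      have h2 : ((I.erase i).card : ℤ) ≤ ∑ j ∈ I.erase i, (2 * (x j * x j) + y j * y j) := by
        rw [Finset.card_eq_sum_ones, Nat.cast_sum, Nat.cast_one]
        exact Finset.sum_le_sum fun j hj => (hterm j (Finset.mem_of_mem_erase hj)).1
      have h3 : ((I.erase i).card : ℤ) + 1 = I.card := by
        exact_mod_cast Finset.card_erase_add_one hiI
      linarith
    have hl1 : ((I.card : ℕ) : ℤ) = (l : ℤ) - 1 := by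
      rw [hIcard]
      have : 1 ≤ l := by rcases hml with ⟨-, e⟩ | ⟨-, e⟩ <;> omega
      omega
    linarith
  have hX : ∀ i, D (X i) 0 = 0 := fun i => by
    have := hxx i
    rw [hx_all i, mul_zero] at this
    exact mul_self_eq_zero.1 this.symm
  exact ⟨F.card, by rw [h.finish hsh hX, F.card]⟩

/-- The number of nonzero rows and the number of rows. -/
theorem count (hml : m = 1 ∧ l = 5 ∨ m = 2 ∧ l = 4 ∨ m = 4 ∧ l = 2)
    (hpar : m = 1 → ∃ w : ι → ℤ, w o = 1 ∧ ∑ r ∈ S, D r 0 * w r = 0) :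
    (S.filter fun χ => D χ 0 ≠ 0).card = 6 ∧ S.card = 6 + 2 * l := by
  rcases hml with e | e | ⟨e, -⟩
  · exact h.few (.inl e) hpar
  · exact h.few (.inr e) hpar
  · exact h.four e

end Hyp

end Cfsg.Agent.Block.ExtraThree.PairComb
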