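import Cfsg.Agent.Lib.Block.ExtraThree.Iso
import Cfsg.Agent.Lib.Block.ExtraThree.PairComb
import Cfsg.Agent.Lib.Char.Quotient
import Cfsg.Agent.Lib.Char.Integral

/-!
The invariants of a principal `3`-block with extraspecial defect group of order `27` and exponent `3`.
-/

open scoped ComplexConjugate

namespace Cfsg.Agent.Block.ExtraThree

open Cfsg Cfsg.Agent.Block Cfsg.Agent.Char Cfsg.Agent.Char.SecInner Cfsg.Agent.Char.Spec
  Cfsg.Agent.Char.BP Cfsg.Agent.Char.Star

set_option linter.unusedSectionVars false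
set_option linter.style.haveILetI false

universe u

variable {G : Type u} [Group G] [Fintype G] {M : Ideal AlgInt} [hp3 : Fact (Nat.Prime 3)]

open Classical in
theorem card_height_zero (hM : IsPModular 3 M) {m : ℕ} {P : Sylow 3 G} {z : G} {u : Fin m → G}
    (hs : Setup P z u) :
    Nat.card {χ : IrrCharacter G //
        χ ∈ principalBlock M G ∧ blockHeight 3 (principalBlock M G) (χ : G → ℂ) = 0} =
      ((bset M G).filter fun χ : IrrCharacter G => ¬ 3 ∣ charDegree (χ : G → ℂ)).card := by
  classical
  rw [Nat.card_eq_fintype_card]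
  refine Fintype.card_of_subtype _ fun χ => ?_
  rw [Finset.mem_filter, mem_bset, hs.height_zero_iff hM]

namespace Base

variable {P : Sylow 3 G} {z : G} (h : Base P z)
include h

/-- The invariants for an inertial index two, four or eight. -/
theorem even_case (hM : IsPModular 3 M) {m e : ℕ} {u : Fin m → G} (hs : Setup P z u)
    (he : ((P : Subgroup G) ⊔ Subgroup.centralizer ((P : Subgroup G) : Set G)).relIndex
      (Subgroup.normalizer ((P : Subgroup G) : Set G)) = e)
    (hme : m = 4 ∧ e = 2 ∨ m = 2 ∧ e = 4 ∨ m = 1 ∧ e = 8) :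
    Nat.card (principalBlock M G) = 18 - 2 * m ∧ blockRank 3 (principalBlock M G) = 6 - m ∧
      Nat.card {χ : IrrCharacter G //
        χ ∈ principalBlock M G ∧ blockHeight 3 (principalBlock M G) (χ : G → ℂ) = 0} = 6 := by
  classical
  haveI : NeZero m := ⟨by omega⟩
  have hf : Flip z u := h.flip hs (by
    rcases hme with ⟨-, e'⟩ | ⟨-, e'⟩ | ⟨-, e'⟩ <;> rw [he, e'] <;> norm_num)
  choose D hD hD3 using hs.exists_int hf
  cases nonempty_fintype (Subgroup.centralizer ({z} : Set G))
  obtain ⟨-, hrank, σ, c, i₀, L⟩ := hs.exists_data hM hf (by omega) hD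
  have hgram : ∀ j k, ∑ χ ∈ bset M G, D χ j * D χ k = if j = k then 9 else 0 := fun j k => by
    have h1 := hs.column hM j k
    simp only [hD, map_intCast] at h1
    have h2 : ((∑ χ ∈ bset M G, D χ j * D χ k : ℤ) : ℂ) = ((if j = k then 9 else 0 : ℤ) : ℂ) := by
      push_cast
      exact h1
    exact_mod_cast h2
  have hone : ∀ k, D (trivialIrr G) k = 1 := fun k => by
    have h1 := hD (trivialIrr G) k
    simp only [trivialIrr] at h1
    exact_mod_cast h1.symm
  have H : PairComb.Hyp (bset M G) (trivialIrr G) σ D c i₀ :=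
    { o_mem := mem_bset.2 (trivial_mem_principalBlock hM)
      d_o := hone
      cong := fun χ _ j k => by
        have := hD3 χ j
        have := hD3 χ k
        omega
      gram := hgram
      s_mem := L.s_mem
      s_invol := L.s_invol
      s_one := L.s_one
      s_col := L.s_col
      inner := L.inner
      inner_s := L.inner_s
      col := L.col
      triv := L.triv
      full := L.full }
  have hpar : ∃ w : IrrCharacter G → ℤ, w (trivialIrr G) = 1 ∧
      ∑ χ ∈ bset M G, D χ 0 * w χ = 0 := by
    refine ⟨fun χ => (charDegree (χ : G → ℂ) : ℤ), ?_, ?_⟩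
    · show (charDegree (fun _ : G => (1 : ℂ)) : ℤ) = 1
      rw [charDeg_trivial, Nat.cast_one]
    · have h1 := hs.column_reg hM 0 (y := 1) not_dvd_one'
      simp only [hD, map_intCast, charDeg_spec'] at h1
      have h2 : ((∑ χ ∈ bset M G, D χ 0 * (charDegree (χ : G → ℂ) : ℤ) : ℤ) : ℂ) = ((0 : ℤ) : ℂ) := by
        push_cast
        rw [← h1]
        exact Finset.sum_congr rfl fun χ _ => mul_comm _ _
      exact_mod_cast h2
  obtain ⟨hZ, hS⟩ := H.count (by omega) fun _ => hpar
  have hk : Nat.card (principalBlock M G) = 18 - 2 * m := by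
    rw [card_bset, hS]; omega
  refine ⟨hk, ?_, ?_⟩
  · have h1 := hs.card_eq hM
    rw [hk, hrank] at h1
    omega
  · rw [card_height_zero hM hs, ← hZ]
    refine congrArg Finset.card (Finset.filter_congr fun χ hχ => ?_)
    have h1 := H.small hχ 0
    have h2 := hD3 χ 0
    omega

/-- The invariants for trivial inertial quotient. -/
theorem odd_case (hM : IsPModular 3 M) {u : Fin 8 → G} (hs : Setup P z u)
    (he : ((P : Subgroup G) ⊔ Subgroup.centralizer ((P : Subgroup G) : Set G)).relIndex
      (Subgroup.normalizer ((P : Subgroup G) : Set G)) = 1) :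
    Nat.card (principalBlock M G) = 11 ∧ blockRank 3 (principalBlock M G) = 1 ∧
      Nat.card {χ : IrrCharacter G //
        χ ∈ principalBlock M G ∧ blockHeight 3 (principalBlock M G) (χ : G → ℂ) = 0} = 9 := by
  classical
  have hc := h.complement_of_one he
  have hk : Nat.card (principalBlock M G) = 11 := by
    rw [hs.card_eq hM, rank_one_of_complement hM hc, rank_one_of_complement hM
      (Cfsg.Agent.Transfer.hasNormalPComplement_subgroup _ hc)]
  refine ⟨hk, rank_one_of_complement hM hc, ?_⟩
  obtain ⟨K, hn, hd, j, hj⟩ := Cfsg.Agent.Transfer.hasNormalPComplement_iff_exists.1 hc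
  haveI := hn
  have hfac : (Nat.card G).factorization 3 = 3 := by
    refine Nat.pow_right_injective (le_refl 2 |>.trans (by norm_num : 2 ≤ 3)) ?_
    show 3 ^ (Nat.card G).factorization 3 = 3 ^ 3
    rw [← P.card_eq_multiplicity, hs.card]
  have hsq : ∑ χ ∈ bset M G, charDegree (χ : G → ℂ) * charDegree (χ : G → ℂ) = 27 := by
    have h1 := principal_column_complement hM hd hj (y := 1) not_dvd_one'
    rw [finsum_bset, hfac] at h1
    simp only [charDeg_spec', map_natCast] at h1
    have h2 : ((∑ χ ∈ bset M G, charDegree (χ : G → ℂ) * charDegree (χ : G → ℂ) : ℕ) : ℂ) =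
        ((27 : ℕ) : ℂ) := by
      push_cast at h1 ⊢
      rw [h1]
    exact_mod_cast h2
  have hdeg : ∀ χ ∈ bset M G, charDegree (χ : G → ℂ) = 1 ∨ charDegree (χ : G → ℂ) = 3 := by
    intro χ hχ
    obtain ⟨ψ, hψ, hψχ⟩ := IsIrr.exists_factor_quotient χ.2 K fun k hk =>
      principal_ker_of_coprime hM hd (mem_bset.1 hχ) hk
    have hdvd : charDegree (χ : G → ℂ) ∣ 3 ^ j := by
      have h1 : ψ 1 = (charDegree (χ : G → ℂ) : ℂ) := by
        rw [← QuotientGroup.mk_one, hψχ, charDeg_spec']
      have := IsIrr.degree_dvd_card hψ h1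
      rwa [← Subgroup.index_eq_card, hj] at this
    obtain ⟨i, -, hi⟩ := (Nat.dvd_prime_pow Nat.prime_three).1 hdvd
    have hle : charDegree (χ : G → ℂ) * charDegree (χ : G → ℂ) ≤ 27 := by
      rw [← hsq]
      exact Finset.single_le_sum (f := fun χ : IrrCharacter G =>
        charDegree (χ : G → ℂ) * charDegree (χ : G → ℂ)) (fun _ _ => Nat.zero_le _) hχ
    rw [hi] at hle ⊢
    rcases Nat.lt_or_ge i 2 with h2 | h2
    · interval_cases i <;> simp
    · have : 9 ≤ 3 ^ i := le_trans (by norm_num) (Nat.pow_le_pow_right (by norm_num) h2)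
      nlinarith
  rw [card_height_zero hM hs]
  have hsplit := Finset.card_filter_add_card_filter_not
    (s := bset M G) (fun χ : IrrCharacter G => 3 ∣ charDegree (χ : G → ℂ))
  rw [Finset.sum_congr rfl fun (χ : IrrCharacter G) hχ => show charDegree (χ : G → ℂ) * charDegree (χ : G → ℂ) =
      1 + 8 * (if 3 ∣ charDegree (χ : G → ℂ) then 1 else 0) by
        rcases hdeg χ hχ with e | e <;> rw [e] <;> norm_num,
    Finset.sum_add_distrib, ← Finset.mul_sum, Finset.sum_boole, Finset.sum_const, smul_eq_mul,
    mul_one, Nat.cast_id] at hsq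
  rw [card_bset] at hk
  omega

end Base

end Cfsg.Agent.Block.ExtraThree
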