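import Cfsg.Agent.Lib.Block.ExtraThree.Fusion
import Cfsg.Agent.Lib.Block.Orth
import Mathlib.GroupTheory.Index
import Mathlib.GroupTheory.Perm.Cycle.Type

/-!
The classes of non-central elements of the Sylow subgroup: `8 / e` classes of `3 e` elements, each
closed under inversion when `e` is even.
-/

namespace Cfsg.Agent.Block.ExtraThree

open Cfsg

set_option linter.unusedSectionVars false

universe u

variable {G : Type u} [Group G] [Finite G]

/-- The classes of `3`-elements: a central element and representatives of the others. -/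
structure Setup {m : ℕ} (P : Sylow 3 G) (z : G) (u : Fin m → G) : Prop where
  card : Nat.card (P : Subgroup G) = 27
  zP : z ∈ (P : Subgroup G)
  zord : orderOf z = 3
  zcomm : ∀ w ∈ (P : Subgroup G), w * z = z * w
  uP : ∀ k, u k ∈ (P : Subgroup G)
  uord : ∀ k, orderOf (u k) = 3
  cover : ∀ w ∈ (P : Subgroup G), w ∈ Subgroup.zpowers z ∨
    ∃ k, ∃ g ∈ Subgroup.centralizer ({z} : Set G), g * u k * g⁻¹ = w
  z_inv : ¬ IsConj z z⁻¹
  z_u : ∀ k, ∀ w ∈ Subgroup.zpowers z, ¬ IsConj w (u k)
  u_inj : ∀ j k, IsConj (u j) (u k) → j = k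
  nil : ∀ k, HasNormalPComplement 3 (Subgroup.centralizer ({u k} : Set G))
  nine : ∀ k, (Nat.card (Subgroup.centralizer ({u k} : Set G))).factorization 3 = 2
  shift : ∀ k, ∃ g ∈ Subgroup.centralizer ({z} : Set G), g * u k * g⁻¹ = u k * z

/-- Every class is closed under inversion. -/
def Flip {m : ℕ} (z : G) (u : Fin m → G) : Prop :=
  ∀ k, ∃ g ∈ Subgroup.centralizer ({z} : Set G), g * u k * g⁻¹ = (u k)⁻¹

theorem card_conj_image [Fintype G] [DecidableEq G] (K : Subgroup G) [DecidablePred (· ∈ K)] (y : G) :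
    ((Finset.univ.filter fun n : G => n ∈ K).image fun n => n * y * n⁻¹).card *
      Nat.card (K ⊓ Subgroup.centralizer ({y} : Set G) : Subgroup G) = Nat.card K := by
  classical
  set T := Finset.univ.filter fun n : G => n ∈ K with hT
  set C := K ⊓ Subgroup.centralizer ({y} : Set G) with hC
  have hTc : T.card = Nat.card K := by
    rw [Nat.card_eq_fintype_card]
    exact (Fintype.card_subtype _).symm
  rw [← hTc, Finset.card_eq_sum_card_image (fun n => n * y * n⁻¹) T, Finset.sum_const_nat]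
  intro w hw
  obtain ⟨n₀, hn₀, rfl⟩ := Finset.mem_image.1 hw
  have hn₀' : n₀ ∈ K := (Finset.mem_filter.1 hn₀).2
  have hCc : (Finset.univ.filter fun n : G => n ∈ C).card = Nat.card C := by
    rw [Nat.card_eq_fintype_card]
    exact (Fintype.card_subtype _).symm
  rw [← hCc]
  refine (Finset.card_equiv (Equiv.mulLeft n₀) fun d => ?_).symm
  simp only [T, Finset.mem_filter, Finset.mem_univ, true_and, Equiv.coe_mulLeft, C,
    Subgroup.mem_inf, Subgroup.mem_centralizer_singleton_iff]
  refine and_congr ⟨fun hd => mul_mem hn₀' hd, fun hd => by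
    simpa using mul_mem (inv_mem hn₀') hd⟩ ?_
  constructor
  · intro hd
    calc n₀ * d * y * (n₀ * d)⁻¹ = n₀ * (d * y * d⁻¹) * n₀⁻¹ := by group
      _ = n₀ * y * n₀⁻¹ := by rw [hd, mul_inv_cancel_right]
  · intro hd
    have h2 : n₀ * (d * y * d⁻¹) * n₀⁻¹ = n₀ * y * n₀⁻¹ := by
      calc n₀ * (d * y * d⁻¹) * n₀⁻¹ = n₀ * d * y * (n₀ * d)⁻¹ := by group
        _ = _ := hd
    exact mul_inv_eq_iff_eq_mul.1 (mul_left_cancel (mul_right_cancel h2))

namespace Base

variable {P : Sylow 3 G} {z : G} (h : Base P z)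
include h

theorem coset_mem_iff {t w : G} : w ∈ zCoset z t ↔ w = t ∨ w = t * z ∨ w = t * z⁻¹ := Iff.rfl

/-- The stabilizer of a coset of the centre in the normalizer of the Sylow subgroup. -/
theorem stab_mem {y n : G} (hy : y ∈ (P : Subgroup G)) (hy' : y ∉ Subgroup.zpowers z)
    (hn : n ∈ Subgroup.normalizer ((P : Subgroup G) : Set G)) (hny : n * y * n⁻¹ ∈ zCoset z y) :
    n ∈ (P : Subgroup G) ⊔ Subgroup.centralizer ((P : Subgroup G) : Set G) := by
  classical
  haveI : Fact (Nat.Prime 3) := ⟨Nat.prime_three⟩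
  suffices hfix : ∀ m ∈ Subgroup.normalizer ((P : Subgroup G) : Set G), m * y * m⁻¹ = y →
      m ∈ (P : Subgroup G) ⊔ Subgroup.centralizer ((P : Subgroup G) : Set G) by
    rcases hny with e | e | e
    · exact hfix n hn e
    all_goals
      obtain ⟨p, hp, hpy⟩ : ∃ p ∈ (P : Subgroup G), p * y * p⁻¹ = n * y * n⁻¹ := by
        rw [e]
        first
          | exact h.shift hy hy'
          | exact h.shift_inv hy hy'
      have h1 := hfix (p⁻¹ * n) (mul_mem (Subgroup.le_normalizer (inv_mem hp)) hn) (by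
        rw [show p⁻¹ * n * y * (p⁻¹ * n)⁻¹ = p⁻¹ * (n * y * n⁻¹) * p by group, ← hpy]
        group)
      simpa using mul_mem (Subgroup.mem_sup_left (T := Subgroup.centralizer _) hp) h1
  intro m hm hmy
  obtain ⟨a, v, hav, hcom, ⟨k, hk⟩, hv, haz, hvz⟩ :=
    Cfsg.Agent.Block.exists_pPart_zpowers (p := 3) m
  have hzm : Subgroup.zpowers m ≤ Subgroup.normalizer ((P : Subgroup G) : Set G) :=
    Subgroup.zpowers_le.2 hm
  have haP : a ∈ (P : Subgroup G) := by
    have hp : IsPGroup 3 (Subgroup.zpowers a) := IsPGroup.of_card (n := k) (by rw [Nat.card_zpowers, hk])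
    have hle : Subgroup.zpowers a ≤ Subgroup.normalizer ((P : Subgroup G) : Set G) :=
      Subgroup.zpowers_le.2 (hzm haz)
    rw [← P.is_maximal' (hp.to_sup_of_normal_right' P.isPGroup' hle) le_sup_right]
    exact Subgroup.mem_sup_left (Subgroup.mem_zpowers a)
  have hvy : v * y = y * v := by
    have h1 : Subgroup.zpowers m ≤ Subgroup.centralizer ({y} : Set G) :=
      Subgroup.zpowers_le.2 (Subgroup.mem_centralizer_singleton_iff.2 (mul_inv_eq_iff_eq_mul.1 hmy))
    exact Subgroup.mem_centralizer_singleton_iff.1 (h1 hvz)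
  have hvzz : v * z = z * v := h.norm v (hzm hvz)
  suffices hvC : v ∈ Subgroup.centralizer ((P : Subgroup G) : Set G) by
    rw [← hav]
    exact mul_mem (Subgroup.mem_sup_left haP) (Subgroup.mem_sup_right hvC)
  rw [Subgroup.mem_centralizer_iff]
  intro w hw
  obtain ⟨w', hw'⟩ : ∃ w', w' = v * w * v⁻¹ := ⟨_, rfl⟩
  have hw'P : w' ∈ (P : Subgroup G) :=
    hw' ▸ (Subgroup.mem_set_normalizer_iff.1 (hzm hvz) w).1 hw
  have hww : w' * y * w'⁻¹ = w * y * w⁻¹ := by
    have hd : w * y * w⁻¹ * y⁻¹ ∈ Subgroup.zpowers z := by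
      rcases h.derived w hw y hy with e | e | e <;> rw [e]
      · exact one_mem _
      · exact Subgroup.mem_zpowers z
      · exact inv_mem (Subgroup.mem_zpowers z)
    have hcomm : Commute v (w * y * w⁻¹) := by
      obtain ⟨i, hi⟩ := Subgroup.mem_zpowers_iff.1 hd
      rw [show w * y * w⁻¹ = z ^ i * y by rw [hi]; group]
      exact ((show Commute v z from hvzz).zpow_right i).mul_right hvy
    calc w' * y * w'⁻¹ = v * w * (v⁻¹ * y * v) * w⁻¹ * v⁻¹ := by rw [hw']; group
      _ = v * (w * y * w⁻¹) * v⁻¹ := by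
        rw [mul_assoc v⁻¹, ← hvy, inv_mul_cancel_left]; group
      _ = w * y * w⁻¹ := by rw [hcomm.eq, mul_inv_cancel_right]
  obtain ⟨α, hα⟩ : ∃ α, α = w⁻¹ * w' := ⟨_, rfl⟩
  have hαy : α * y = y * α := by
    refine mul_inv_eq_iff_eq_mul.1 ?_
    calc α * y * α⁻¹ = w⁻¹ * (w' * y * w'⁻¹) * w := by rw [hα]; group
      _ = y := by rw [hww]; group
  have hαP : α ∈ (P : Subgroup G) := hα ▸ mul_mem (inv_mem hw) hw'P
  have hvα : Commute v α := by
    obtain ⟨i, j, hij⟩ := h.cent_mem hy hy' hαP hαy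
    rw [hij]
    exact ((show Commute v y from hvy).pow_right _).mul_right ((show Commute v z from hvzz).pow_right _)
  have hiter : ∀ i : ℕ, v ^ i * w * (v ^ i)⁻¹ = w * α ^ i := by
    intro i
    induction i with
    | zero => simp
    | succ i ih =>
      calc v ^ (i + 1) * w * (v ^ (i + 1))⁻¹ = v * (v ^ i * w * (v ^ i)⁻¹) * v⁻¹ := by
            rw [pow_succ']; group
        _ = (v * w * v⁻¹) * (v * α ^ i * v⁻¹) := by rw [ih]; group
        _ = w * α ^ (i + 1) := by
          rw [← hw', (hvα.pow_right i).eq, mul_inv_cancel_right, pow_succ', ← mul_assoc w, hα,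
            mul_inv_cancel_left]
  have h1 := hiter (orderOf v)
  rw [pow_orderOf_eq_one, one_mul, inv_one, mul_one, left_eq_mul] at h1
  have hα1 : α = 1 := by
    refine orderOf_eq_one_iff.1 (Nat.eq_one_of_dvd_coprimes
      (Nat.prime_three.coprime_iff_not_dvd.2 hv) ?_ (orderOf_dvd_of_pow_eq_one h1))
    exact orderOf_dvd_of_pow_eq_one (h.exp α hαP)
  rw [hα, inv_mul_eq_one] at hα1
  have h2 : v * w * v⁻¹ = w := hw'.symm.trans hα1.symm
  exact (mul_inv_eq_iff_eq_mul.1 h2).symm

theorem sup_le_coset {y : G} (hy : y ∈ (P : Subgroup G)) :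
    (P : Subgroup G) ⊔ Subgroup.centralizer ((P : Subgroup G) : Set G) ≤
      Subgroup.normalizer (zCoset z y) := by
  refine sup_le (h.coset_norm hy) fun c hc => ?_
  rw [Subgroup.mem_set_normalizer_iff]
  have hc' := Subgroup.mem_centralizer_iff.1 hc
  intro w
  have hfix : ∀ t ∈ (P : Subgroup G), c * t * c⁻¹ = t := fun t ht => by
    rw [← hc' t ht, mul_inv_cancel_right]
  have hsub : ∀ t ∈ zCoset z y, t ∈ (P : Subgroup G) := by
    rintro t (rfl | rfl | rfl)
    · exact hy
    · exact mul_mem hy h.zP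
    · exact mul_mem hy (inv_mem h.zP)
  refine ⟨fun hw => by rwa [hfix w (hsub w hw)], fun hw => ?_⟩
  have e := hfix _ (hsub _ hw)
  have : c * w * c⁻¹ = w := mul_left_cancel (mul_right_cancel e)
  rwa [this] at hw

theorem coset_not_central {y w : G} (hy' : y ∉ Subgroup.zpowers z) (hw : w ∈ zCoset z y) :
    w ∉ Subgroup.zpowers z := by
  intro hm
  rcases hw with rfl | rfl | rfl
  · exact hy' hm
  · exact hy' (by simpa using mul_mem hm (inv_mem (Subgroup.mem_zpowers z)))
  · exact hy' (by simpa using mul_mem hm (Subgroup.mem_zpowers z))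

/-- A non-central element has `3 e` conjugates in the Sylow subgroup. -/
theorem card_orbit [Fintype G] [DecidableEq G] [DecidablePred (· ∈ (P : Subgroup G))]
    [DecidableRel (IsConj : G → G → Prop)] {y : G} (hy : y ∈ (P : Subgroup G))
    (hy' : y ∉ Subgroup.zpowers z) :
    (Finset.univ.filter fun w : G => w ∈ (P : Subgroup G) ∧ IsConj y w).card =
      3 * ((P : Subgroup G) ⊔ Subgroup.centralizer ((P : Subgroup G) : Set G)).relIndex
        (Subgroup.normalizer ((P : Subgroup G) : Set G)) := by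
  classical
  set N := Subgroup.normalizer ((P : Subgroup G) : Set G) with hN
  set S := (P : Subgroup G) ⊔ Subgroup.centralizer ((P : Subgroup G) : Set G) with hS
  have hSN : S ≤ N := sup_le Subgroup.le_normalizer (Subgroup.centralizer_le_normalizer _)
  have hSC : S ⊓ Subgroup.centralizer ({y} : Set G) = N ⊓ Subgroup.centralizer ({y} : Set G) := by
    refine le_antisymm (inf_le_inf_right _ hSN) fun n hn => ⟨?_, hn.2⟩
    refine h.stab_mem hy hy' hn.1 (.inl ?_)
    rw [Subgroup.mem_centralizer_singleton_iff.1 hn.2, mul_inv_cancel_right]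
  have hNimg : (Finset.univ.filter fun n : G => n ∈ N).image (fun n => n * y * n⁻¹) =
      Finset.univ.filter fun w : G => w ∈ (P : Subgroup G) ∧ IsConj y w := by
    ext w
    simp only [Finset.mem_image, Finset.mem_filter, Finset.mem_univ, true_and]
    constructor
    · rintro ⟨n, hn, rfl⟩
      exact ⟨(Subgroup.mem_set_normalizer_iff.1 hn y).1 hy, isConj_iff.2 ⟨n, rfl⟩⟩
    · rintro ⟨hw, hc⟩
      exact h.fusion hy hy' hw (fun hm => h.not_conj hy hy' hm hc.symm) hc
  have hSimg : ((Finset.univ.filter fun n : G => n ∈ S).image (fun n => n * y * n⁻¹)) =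
      {y, y * z, y * z⁻¹} := by
    ext w
    simp only [Finset.mem_image, Finset.mem_filter, Finset.mem_univ, true_and, Finset.mem_insert,
      Finset.mem_singleton]
    constructor
    · rintro ⟨n, hn, rfl⟩
      exact (Subgroup.mem_set_normalizer_iff.1 (h.sup_le_coset hy hn) y).1 (.inl rfl)
    · rintro (rfl | rfl | rfl)
      · exact ⟨1, one_mem _, by simp⟩
      · obtain ⟨p, hp, e⟩ := h.shift hy hy'
        exact ⟨p, Subgroup.mem_sup_left hp, e⟩
      · obtain ⟨p, hp, e⟩ := h.shift_inv hy hy'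
        exact ⟨p, Subgroup.mem_sup_left hp, e⟩
  have h3 : ({y, y * z, y * z⁻¹} : Finset G).card = 3 := by
    rw [Finset.card_insert_of_notMem (by simp [h.z_ne_one]), Finset.card_pair (by
      simp [h.z_ne_inv])]
  have h1 := card_conj_image N y
  have h2 := card_conj_image S y
  rw [hNimg] at h1
  rw [hSimg, hSC, h3] at h2
  have h4 : S.relIndex N * Nat.card S = Nat.card N := by
    have h5 := (S.subgroupOf N).card_mul_index
    rw [Nat.card_congr (Subgroup.subgroupOfEquivOfLe hSN).toEquiv] at h5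
    rw [Subgroup.relIndex, mul_comm]
    exact h5
  set a := Nat.card (N ⊓ Subgroup.centralizer ({y} : Set G) : Subgroup G)
  have hapos : 0 < a := Nat.card_pos
  rw [← h2, ← h1] at h4
  refine Nat.eq_of_mul_eq_mul_right hapos ?_
  rw [← h4]
  ring

/-- Representatives of the classes. -/
theorem exists_setup :
    ∃ m : ℕ, ∃ u : Fin m → G, Setup P z u ∧
      m * (3 * ((P : Subgroup G) ⊔ Subgroup.centralizer ((P : Subgroup G) : Set G)).relIndex
        (Subgroup.normalizer ((P : Subgroup G) : Set G))) = 24 := by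
  classical
  haveI : Fact (Nat.Prime 3) := ⟨Nat.prime_three⟩
  cases nonempty_fintype G
  set W := Finset.univ.filter fun w : G => w ∈ (P : Subgroup G) ∧ w ∉ Subgroup.zpowers z with hW
  let orb : G → Finset G := fun y => Finset.univ.filter fun w => w ∈ (P : Subgroup G) ∧ IsConj y w
  set O := W.image orb with hO
  have hWc : W.card = 24 := by
    set Q := Finset.univ.filter fun w : G => w ∈ (P : Subgroup G) with hQ
    have hQc : Q.card = 27 := by
      rw [← h.card, Nat.card_eq_fintype_card]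
      exact (Fintype.card_subtype _).symm
    have hZ : Finset.univ.filter (fun w : G => w ∈ Subgroup.zpowers z) ⊆ Q := fun w hw =>
      Finset.mem_filter.2 ⟨Finset.mem_univ _, Subgroup.zpowers_le.2 h.zP (Finset.mem_filter.1 hw).2⟩
    have e : W = Q \ Finset.univ.filter (fun w : G => w ∈ Subgroup.zpowers z) := by
      ext w; simp [W, Q]
    rw [e, Finset.card_sdiff_of_subset hZ, hQc,
      show (Finset.univ.filter fun w : G => w ∈ Subgroup.zpowers z).card = 3 by
        rw [← h.zord, ← Nat.card_zpowers, Nat.card_eq_fintype_card]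
        exact (Fintype.card_subtype _).symm]
  have hrep : ∀ o : O, ∃ y ∈ W, orb y = o := fun o => Finset.mem_image.1 o.2
  choose rep hrepW hrepo using hrep
  set eqv := (O.equivFin).symm with heqv
  refine ⟨O.card, fun k => rep (eqv k), ?_, ?_⟩
  · have hmem : ∀ k, rep (eqv k) ∈ (P : Subgroup G) ∧ rep (eqv k) ∉ Subgroup.zpowers z := fun k =>
      (Finset.mem_filter.1 (hrepW _)).2
    refine ⟨h.card, h.zP, h.zord, h.zcomm, fun k => (hmem k).1, fun k => ?_, fun w hw => ?_,
      fun hc => ?_, fun k w hw => h.not_conj (hmem k).1 (hmem k).2 hw, fun j k hjk => ?_,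
      fun k => h.complement_cent (hmem k).1 (hmem k).2,
      fun k => h.factorization_cent (hmem k).1 (hmem k).2, fun k => ?_⟩
    · exact orderOf_eq_prime (h.exp _ (hmem k).1) fun e => (hmem k).2 (by rw [e]; exact one_mem _)
    · by_cases hwz : w ∈ Subgroup.zpowers z
      · exact .inl hwz
      · refine .inr ?_
        have ho : orb w ∈ O := Finset.mem_image_of_mem _ (Finset.mem_filter.2 ⟨Finset.mem_univ _, hw, hwz⟩)
        refine ⟨eqv.symm ⟨orb w, ho⟩, ?_⟩
        set y := rep (eqv (eqv.symm ⟨orb w, ho⟩)) with hy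
        have hyo : orb y = orb w := by rw [hy, hrepo, Equiv.apply_symm_apply]
        have hcy : IsConj y w := by
          have : w ∈ orb y := hyo ▸ Finset.mem_filter.2 ⟨Finset.mem_univ _, hw, IsConj.refl w⟩
          exact (Finset.mem_filter.1 this).2.2
        obtain ⟨n, hn, e⟩ := h.fusion (hmem _).1 (hmem _).2 hw hwz hcy
        exact ⟨n, Subgroup.mem_centralizer_singleton_iff.2 (h.norm n hn), e⟩
    · obtain ⟨g, hg⟩ := isConj_iff.1 hc
      exact h.z_ne_inv ((h.eq_z_of_conj (hg ▸ inv_mem h.zP)).symm.trans hg)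
    · have e : orb (rep (eqv j)) = orb (rep (eqv k)) := Finset.filter_congr fun w _ =>
        and_congr_right fun _ => ⟨fun a => hjk.symm.trans a, fun a => hjk.trans a⟩
      rw [hrepo, hrepo] at e
      exact eqv.injective (Subtype.ext e)
    · obtain ⟨p, hp, e⟩ := h.shift (hmem k).1 (hmem k).2
      exact ⟨p, h.le_centralizer hp, e⟩
  · have hfib : ∀ o ∈ O, (W.filter fun w => orb w = o).card =
        3 * ((P : Subgroup G) ⊔ Subgroup.centralizer ((P : Subgroup G) : Set G)).relIndex
          (Subgroup.normalizer ((P : Subgroup G) : Set G)) := by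
      intro o ho
      obtain ⟨y, hyW, rfl⟩ := Finset.mem_image.1 ho
      have hy := (Finset.mem_filter.1 hyW).2
      rw [← h.card_orbit hy.1 hy.2]
      congr 1
      ext w
      simp only [W, Finset.mem_filter, Finset.mem_univ, true_and]
      constructor
      · rintro ⟨hw, he⟩
        refine ⟨hw.1, ?_⟩
        have : w ∈ orb w := Finset.mem_filter.2 ⟨Finset.mem_univ _, hw.1, IsConj.refl w⟩
        rw [he] at this
        exact (Finset.mem_filter.1 this).2.2
      · rintro ⟨hw, hc⟩
        exact ⟨⟨hw, fun hm => h.not_conj hy.1 hy.2 hm hc.symm⟩, Finset.filter_congr fun t _ =>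
          and_congr_right fun _ => ⟨fun a => hc.trans a, fun a => hc.symm.trans a⟩⟩
    rw [← hWc, Finset.card_eq_sum_card_image orb W, Finset.sum_const_nat hfib]

/-- For an even inertial index every class is closed under inversion. -/
theorem flip {m : ℕ} {u : Fin m → G} (hs : Setup P z u)
    (he : 2 ∣ ((P : Subgroup G) ⊔ Subgroup.centralizer ((P : Subgroup G) : Set G)).relIndex
      (Subgroup.normalizer ((P : Subgroup G) : Set G))) : Flip z u := by
  classical
  haveI : Fact (Nat.Prime 2) := ⟨Nat.prime_two⟩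
  intro k
  set N := Subgroup.normalizer ((P : Subgroup G) : Set G) with hN
  set S := (P : Subgroup G) ⊔ Subgroup.centralizer ((P : Subgroup G) : Set G) with hS
  have hconjP : ∀ n ∈ N, ∀ w, w ∈ (P : Subgroup G) ↔ n * w * n⁻¹ ∈ (P : Subgroup G) :=
    fun n hn => Subgroup.mem_set_normalizer_iff.1 hn
  have hnor : (S.subgroupOf N).Normal := by
    refine ⟨fun a ha g => ?_⟩
    rw [Subgroup.mem_subgroupOf] at ha ⊢
    have hle : S ≤ S.comap (MulAut.conj (g : G)).toMonoidHom := by
      refine sup_le (fun p hp => ?_) (fun c hc => ?_)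
      · exact Subgroup.mem_sup_left ((hconjP _ g.2 p).1 hp)
      · refine Subgroup.mem_sup_right (Subgroup.mem_centralizer_iff.2 fun w hw => ?_)
        show w * ((g : G) * c * (g : G)⁻¹) = (g : G) * c * (g : G)⁻¹ * w
        have h1 : (g : G)⁻¹ * w * (g : G) ∈ (P : Subgroup G) := by
          have := (hconjP _ (inv_mem g.2) w).1 hw
          simpa using this
        have h2 := Subgroup.mem_centralizer_iff.1 hc _ h1
        calc w * ((g : G) * c * (g : G)⁻¹) = (g : G) * ((g : G)⁻¹ * w * g * c) * (g : G)⁻¹ := by group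
          _ = (g : G) * (c * ((g : G)⁻¹ * w * g)) * (g : G)⁻¹ := by rw [h2]
          _ = _ := by group
    simpa using hle ha
  haveI := hnor
  have hdvd : 2 ∣ Nat.card (N ⧸ S.subgroupOf N) := by
    rwa [← Subgroup.index_eq_card]
  obtain ⟨q, hq⟩ := exists_prime_orderOf_dvd_card' (G := N ⧸ S.subgroupOf N) 2 hdvd
  obtain ⟨t, rfl⟩ := QuotientGroup.mk'_surjective _ q
  have ht : (t : G) ∉ S := fun hm => by
    rw [show QuotientGroup.mk' (S.subgroupOf N) t = 1 from
      (QuotientGroup.eq_one_iff t).2 hm, orderOf_one] at hq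
    norm_num at hq
  have ht2 : (t : G) * (t : G) ∈ S := by
    have h1 : QuotientGroup.mk' (S.subgroupOf N) (t * t) = 1 := by
      rw [map_mul, ← pow_two, ← hq, pow_orderOf_eq_one]
    simpa [Subgroup.mem_subgroupOf] using (QuotientGroup.eq_one_iff (t * t)).1 h1
  obtain ⟨y, hy⟩ : ∃ y, y = u k := ⟨_, rfl⟩
  have hyP : y ∈ (P : Subgroup G) := hy ▸ hs.uP k
  have hy' : y ∉ Subgroup.zpowers z := fun hm => hs.z_u k _ (hy ▸ hm) (IsConj.refl _)
  obtain ⟨y', hyd⟩ : ∃ y', y' = (t : G) * y * (t : G)⁻¹ := ⟨_, rfl⟩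
  have hy'P : y' ∈ (P : Subgroup G) := hyd ▸ (hconjP _ t.2 y).1 hyP
  obtain ⟨v, hv⟩ : ∃ v, v = y' * y := ⟨_, rfl⟩
  have hvP : v ∈ (P : Subgroup G) := hv ▸ mul_mem hy'P hyP
  have htv : (t : G) * v * (t : G)⁻¹ ∈ zCoset z v := by
    have hsq : (t : G) * y' * (t : G)⁻¹ ∈ zCoset z y := by
      have := (Subgroup.mem_set_normalizer_iff.1 (h.sup_le_coset hyP ht2) y).1 (.inl rfl)
      rwa [show (t : G) * y' * (t : G)⁻¹ = (t : G) * t * y * ((t : G) * t)⁻¹ by rw [hyd]; group]
    have e : (t : G) * v * (t : G)⁻¹ = ((t : G) * y' * (t : G)⁻¹) * y' := by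
      rw [hv, hyd]; group
    rw [e]
    have hswap : y * y' = v ∨ y * y' = v * z ∨ y * y' = v * z⁻¹ := by
      have hvz : Commute v z := h.zcomm v hvP
      rcases h.derived y hyP y' hy'P with e' | e' | e' <;>
        rw [mul_inv_eq_iff_eq_mul, mul_inv_eq_iff_eq_mul, mul_assoc, ← hv] at e'
      · exact .inl (by rw [e', one_mul])
      · exact .inr (.inl (e'.trans hvz.eq.symm))
      · exact .inr (.inr (e'.trans hvz.inv_right.eq.symm))
    have hcz : ∀ c, c = z ∨ c = z⁻¹ → y * c * y' = y * y' * c := by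
      rintro c (rfl | rfl)
      · rw [mul_assoc, mul_assoc, ← h.zcomm y' hy'P]
      · rw [mul_assoc, mul_assoc, ((show Commute y' z from h.zcomm y' hy'P).inv_right).eq]
    rcases hsq with e' | e' | e' <;> rw [e']
    · exact hswap
    · rw [hcz z (.inl rfl)]
      rcases hswap with e'' | e'' | e'' <;> rw [e'']
      · exact .inr (.inl rfl)
      · exact .inr (.inr (by rw [mul_assoc, h.z_sq]))
      · exact .inl (inv_mul_cancel_right v z)
    · rw [hcz z⁻¹ (.inr rfl)]
      rcases hswap with e'' | e'' | e'' <;> rw [e'']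
      · exact .inr (.inr rfl)
      · exact .inl (mul_inv_cancel_right v z)
      · exact .inr (.inl (by rw [mul_assoc, h.inv_z_sq]))
  have hvc : v ∈ Subgroup.zpowers z := by
    by_contra hv'
    exact ht (h.stab_mem hvP hv' t.2 htv)
  have ht' : (t : G) ∈ Subgroup.centralizer ({z} : Set G) :=
    Subgroup.mem_centralizer_singleton_iff.2 (h.norm _ t.2)
  have hyi : y⁻¹ ∉ Subgroup.zpowers z := fun hm => hy' (by simpa using inv_mem hm)
  rw [← hy]
  rcases cube_cases h.zord hvc with e | e | e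
  · exact ⟨t, ht', by rw [← hyd, eq_inv_iff_mul_eq_one, ← hv, e]⟩
  · obtain ⟨p, hp, hpy⟩ := h.shift (inv_mem hyP) hyi
    refine ⟨p⁻¹ * t, mul_mem (h.le_centralizer (inv_mem hp)) ht', ?_⟩
    have e' : y' = y⁻¹ * z := by
      rw [((show Commute y⁻¹ z from h.zcomm _ (inv_mem hyP))).eq, eq_mul_inv_iff_mul_eq, ← hv, e]
    rw [show p⁻¹ * (t : G) * y * (p⁻¹ * (t : G))⁻¹ = p⁻¹ * y' * p by rw [hyd]; group, e', ← hpy]
    group
  · obtain ⟨p, hp, hpy⟩ := h.shift_inv (inv_mem hyP) hyi
    refine ⟨p⁻¹ * t, mul_mem (h.le_centralizer (inv_mem hp)) ht', ?_⟩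
    have e' : y' = y⁻¹ * z⁻¹ := by
      rw [((show Commute y⁻¹ z from h.zcomm _ (inv_mem hyP)).inv_right).eq, eq_mul_inv_iff_mul_eq, ← hv, e]
    rw [show p⁻¹ * (t : G) * y * (p⁻¹ * (t : G))⁻¹ = p⁻¹ * y' * p by rw [hyd]; group, e', ← hpy]
    group

/-- For inertial index one there is a normal complement. -/
theorem complement_of_one
    (he : ((P : Subgroup G) ⊔ Subgroup.centralizer ((P : Subgroup G) : Set G)).relIndex
      (Subgroup.normalizer ((P : Subgroup G) : Set G)) = 1) : HasNormalPComplement 3 G := by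
  classical
  haveI : Fact (Nat.Prime 3) := ⟨Nat.prime_three⟩
  cases nonempty_fintype G
  refine Cfsg.Agent.Transfer.hasNormalPComplement_of_control P fun x hx y hy hxy => ?_
  have hc : IsConj x y := isConj_iff.2 hxy
  by_cases hx' : x ∈ Subgroup.zpowers z
  · refine ⟨1, one_mem _, ?_⟩
    obtain ⟨g, hg⟩ := hxy
    rw [one_mul, inv_one, mul_one, ← hg, h.eq_zpow_of_conj hx' (hg ▸ hy)]
  have hy' : y ∉ Subgroup.zpowers z := fun hm => h.not_conj hx hx' hm hc.symm
  obtain ⟨n, hn, hny⟩ := h.fusion hx hx' hy hy' hc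
  have hn' := Subgroup.relIndex_eq_one.1 he hn
  rcases (Subgroup.mem_set_normalizer_iff.1 (h.sup_le_coset hx hn') x).1 (.inl rfl) with e | e | e <;>
    rw [hny] at e
  · exact ⟨1, one_mem _, by simp [e]⟩
  · obtain ⟨p, hp, hpe⟩ := h.shift hx hx'
    exact ⟨p, hp, hpe.trans e.symm⟩
  · obtain ⟨p, hp, hpe⟩ := h.shift_inv hx hx'
    exact ⟨p, hp, hpe.trans e.symm⟩

end Base

end Cfsg.Agent.Block.ExtraThree
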