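import Cfsg.Agent.Lib.Block.ExtraThree.Orbits
import Cfsg.Agent.Lib.Char.SecTwoSixteen
import Cfsg.Agent.Lib.Block.PrincipalColumn
import Cfsg.Agent.Lib.Block.Height

/-!
The sections of the classes of `3`-elements in the principal `3`-block: inner products by sections,
columns at the non-central elements, counting and heights.
-/

open scoped ComplexConjugate

namespace Cfsg.Agent.Block.ExtraThree

open Cfsg Cfsg.Agent.Block Cfsg.Agent.Char Cfsg.Agent.Char.SecInner Cfsg.Agent.Char.Spec
  Cfsg.Agent.Char.BP Cfsg.Agent.Char.Star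

set_option linter.unusedSectionVars false
set_option linter.style.haveILetI false

universe u

variable {G : Type u} [Group G] [Fintype G] {M : Ideal AlgInt}

/-- The members of the principal block. -/
noncomputable def bset (M : Ideal AlgInt) (G : Type u) [Group G] [Fintype G] :
    Finset (IrrCharacter G) := by
  classical
  exact Finset.univ.filter (· ∈ principalBlock M G)

theorem mem_bset {χ : IrrCharacter G} : χ ∈ bset M G ↔ χ ∈ principalBlock M G := by
  classical
  simp [bset]

theorem card_bset : Nat.card (principalBlock M G) = (bset M G).card := by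
  classical
  rw [Nat.card_eq_fintype_card]
  exact Fintype.card_of_subtype _ fun χ => mem_bset

theorem finsum_bset {A : Type*} [AddCommMonoid A] (f : IrrCharacter G → A) :
    ∑ᶠ χ ∈ principalBlock M G, f χ = ∑ χ ∈ bset M G, f χ := by
  classical
  rw [finsum_mem_block]
  exact Finset.sum_congr (by ext; simp [bset]) fun _ _ => rfl

theorem blockRank_congr {p : ℕ} {H K : Subgroup G} (h : H = K) :
    blockRank p (principalBlock M H) = blockRank p (principalBlock M K) := by
  subst h; rfl

variable [hp3 : Fact (Nat.Prime 3)]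

theorem not_dvd_one' : ¬ 3 ∣ orderOf (1 : G) := by simp

/-- The pairing over the regular elements. -/
theorem T_one_eq (f f' : G → ℂ) :
    T 3 1 f f' = (Nat.card G : ℂ)⁻¹ *
      ∑ g ∈ Finset.univ.filter (fun g : G => ¬ 3 ∣ orderOf g), f g * conj (f' g) := by
  classical
  rw [T, Finset.sum_filter]
  congr 1
  exact Finset.sum_congr rfl fun g _ => if_congr (ppt_eq_one_iff g) rfl rfl

theorem T_one_trivial (f : G → ℂ) :
    T 3 1 f (trivialIrr G : G → ℂ) = (Nat.card G : ℂ)⁻¹ * PrinCol.regTot 3 f := by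
  classical
  rw [T_one_eq, PrinCol.regTot]
  congr 1
  simp [trivialIrr]

/-- The principal block by the pairing with the trivial character on regular elements. -/
theorem mem_iff_T_one (hM : IsPModular 3 M) (χ : IrrCharacter G) :
    χ ∈ principalBlock M G ↔ T 3 1 (χ : G → ℂ) (trivialIrr G : G → ℂ) ≠ 0 := by
  rw [PrinCol.mem_principal_iff hM, T_one_trivial, mul_ne_zero_iff,
    and_iff_right (inv_ne_zero (Nat.cast_ne_zero.2 Nat.card_pos.ne'))]

/-- A function constant on the section of an element with complemented centralizer. -/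
theorem T_const {x : G} (hx : ∃ k, orderOf x = 3 ^ k)
    (hc : HasNormalPComplement 3 (Subgroup.centralizer ({x} : Set G))) {f f' : G → ℂ}
    (hf : IsClassFunction G f) (hf' : IsClassFunction G f')
    (hfc : ∀ c : Subgroup.centralizer ({x} : Set G), ¬ 3 ∣ orderOf c → f (x * (c : G)) = f x)
    (hfc' : ∀ c : Subgroup.centralizer ({x} : Set G), ¬ 3 ∣ orderOf c → f' (x * (c : G)) = f' x) :
    T 3 x f f' = f x * conj (f' x) /
      ((3 ^ (Nat.card (Subgroup.centralizer ({x} : Set G))).factorization 3 : ℕ) : ℂ) := by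
  classical
  set C := Subgroup.centralizer ({x} : Set G) with hC
  cases nonempty_fintype C
  obtain ⟨N, hn, hd, k, hk⟩ := Cfsg.Agent.Transfer.hasNormalPComplement_iff_exists.1 hc
  haveI := hn
  have h1 : Nat.card C = Nat.card N * 3 ^ k := by rw [← hk, mul_comm]; exact N.index_mul_card.symm
  have hfac : (Nat.card C).factorization 3 = k := by
    rw [h1, Nat.factorization_mul Nat.card_pos.ne' (by positivity), Finsupp.add_apply,
      Nat.factorization_eq_zero_of_not_dvd hd, zero_add, Nat.Prime.factorization_pow Nat.prime_three,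
      Finsupp.single_eq_same]
  have hreg : Finset.univ.filter (fun c : C => ¬ 3 ∣ orderOf c) =
      Finset.univ.filter (fun c : C => c ∈ N) := Finset.filter_congr fun c _ =>
    ⟨fun h => regular_mem_of_index_pPow hk h, fun h hdv => hd (hdv.trans
      ((Subgroup.orderOf_mk c h ▸ orderOf_dvd_natCard (⟨c, h⟩ : N))))⟩
  rw [T_eq_cent hx hf hf', Finset.sum_congr rfl fun c hc' => by
    rw [hfc c (Finset.mem_filter.1 hc').2, hfc' c (Finset.mem_filter.1 hc').2], Finset.sum_const,
    hreg, ← Fintype.card_subtype, nsmul_eq_mul, hfac]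
  have hN : (Fintype.card {c : C // c ∈ N} : ℂ) = Nat.card N := by
    rw [Nat.card_eq_fintype_card]
  have h2 : (Nat.card C : ℂ) = (Nat.card N : ℂ) * ((3 ^ k : ℕ) : ℂ) := by
    rw [← Nat.cast_mul, ← h1]
  rw [hN, h2]
  have hN0 : (Nat.card N : ℂ) ≠ 0 := Nat.cast_ne_zero.2 Nat.card_pos.ne'
  field_simp

namespace Setup

variable {m : ℕ} {P : Sylow 3 G} {z : G} {u : Fin m → G} (hs : Setup P z u)
include hs

theorem z_pow : ∃ k, orderOf z = 3 ^ k := ⟨1, by rw [hs.zord, pow_one]⟩

theorem zinv_pow : ∃ k, orderOf z⁻¹ = 3 ^ k := ⟨1, by rw [orderOf_inv, hs.zord, pow_one]⟩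

theorem u_pow (k : Fin m) : ∃ j, orderOf (u k) = 3 ^ j := ⟨1, by rw [hs.uord, pow_one]⟩

theorem z_ne_one : z ≠ 1 := fun e => by simpa [e] using hs.zord

theorem u_ne_one (k : Fin m) : u k ≠ 1 := fun e => by simpa [e] using hs.uord k

theorem not_conj_one {x : G} (hx : x ≠ 1) : ¬ IsConj 1 x := fun h => hx (isConj_one_right.1 h)

open Classical in
/-- The sections partition the group. -/
theorem classInner_sections (f f' : G → ℂ) :
    classInner f f' = T 3 1 f f' + T 3 z f f' + T 3 z⁻¹ f f' + ∑ k, T 3 (u k) f f' := by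
  classical
  simp only [T, classInner, ← Finset.mul_sum, ← mul_add]
  congr 1
  rw [Finset.sum_comm, ← Finset.sum_add_distrib, ← Finset.sum_add_distrib, ← Finset.sum_add_distrib]
  refine Finset.sum_congr rfl fun g _ => ?_
  have hz1 : ¬ IsConj 1 z := hs.not_conj_one hs.z_ne_one
  have hz2 : ¬ IsConj 1 z⁻¹ := hs.not_conj_one (inv_ne_one.2 hs.z_ne_one)
  have hu1 : ∀ k, ¬ IsConj 1 (u k) := fun k => hs.z_u k 1 (one_mem _)
  have hu2 : ∀ k, ¬ IsConj z (u k) := fun k => hs.z_u k z (Subgroup.mem_zpowers z)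
  have hu3 : ∀ k, ¬ IsConj z⁻¹ (u k) := fun k => hs.z_u k _ (inv_mem (Subgroup.mem_zpowers z))
  obtain ⟨w, hw, hwc⟩ := exists_mem_conj_ppt (p := 3) g P
  by_cases hwz : w ∈ Subgroup.zpowers z
  · have hu : ∀ k, ¬ IsConj (u k) (ppt 3 g) := fun k hc =>
      hs.z_u k w hwz (hwc.trans hc.symm)
    simp only [hu, if_false, Finset.sum_const_zero, add_zero]
    rcases cube_cases hs.zord hwz with rfl | rfl | rfl
    · rw [if_pos hwc, if_neg fun h => hz1 (hwc.trans h.symm),
        if_neg fun h => hz2 (hwc.trans h.symm), add_zero, add_zero]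
    · rw [if_pos hwc, if_neg fun h => hz1 (h.trans hwc.symm),
        if_neg fun h => hs.z_inv (hwc.trans h.symm), add_zero, zero_add]
    · rw [if_pos hwc, if_neg fun h => hz2 (h.trans hwc.symm),
        if_neg fun h => hs.z_inv (h.trans hwc.symm), add_zero, zero_add]
  · obtain ⟨k, t, -, ht⟩ := (hs.cover w hw).resolve_left hwz
    have hk : IsConj (u k) (ppt 3 g) := (isConj_iff.2 ⟨t, ht⟩).trans hwc
    rw [if_neg fun h => hu1 k (h.trans hk.symm), if_neg fun h => hu2 k (h.trans hk.symm),
      if_neg fun h => hu3 k (h.trans hk.symm), Finset.sum_eq_single k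
        (fun j _ hj => if_neg fun h => hj (hs.u_inj j k (h.trans hk.symm)))
        (fun h => absurd (Finset.mem_univ k) h), if_pos hk, zero_add, zero_add, zero_add]

theorem value_const (hM : IsPModular 3 M) {χ : IrrCharacter G} (hχ : χ ∈ principalBlock M G)
    (k : Fin m) {c : Subgroup.centralizer ({u k} : Set G)} (hc : ¬ 3 ∣ orderOf c) :
    (χ : G → ℂ) (u k * (c : G)) = (χ : G → ℂ) (u k) :=
  value_rank_one hM (hs.u_pow k) (hs.nil k) hχ hc

theorem T_u {f f' : G → ℂ} (k : Fin m) (hf : IsClassFunction G f) (hf' : IsClassFunction G f')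
    (hfc : ∀ c : Subgroup.centralizer ({u k} : Set G), ¬ 3 ∣ orderOf c → f (u k * (c : G)) = f (u k))
    (hfc' : ∀ c : Subgroup.centralizer ({u k} : Set G), ¬ 3 ∣ orderOf c →
      f' (u k * (c : G)) = f' (u k)) :
    T 3 (u k) f f' = f (u k) * conj (f' (u k)) / 9 := by
  rw [T_const (hs.u_pow k) (hs.nil k) hf hf' hfc hfc', hs.nine k]
  norm_num

theorem T_u_irr (hM : IsPModular 3 M) {χ η : IrrCharacter G} (hχ : χ ∈ principalBlock M G)
    (hη : η ∈ principalBlock M G) (k : Fin m) :
    T 3 (u k) (χ : G → ℂ) (η : G → ℂ) = (χ : G → ℂ) (u k) * conj ((η : G → ℂ) (u k)) / 9 :=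
  hs.T_u k (irr_classFun χ) (irr_classFun η) (fun _ hc => hs.value_const hM hχ k hc)
    fun _ hc => hs.value_const hM hη k hc

/-- The columns at the non-central elements. -/
theorem column (hM : IsPModular 3 M) (j k : Fin m) :
    ∑ χ ∈ bset M G, (χ : G → ℂ) (u j) * conj ((χ : G → ℂ) (u k)) = if j = k then 9 else 0 := by
  classical
  by_cases hjk : j = k
  · subst hjk
    rw [if_pos rfl]
    have h := sum_T_self hM (hs.u_pow j)
    rw [rank_one_of_complement hM (hs.nil j), Nat.cast_one] at h
    calc ∑ χ ∈ bset M G, (χ : G → ℂ) (u j) * conj ((χ : G → ℂ) (u j))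
        = ∑ χ ∈ bset M G, 9 * T 3 (u j) (χ : G → ℂ) (χ : G → ℂ) := Finset.sum_congr rfl fun χ hχ => by
          rw [hs.T_u_irr hM (mem_bset.1 hχ) (mem_bset.1 hχ)]
          ring
      _ = 9 := by
          rw [← Finset.mul_sum, show bset M G = Finset.univ.filter (· ∈ principalBlock M G) by
            ext; simp [bset], h, mul_one]
  · rw [if_neg hjk]
    have h := section_orth hM (g := u j) (h := u k) (x := u j) (z := u k)
      ⟨1, mul_one _, Commute.one_right _, hs.u_pow j, not_dvd_one'⟩
      ⟨1, mul_one _, Commute.one_right _, hs.u_pow k, not_dvd_one'⟩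
      (fun hc => hjk (hs.u_inj j k hc)) (isPBlock_principalBlock (M := M) (G := G))
    simp only [irr_apply_inv] at h
    rwa [finsum_bset] at h

/-- A column at a non-central element is orthogonal to the regular elements. -/
theorem column_reg (hM : IsPModular 3 M) (k : Fin m) {y : G} (hy : ¬ 3 ∣ orderOf y) :
    ∑ χ ∈ bset M G, (χ : G → ℂ) y * conj ((χ : G → ℂ) (u k)) = 0 := by
  have h := section_orth hM (g := y) (h := u k) (x := 1) (z := u k)
    ⟨y, one_mul _, Commute.one_left _, ⟨0, by simp⟩, hy⟩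
    ⟨1, mul_one _, Commute.one_right _, hs.u_pow k, not_dvd_one'⟩
    (hs.not_conj_one (hs.u_ne_one k)) (isPBlock_principalBlock (M := M) (G := G))
  simp only [irr_apply_inv] at h
  rwa [finsum_bset] at h

/-- Brauer's count. -/
theorem card_eq (hM : IsPModular 3 M) :
    Nat.card (principalBlock M G) = blockRank 3 (principalBlock M G) +
      2 * blockRank 3 (principalBlock M (Subgroup.centralizer ({z} : Set G))) + m := by
  classical
  have h0 := sum_T_one hM (G := G) (p := 3)
  have h1 := sum_T_self hM hs.z_pow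
  have h2 := sum_T_self hM hs.zinv_pow
  rw [blockRank_congr (centralizer_inv z)] at h2
  have h3 : ∀ k, ∑ χ ∈ bset M G, T 3 (u k) (χ : G → ℂ) (χ : G → ℂ) = 1 := fun k => by
    rw [show bset M G = Finset.univ.filter (· ∈ principalBlock M G) by ext; simp [bset],
      sum_T_self hM (hs.u_pow k), rank_one_of_complement hM (hs.nil k), Nat.cast_one]
  have hb : bset M G = Finset.univ.filter (· ∈ principalBlock M G) := by ext; simp [bset]
  rw [← @Nat.cast_inj ℂ, card_bset, Finset.cast_card (R := ℂ),
    Finset.sum_congr rfl fun (χ : IrrCharacter G) _ => (classInner_self_irr χ.2).symm,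
    Finset.sum_congr rfl fun (χ : IrrCharacter G) _ =>
      hs.classInner_sections (χ : G → ℂ) (χ : G → ℂ),
    Finset.sum_add_distrib, Finset.sum_add_distrib, Finset.sum_add_distrib, Finset.sum_comm,
    Finset.sum_congr rfl fun k _ => h3 k]
  rw [hb, h0, h1, h2, Finset.sum_const, Finset.card_univ, Fintype.card_fin, nsmul_eq_mul, mul_one]
  push_cast
  ring

/-- The values at the non-central elements when the classes are closed under inversion. -/
theorem exists_int (hf : Flip z u) (χ : IrrCharacter G) (k : Fin m) :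
    ∃ d : ℤ, (χ : G → ℂ) (u k) = d ∧ (3 : ℤ) ∣ d - (charDegree (χ : G → ℂ) : ℤ) := by
  classical
  obtain ⟨g, -, hg⟩ := hf k
  have hreal : conj ((χ : G → ℂ) (u k)) = (χ : G → ℂ) (u k) := by
    rw [← irr_apply_inv, ← hg]
    exact irr_classFun χ (u k) g
  obtain ⟨n, ρ, hρ⟩ := irr_isChar χ
  obtain ⟨b, c, -, hc, hk⟩ := exists_rep_eigenbasis ρ (u k)
  have h1 := hk 1
  simp only [pow_one] at h1
  rw [hρ] at h1
  have h0 : (χ : G → ℂ) 1 = n := by
    have := hk 0
    rw [pow_zero, hρ] at this
    simpa using this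
  have hdeg : charDegree (χ : G → ℂ) = n := by
    have := charDeg_spec' χ
    rw [h0] at this
    exact_mod_cast this.symm
  have hroot : ∀ i, c i + conj (c i) = if c i = 1 then 2 else -1 := by
    intro i
    have h3 : c i ^ 3 = 1 := by
      obtain ⟨j, hj⟩ := orderOf_dvd_of_pow_eq_one (x := u k) (n := 3)
        (hs.uord k ▸ pow_orderOf_eq_one (u k))
      rw [hj, pow_mul, hc i, one_pow]
    split_ifs with hi
    · rw [hi, map_one]; norm_num
    · have hz : c i ^ 2 + c i + 1 = 0 := by
        have : (c i - 1) * (c i ^ 2 + c i + 1) = 0 := by linear_combination h3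
        exact (mul_eq_zero.1 this).resolve_left (sub_ne_zero.2 hi)
      have hn : ‖c i‖ = 1 := Complex.norm_eq_one_of_pow_eq_one h3 (by norm_num)
      have hne : c i ≠ 0 := fun e => by rw [e, norm_zero] at hn; exact zero_ne_one hn
      have hcj : conj (c i) = c i ^ 2 := by
        refine mul_left_cancel₀ hne ?_
        rw [Complex.mul_conj', hn]
        push_cast
        linear_combination -h3
      rw [hcj]
      linear_combination hz
  set n₁ := (Finset.univ.filter fun i => c i = 1).card with hn₁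
  have h2 : 2 * (χ : G → ℂ) (u k) = ((3 * (n₁ : ℤ) - n : ℤ) : ℂ) := by
    calc 2 * (χ : G → ℂ) (u k) = ∑ i, (c i + conj (c i)) := by
          rw [Finset.sum_add_distrib, ← map_sum, ← h1, hreal, two_mul]
      _ = ∑ i, ((3 : ℂ) * (if c i = 1 then 1 else 0) - 1) := Finset.sum_congr rfl fun i _ => by
          rw [hroot i]; split_ifs <;> norm_num
      _ = _ := by
          rw [Finset.sum_sub_distrib, ← Finset.mul_sum, Finset.sum_boole, Finset.sum_const,
            Finset.card_univ, Fintype.card_fin, nsmul_eq_mul, mul_one, ← hn₁, Module.finrank_fin_fun]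
          push_cast
          ring
  obtain ⟨d, hd⟩ : ∃ d : ℤ, (χ : G → ℂ) (u k) = d := by
    obtain ⟨d, hd⟩ := int_of_isIntegral_rat (q := ((3 * (n₁ : ℤ) - n : ℤ) : ℚ) / 2) (by
      have : (((((3 * (n₁ : ℤ) - n : ℤ) : ℚ) / 2) : ℚ) : ℂ) = (χ : G → ℂ) (u k) := by
        push_cast at h2 ⊢
        linear_combination -(1 / 2 : ℂ) * h2
      rw [this]
      exact IsChar.isIntegral (irr_isChar χ) _)
    refine ⟨d, ?_⟩
    rw [← hd]
    push_cast at h2 ⊢
    linear_combination (1 / 2 : ℂ) * h2
  refine ⟨d, hd, d - n₁, ?_⟩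
  rw [hdeg]
  rw [hd] at h2
  have h4 : 2 * d = 3 * (n₁ : ℤ) - n := by exact_mod_cast h2
  linarith

/-- A character of the principal block does not vanish on all singular elements. -/
theorem not_vanish (hM : IsPModular 3 M) {χ : IrrCharacter G} (hχ : χ ∈ principalBlock M G)
    (hz : ∀ c : Subgroup.centralizer ({z} : Set G), ¬ 3 ∣ orderOf c →
      (χ : G → ℂ) (z * (c : G)) = 0)
    (hu : ∀ k, (χ : G → ℂ) (u k) = 0) : False := by
  classical
  cases nonempty_fintype (Subgroup.centralizer ({z} : Set G))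
  cases nonempty_fintype (Subgroup.centralizer ({z⁻¹} : Set G))
  by_cases h1 : χ = trivialIrr G
  · have := hz 1 not_dvd_one'
    rw [h1] at this
    simp [trivialIrr] at this
  refine (mem_iff_T_one hM χ).1 hχ ?_
  have h := hs.classInner_sections (χ : G → ℂ) (trivialIrr G : G → ℂ)
  rw [classInner_irr_ne χ.2 (trivialIrr G).2 fun e => h1 (Subtype.ext e),
    Finset.sum_eq_zero fun k _ => by
      rw [hs.T_u_irr hM hχ (trivial_mem_principalBlock hM) k, hu k, zero_mul, zero_div],
    T_eq_cent hs.z_pow (irr_classFun χ) (irr_classFun (trivialIrr G)),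
    T_eq_cent hs.zinv_pow (irr_classFun χ) (irr_classFun (trivialIrr G)),
    Finset.sum_eq_zero fun c hc => by rw [hz c (Finset.mem_filter.1 hc).2, zero_mul],
    Finset.sum_eq_zero fun c hc => ?_] at h
  · simpa using h.symm
  · have hc' : (c : G) ∈ Subgroup.centralizer ({z} : Set G) := by
      exact (SetLike.ext_iff.1 (centralizer_inv z) _).1 c.2
    have hinv : ¬ 3 ∣ orderOf (⟨(c : G)⁻¹, inv_mem hc'⟩ : Subgroup.centralizer ({z} : Set G)) := by
      rw [Subgroup.orderOf_mk, orderOf_inv, Subgroup.orderOf_coe]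
      exact (Finset.mem_filter.1 hc).2
    have h0 := hz _ hinv
    have : (χ : G → ℂ) (z⁻¹ * (c : G)) = 0 := by
      rw [show z⁻¹ * (c : G) = ((c : G)⁻¹ * z)⁻¹ by group, Subgroup.mem_centralizer_singleton_iff.1
        (inv_mem hc'), irr_apply_inv, h0, map_zero]
    rw [this, zero_mul]

/-- The members of height zero have degree prime to three. -/
theorem height_zero_iff (hM : IsPModular 3 M) (χ : IrrCharacter G) :
    blockHeight 3 (principalBlock M G) (χ : G → ℂ) = 0 ↔ ¬ 3 ∣ charDegree (χ : G → ℂ) := by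
  have h0 : sInf ((fun ψ : IrrCharacter G => (charDegree (ψ : G → ℂ)).factorization 3) ''
      principalBlock M G) = 0 := by
    refine Nat.sInf_eq_zero.2 (.inl ⟨trivialIrr G, trivial_mem_principalBlock hM, ?_⟩)
    show (charDegree (fun _ : G => (1 : ℂ))).factorization 3 = 0
    rw [charDeg_trivial, Nat.factorization_one]
    rfl
  rw [blockHeight, h0, Nat.sub_zero]
  constructor
  · intro h hd
    exact absurd h (Nat.Prime.factorization_pos_of_dvd Nat.prime_three (charDeg_pos χ).ne' hd).ne'
  · exact fun h => Nat.factorization_eq_zero_of_not_dvd h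

end Setup

end Cfsg.Agent.Block.ExtraThree
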